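import Mathlib
import Groth.Prelude.Def_CAlg
import Groth.Agent.E4O.DimField
import Groth.Agent.EGA4Alg4.DepthChange
import Groth.Agent.CAlg1.CMPoly

/-!
Gluing two Cohen–Macaulay cones along a Cohen–Macaulay cone of codimension one.
-/

set_option autoImplicit false
universe u v

open IsLocalRing CategoryTheory Abelian
open Groth.Agent.EGA4Alg4

namespace Groth.Agent.Grass54

theorem depth_left_of_exact {R : Type v} [CommRing R] [IsLocalRing R] [IsNoetherianRing R]
    {N₁ N₂ N₃ : Type v} [AddCommGroup N₁] [Module R N₁] [Module.Finite R N₁] [AddCommGroup N₂] [Module R N₂]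
    [Module.Finite R N₂] [AddCommGroup N₃] [Module R N₃] [Module.Finite R N₃] [Nontrivial N₁] [Nontrivial N₂]
    [Nontrivial N₃]
    (f : N₁ →ₗ[R] N₂) (g : N₂ →ₗ[R] N₃) (hf : Function.Injective f) (hg : Function.Surjective g)
    (hfg : Function.Exact f g) (e : ℕ) (h2 : (e : ℕ∞) ≤ LocCoh.depth R N₂)
    (h3 : ((e - 1 : ℕ) : ℕ∞) ≤ LocCoh.depth R N₃) : (e : ℕ∞) ≤ LocCoh.depth R N₁ := by
  refine (natCast_le_depth_iff_ext e).mpr fun i hi => ?_
  let S : ShortComplex (ModuleCat.{v} R) := ShortComplex.mk (ModuleCat.ofHom f) (ModuleCat.ofHom g)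
    (ModuleCat.hom_ext (LinearMap.ext fun x => (hfg _).mpr ⟨x, rfl⟩))
  have hS : S.ShortExact :=
    { exact := (ShortComplex.ShortExact.moduleCat_exact_iff_function_exact S).mpr hfg
      mono_f := (ModuleCat.mono_iff_injective _).mpr hf
      epi_g := (ModuleCat.epi_iff_surjective _).mpr hg }
  have z2 := (natCast_le_depth_iff_ext e).mp h2 i hi
  rcases i with _ | j
  · constructor
    intro a b
    haveI := (ModuleCat.mono_iff_injective S.f).2 hf
    exact Ext.homEquiv₀.injective ((cancel_mono S.f).1 (Ext.homEquiv₀.symm.injective (Subsingleton.elim _ _)))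
  · have z3 := (natCast_le_depth_iff_ext (e - 1)).mp h3 j (by omega)
    constructor
    intro a b
    refine sub_eq_zero.1 ?_
    obtain ⟨x, hx⟩ := Ext.covariant_sequence_exact₁ (ModuleCat.of R (ResidueField R)) hS (a - b)
      (Subsingleton.elim _ _) (rfl : j + 1 = j + 1)
    rw [← hx, Subsingleton.elim x 0, Ext.zero_comp]

theorem depth_prod_ge {R : Type v} [CommRing R] [IsLocalRing R] [IsNoetherianRing R]
    {N₁ N₃ : Type v} [AddCommGroup N₁] [Module R N₁] [Module.Finite R N₁] [AddCommGroup N₃] [Module R N₃]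
    [Module.Finite R N₃] [Nontrivial N₁] [Nontrivial N₃] (e : ℕ) (h1 : (e : ℕ∞) ≤ LocCoh.depth R N₁)
    (h3 : (e : ℕ∞) ≤ LocCoh.depth R N₃) : (e : ℕ∞) ≤ LocCoh.depth R (N₁ × N₃) := by
  refine (natCast_le_depth_iff_ext e).mpr fun i hi => ?_
  have z1 := AddCommGrpCat.isZero_of_iff_subsingleton.mpr ((natCast_le_depth_iff_ext e).mp h1 i hi)
  have z3 := AddCommGrpCat.isZero_of_iff_subsingleton.mpr ((natCast_le_depth_iff_ext e).mp h3 i hi)
  have hfg : Function.Exact (LinearMap.inl R N₁ N₃) (LinearMap.snd R N₁ N₃) := Function.Exact.inl_snd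
  let S : ShortComplex (ModuleCat.{v} R) := ShortComplex.mk (ModuleCat.ofHom (LinearMap.inl R N₁ N₃))
    (ModuleCat.ofHom (LinearMap.snd R N₁ N₃)) (ModuleCat.hom_ext (LinearMap.ext fun x => (hfg _).mpr ⟨x, rfl⟩))
  have hS : S.ShortExact :=
    { exact := (ShortComplex.ShortExact.moduleCat_exact_iff_function_exact S).mpr hfg
      mono_f := (ModuleCat.mono_iff_injective _).mpr LinearMap.inl_injective
      epi_g := (ModuleCat.epi_iff_surjective _).mpr LinearMap.snd_surjective }
  exact AddCommGrpCat.subsingleton_of_isZero <| ShortComplex.Exact.isZero_of_both_zeros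
    (Ext.covariant_sequence_exact₂' (ModuleCat.of R (ResidueField R)) hS i)
    (z1.eq_zero_of_src _) (z3.eq_zero_of_tgt _)

theorem local_glue {L : Type v} [CommRing L] [IsLocalRing L] [IsNoetherianRing L] (a b : Ideal L)
    (hab : a ⊓ b = ⊥) (e : ℕ)
    (ha : LocCoh.IsCohenMacaulayLocalRing (L ⧸ a)) (hb : LocCoh.IsCohenMacaulayLocalRing (L ⧸ b))
    (hc : LocCoh.IsCohenMacaulayLocalRing (L ⧸ (a ⊔ b)))
    (had : ringKrullDim (L ⧸ a) = (e : WithBot ℕ∞)) (hbd : ringKrullDim (L ⧸ b) = (e : WithBot ℕ∞))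
    (hcd : ringKrullDim (L ⧸ (a ⊔ b)) = ((e - 1 : ℕ) : WithBot ℕ∞)) :
    LocCoh.IsCohenMacaulayLocalRing L ∧ ringKrullDim L = (e : WithBot ℕ∞) := by
  have hdepth : ∀ (c : Ideal L) (k : ℕ), LocCoh.IsCohenMacaulayLocalRing (L ⧸ c) →
      ringKrullDim (L ⧸ c) = (k : WithBot ℕ∞) → LocCoh.depth L (L ⧸ c) = k := by
    intro c k hcm hk
    haveI := hcm.toIsLocalRing
    haveI : IsLocalHom (algebraMap L (L ⧸ c)) :=
      IsLocalHom.of_surjective _ Ideal.Quotient.mk_surjective
    rw [depth_eq_of_finite (A := L) (B := L ⧸ c)]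
    have h := hcm.supportDim_eq_depth
    rw [Module.supportDim_self_eq_ringKrullDim, hk] at h
    exact_mod_cast h.symm
  have hupper : ringKrullDim L ≤ (e : WithBot ℕ∞) := by
    refine iSup_le fun l => ?_
    have key : ∀ c : Ideal L, c ≤ l.head.asIdeal → (l.length : WithBot ℕ∞) ≤ ringKrullDim (L ⧸ c) := by
      intro c hc
      rw [ringKrullDim_quotient]
      exact Order.LTSeries.length_le_krullDim
        ⟨l.length, fun i => ⟨l i, fun x hx => (l.head_le i) (hc hx)⟩, fun i => l.step i⟩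
    have hmul : a * b ≤ l.head.asIdeal := by
      refine le_trans Ideal.mul_le_inf ?_
      rw [hab]; exact bot_le
    rcases l.head.isPrime.mul_le.1 hmul with h | h
    · exact (key a h).trans_eq had
    · exact (key b h).trans_eq hbd
  have hlower : (e : WithBot ℕ∞) ≤ ringKrullDim L := had ▸ ringKrullDim_quotient_le a
  have hdim := le_antisymm hupper hlower
  refine ⟨?_, hdim⟩
  haveI := ha.toIsLocalRing
  haveI := hb.toIsLocalRing
  haveI := hc.toIsLocalRing
  haveI : Nontrivial ((L ⧸ a) × (L ⧸ b)) := inferInstance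
  let f : L →ₗ[L] (L ⧸ a) × (L ⧸ b) := (Submodule.mkQ a).prod (Submodule.mkQ b)
  let g : (L ⧸ a) × (L ⧸ b) →ₗ[L] L ⧸ (a ⊔ b) :=
    (Submodule.mapQ a (a ⊔ b) LinearMap.id le_sup_left).coprod
      (- Submodule.mapQ b (a ⊔ b) LinearMap.id le_sup_right)
  have hf : Function.Injective f := by
    rw [injective_iff_map_eq_zero]
    intro x hx
    have h1 := congrArg Prod.fst hx
    have h2 := congrArg Prod.snd hx
    simp only [f, LinearMap.prod_apply, Function.prod_apply, Prod.fst_zero, Prod.snd_zero, Submodule.mkQ_apply,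
      Submodule.Quotient.mk_eq_zero] at h1 h2
    have : x ∈ a ⊓ b := ⟨h1, h2⟩
    rwa [hab] at this
  have hg : Function.Surjective g := by
    intro z
    obtain ⟨x, rfl⟩ := Submodule.Quotient.mk_surjective _ z
    exact ⟨(Submodule.Quotient.mk x, 0), by simp [g]⟩
  have hfg : Function.Exact f g := by
    rintro ⟨y, z⟩
    obtain ⟨y, rfl⟩ := Submodule.Quotient.mk_surjective _ y
    obtain ⟨z, rfl⟩ := Submodule.Quotient.mk_surjective _ z
    constructor
    · intro h
      simp only [g, LinearMap.coprod_apply, LinearMap.neg_apply, Submodule.mapQ_apply, LinearMap.id_apply,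
        ← sub_eq_add_neg, ← Submodule.Quotient.mk_sub, Submodule.Quotient.mk_eq_zero, Submodule.mem_sup] at h
      obtain ⟨i, hi, j, hj, hij⟩ := h
      refine ⟨y - i, Prod.ext ?_ ?_⟩
      · change Submodule.Quotient.mk (y - i) = Submodule.Quotient.mk y
        rw [Submodule.Quotient.eq]
        simpa using hi
      · change Submodule.Quotient.mk (y - i) = Submodule.Quotient.mk z
        rw [Submodule.Quotient.eq]
        have : y - i - z = j := by rw [sub_right_comm, ← hij]; abel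
        rwa [this]
    · rintro ⟨x, hx⟩
      rw [← hx]
      simp [f, g]
  have h2 : (e : ℕ∞) ≤ LocCoh.depth L ((L ⧸ a) × (L ⧸ b)) :=
    depth_prod_ge e (hdepth _ _ ha had).ge (hdepth _ _ hb hbd).ge
  have h3 : ((e - 1 : ℕ) : ℕ∞) ≤ LocCoh.depth L (L ⧸ (a ⊔ b)) := (hdepth _ _ hc hcd).ge
  have h1 := depth_left_of_exact f g hf hg hfg e h2 h3
  rw [CAlg1.cmLocal_iff, hdim]
  exact WithBot.coe_le_coe.2 h1

theorem height_map_eq_dim {k A : Type v} [Field k] [CommRing A] [Algebra k A] [Algebra.FiniteType k A]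
    (I M : Ideal A) [M.IsMaximal] (hIM : I ≤ M)
    (hres : Function.Surjective (algebraMap k (A ⧸ M))) (hmin : ∀ p ∈ I.minimalPrimes, p ≤ M) :
    ((M.map (Ideal.Quotient.mk I)).height : WithBot ℕ∞) = ringKrullDim (A ⧸ I) := by
  haveI hMI : (M.map (Ideal.Quotient.mk I)).IsPrime :=
    Ideal.map_isPrime_of_surjective Ideal.Quotient.mk_surjective (by rw [Ideal.mk_ker]; exact hIM)
  refine le_antisymm (Ideal.height_le_ringKrullDim_of_ne_top hMI.ne_top) ?_
  rw [ringKrullDim_quotient]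
  refine iSup_le fun l => ?_
  obtain ⟨p, hp, hpl⟩ := Ideal.exists_minimalPrimes_le (J := l.head.1.asIdeal) (I := I) (fun x hx => l.head.2 hx)
  haveI := hp.1.1
  have hpM := hmin p hp
  haveI : Algebra.FiniteType k (A ⧸ p) :=
    Algebra.FiniteType.of_surjective (Ideal.Quotient.mkₐ k p) Ideal.Quotient.mk_surjective
  haveI hMp : (M.map (Ideal.Quotient.mk p)).IsPrime :=
    Ideal.map_isPrime_of_surjective Ideal.Quotient.mk_surjective (by rw [Ideal.mk_ker]; exact hpM)
  -- the dimension of the component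
  have hd := E4O.height_add_trdeg_eq k (A ⧸ p) (M.map (Ideal.Quotient.mk p))
  have hz : Algebra.trdeg k ((A ⧸ p) ⧸ M.map (Ideal.Quotient.mk p)) = 0 := by
    haveI : FaithfulSMul k ((A ⧸ p) ⧸ M.map (Ideal.Quotient.mk p)) :=
      (faithfulSMul_iff_algebraMap_injective _ _).2 (RingHom.injective _)
    refine trdeg_eq_zero_iff.2 ⟨fun z => ?_⟩
    obtain ⟨z, rfl⟩ := Ideal.Quotient.mk_surjective z
    obtain ⟨z, rfl⟩ := Ideal.Quotient.mk_surjective z
    obtain ⟨c, hc⟩ := hres (Ideal.Quotient.mk M z)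
    have : Ideal.Quotient.mk (M.map (Ideal.Quotient.mk p)) (Ideal.Quotient.mk p z) =
        algebraMap k ((A ⧸ p) ⧸ M.map (Ideal.Quotient.mk p)) c := by
      change Ideal.Quotient.mk (M.map (Ideal.Quotient.mk p)) (Ideal.Quotient.mk p z) =
        Ideal.Quotient.mk (M.map (Ideal.Quotient.mk p)) (Ideal.Quotient.mk p (algebraMap k A c))
      refine Ideal.Quotient.eq.2 ?_
      rw [← map_sub]
      exact Ideal.mem_map_of_mem _ (Ideal.Quotient.eq.1 hc.symm)
    rw [this]
    exact isAlgebraic_algebraMap c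
  rw [hz, add_zero] at hd
  have hle : ringKrullDim (A ⧸ p) ≤ ((M.map (Ideal.Quotient.mk p)).height : WithBot ℕ∞) := by
    rw [ringKrullDim_le_iff_isMaximal_height_le]
    intro Q hQ
    rw [WithBot.coe_le_coe]
    have hQd := E4O.height_add_trdeg_eq k (A ⧸ p) Q
    rw [← hd] at hQd
    exact Cardinal.ofENat_le_ofENat.1 (hQd ▸ le_self_add)
  refine le_trans ?_ (le_trans hle ?_)
  · rw [ringKrullDim_quotient]
    exact Order.LTSeries.length_le_krullDim
      ⟨l.length, fun i => ⟨(l i).1, fun x hx => (show l.head.1 ≤ (l i).1 from l.head_le i) (hpl hx)⟩, fun i => l.step i⟩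
  · rw [WithBot.coe_le_coe]
    let φ : PrimeSpectrum (A ⧸ p) → PrimeSpectrum (A ⧸ I) := PrimeSpectrum.comap (Ideal.Quotient.factor hp.1.2)
    have hφ : StrictMono φ := Monotone.strictMono_of_injective (fun _ _ h => Ideal.comap_mono h)
      (PrimeSpectrum.comap_injective_of_surjective _ (Ideal.Quotient.factor_surjective hp.1.2))
    have h := Order.height_le_height_apply_of_strictMono φ hφ ⟨M.map (Ideal.Quotient.mk p), hMp⟩
    rw [← PrimeSpectrum.height_eq_orderHeight, ← PrimeSpectrum.height_eq_orderHeight] at h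
    refine h.trans_eq (congrArg Ideal.height ?_)
    ext x
    obtain ⟨x, rfl⟩ := Ideal.Quotient.mk_surjective x
    simp only [φ, PrimeSpectrum.comap_asIdeal, Ideal.mem_comap, Ideal.Quotient.factor_mk,
      Ideal.mem_map_iff_of_surjective _ Ideal.Quotient.mk_surjective]
    constructor
    · rintro ⟨y, hy, hxy⟩
      refine ⟨x, ?_, rfl⟩
      have := add_mem hy (hpM (Ideal.Quotient.eq.1 hxy.symm))
      simpa using this
    · rintro ⟨y, hy, hxy⟩
      refine ⟨x, ?_, rfl⟩
      have := add_mem hy (hIM (Ideal.Quotient.eq.1 hxy.symm))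
      simpa using this

section Graded

variable {K : Type u} [Field K] {A : Type v} [CommRing A] [Algebra K A] (𝒜 : ℕ → Submodule K A) [GradedAlgebra 𝒜]

theorem sub_proj_zero_mem (x : A) : x - (DirectSum.decompose 𝒜 x 0 : A) ∈ (HomogeneousIdeal.irrelevant 𝒜).toIdeal := by
  refine (HomogeneousIdeal.mem_irrelevant_iff 𝒜 _).2 ?_
  rw [GradedRing.proj_apply, DirectSum.decompose_sub]
  simp only [DirectSum.sub_apply, AddSubgroupClass.coe_sub]
  rw [DirectSum.decompose_of_mem_same 𝒜 (SetLike.coe_mem _), sub_self]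

theorem finiteType_of_graded [IsNoetherianRing A] (h0 : ∀ a ∈ 𝒜 0, ∃ c : K, algebraMap K A c = a) :
    Algebra.FiniteType K A := by
  classical
  obtain ⟨s, hsub, hs⟩ := (Submodule.fg_span_iff_fg_span_finset_subset (R := A) (⋃ i > 0, (𝒜 i : Set A))).1
    (IsNoetherian.noetherian (Ideal.span (⋃ i > 0, (𝒜 i : Set A))))
  refine ⟨⟨s, ?_⟩⟩
  rw [eq_top_iff]
  rintro x -
  rw [← DirectSum.sum_support_decompose 𝒜 x]
  refine Subalgebra.sum_mem _ fun n _ => ?_
  have key : ∀ (n : ℕ) (a : A), a ∈ 𝒜 n → a ∈ Algebra.adjoin K (s : Set A) := by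
    intro n
    induction n using Nat.strong_induction_on with
    | _ n ih =>
    intro a ha
    rcases Nat.eq_zero_or_pos n with rfl | hn
    · obtain ⟨c, rfl⟩ := h0 a ha
      exact Subalgebra.algebraMap_mem _ c
    have hmem : a ∈ Ideal.span (s : Set A) := by
      have : a ∈ Ideal.span (⋃ i > 0, (𝒜 i : Set A)) := Ideal.subset_span (Set.mem_biUnion hn ha)
      rwa [Ideal.span, hs] at this
    obtain ⟨c, -, hc⟩ := Submodule.mem_span_finset.1 hmem
    rw [← DirectSum.decompose_of_mem_same 𝒜 ha, ← hc, DirectSum.decompose_sum, DFinsupp.finset_sum_apply,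
      AddSubmonoidClass.coe_finset_sum]
    refine Subalgebra.sum_mem _ fun y hy => ?_
    obtain ⟨i, hi, hyi⟩ := Set.mem_iUnion₂.1 (hsub hy)
    rw [smul_eq_mul]
    by_cases hin : i ≤ n
    · rw [DirectSum.coe_decompose_mul_of_right_mem_of_le 𝒜 hyi hin]
      exact Subalgebra.mul_mem _ (ih (n - i) (by omega) _ (SetLike.coe_mem _)) (Algebra.subset_adjoin hy)
    · rw [DirectSum.coe_decompose_mul_of_right_mem_of_not_le 𝒜 hyi hin]
      exact Subalgebra.zero_mem _
  exact key n _ (SetLike.coe_mem _)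

theorem mem_irrelevant_of_homogeneous_prime (h0 : ∀ a ∈ 𝒜 0, ∃ c : K, algebraMap K A c = a) {I : Ideal A}
    (hI : I.IsHomogeneous 𝒜) (hne : I ≠ ⊤) : I ≤ (HomogeneousIdeal.irrelevant 𝒜).toIdeal := by
  intro x hx
  refine (HomogeneousIdeal.mem_irrelevant_iff 𝒜 _).2 ?_
  rw [GradedRing.proj_apply]
  obtain ⟨c, hc⟩ := h0 _ (SetLike.coe_mem (DirectSum.decompose 𝒜 x 0))
  by_contra hne0
  have hc0 : c ≠ 0 := fun h => hne0 (by rw [← hc, h, map_zero])
  have : algebraMap K A c ∈ I := hc ▸ hI 0 hx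
  exact hne ((Ideal.eq_top_iff_one _).2 (by
    have h1 := I.mul_mem_left (algebraMap K A c⁻¹) this
    rwa [← map_mul, inv_mul_cancel₀ hc0, map_one] at h1))

theorem height_irrelevant [IsNoetherianRing A] (h0 : ∀ a ∈ 𝒜 0, ∃ c : K, algebraMap K A c = a) {I : Ideal A}
    (hI : I.IsHomogeneous 𝒜) (hne : I ≠ ⊤) :
    (((HomogeneousIdeal.irrelevant 𝒜).toIdeal.map (Ideal.Quotient.mk I)).height : WithBot ℕ∞) =
      ringKrullDim (A ⧸ I) := by
  classical
  haveI hA : Nontrivial A := nontrivial_of_ne (1 : A) 0 fun h => hne ((Ideal.eq_top_iff_one _).2 (h ▸ I.zero_mem))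
  set M := (HomogeneousIdeal.irrelevant 𝒜).toIdeal
  have hres : ∀ x : A, ∃ c : K, x - algebraMap K A c ∈ M := fun x => by
    obtain ⟨c, hc⟩ := h0 _ (SetLike.coe_mem (DirectSum.decompose 𝒜 x 0))
    exact ⟨c, hc ▸ sub_proj_zero_mem 𝒜 x⟩
  have hMne : M ≠ ⊤ := fun h => one_ne_zero (α := A) (by
    have h1 : (1 : A) ∈ (HomogeneousIdeal.irrelevant 𝒜).toIdeal := (show (HomogeneousIdeal.irrelevant 𝒜).toIdeal = ⊤ from h) ▸ Submodule.mem_top
    replace h1 := (HomogeneousIdeal.mem_irrelevant_iff 𝒜 _).1 h1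
    rw [GradedRing.proj_apply,
      DirectSum.decompose_of_mem_same 𝒜 SetLike.GradedOne.one_mem] at h1
    exact h1)
  haveI : M.IsMaximal := by
    refine Ideal.isMaximal_iff.2 ⟨fun h => hMne ((Ideal.eq_top_iff_one _).2 h), fun N x hMN hx hxN => ?_⟩
    obtain ⟨c, hc⟩ := hres x
    have hc0 : c ≠ 0 := fun h => hx (by rw [h, map_zero, sub_zero] at hc; exact hc)
    have h1 : algebraMap K A c ∈ N := by simpa using sub_mem hxN (hMN hc)
    have h2 := N.mul_mem_left (algebraMap K A c⁻¹) h1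
    rwa [← map_mul, inv_mul_cancel₀ hc0, map_one] at h2
  haveI := finiteType_of_graded 𝒜 h0
  let k := (algebraMap K A).range
  letI : Field k := ((RingEquiv.ofBijective (algebraMap K A).rangeRestrict
    ⟨fun a b h => (algebraMap K A).injective (congrArg Subtype.val h),
      (algebraMap K A).rangeRestrict_surjective⟩).symm.toMulEquiv.isField (Field.toIsField K) : IsField k).toField
  letI : Algebra K k := (algebraMap K A).rangeRestrict.toAlgebra
  haveI : IsScalarTower K k A := IsScalarTower.of_algebraMap_eq fun _ => rfl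
  haveI : Algebra.FiniteType k A := Algebra.FiniteType.of_restrictScalars_finiteType K k A
  refine height_map_eq_dim (k := k) I M (mem_irrelevant_of_homogeneous_prime 𝒜 h0 hI hne) ?_ ?_
  · intro z
    obtain ⟨x, rfl⟩ := Ideal.Quotient.mk_surjective z
    obtain ⟨c, hc⟩ := hres x
    exact ⟨(algebraMap K A).rangeRestrict c, (Ideal.Quotient.eq.2 hc).symm⟩
  · intro p hp
    have hle : I ≤ (p.homogeneousCore 𝒜).toIdeal := by
      have := Ideal.homogeneousCore_mono 𝒜 hp.1.2
      rwa [← hI.toIdeal_homogeneousCore_eq_self]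
    have hcp := hp.2 ⟨hp.1.1.homogeneousCore, hle⟩ (Ideal.toIdeal_homogeneousCore_le 𝒜 p)
    exact hcp.trans (mem_irrelevant_of_homogeneous_prime 𝒜 h0 (p.homogeneousCore 𝒜).isHomogeneous
      (ne_top_of_le_ne_top hp.1.1.ne_top (Ideal.toIdeal_homogeneousCore_le 𝒜 p)))

theorem nonempty_quotientLocEquiv (B : Type v) [CommRing B] (m a : Ideal B) [m.IsPrime] (q : Ideal (B ⧸ a))
    [q.IsPrime] (hq : q = m.map (Ideal.Quotient.mk a)) (ha : a ≤ m) :
    Nonempty (Localization.AtPrime m ⧸ a.map (algebraMap B (Localization.AtPrime m)) ≃+* Localization.AtPrime q) := by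
  have hM : Algebra.algebraMapSubmonoid (B ⧸ a) m.primeCompl = q.primeCompl := by
    ext y
    obtain ⟨x, rfl⟩ := Ideal.Quotient.mk_surjective y
    have hiff : Ideal.Quotient.mk a x ∈ q ↔ x ∈ m := by
      rw [hq, ← Ideal.mem_comap, Ideal.comap_map_of_surjective _ Ideal.Quotient.mk_surjective,
        ← RingHom.ker_eq_comap_bot, Ideal.mk_ker, sup_eq_left.2 ha]
    simp only [Algebra.algebraMapSubmonoid, Submonoid.mem_map, Ideal.mem_primeCompl_iff, hiff]
    constructor
    · rintro ⟨z, hz, hzx⟩ hx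
      refine hz ?_
      have := add_mem hx (ha (Ideal.Quotient.eq.1 hzx))
      simpa using this
    · exact fun hx => ⟨x, hx, rfl⟩
  haveI : IsLocalization q.primeCompl (Localization.AtPrime m ⧸ a.map (algebraMap B (Localization.AtPrime m))) :=
    hM ▸ inferInstance
  exact ⟨(IsLocalization.algEquiv q.primeCompl _ (Localization.AtPrime q)).toRingEquiv⟩

end Graded

end Groth.Agent.Grass54
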