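import Mathlib
import Groth.Agent.Grass54.GlueCM
import Groth.Agent.EGA4Alg4.CMMod

/-!
Quotients of Cohen–Macaulay rings by regular elements.
-/

set_option autoImplicit false
universe u

open IsLocalRing RingTheory.Sequence
open Groth.Agent.EGA4Alg4

namespace Groth.Agent.Grass54

theorem cmLocal_quotient_of_regular {L : Type u} [CommRing L] (hL : LocCoh.IsCohenMacaulayLocalRing L) (y : L)
    (hy : IsSMulRegular L y) (hym : ¬ IsUnit y) : LocCoh.IsCohenMacaulayLocalRing (L ⧸ Ideal.span {y}) := by
  haveI := hL.toIsLocalRing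
  haveI : IsNoetherianRing L := hL.toIsNoetherian
  have hymem : y ∈ maximalIdeal L := (IsLocalRing.mem_maximalIdeal y).2 hym
  have hM : LocCoh.IsCohenMacaulayModule L L := hL.supportDim_eq_depth
  have hq := isCohenMacaulayModule_quotient hM (xs := [y]) ((isWeaklyRegular_singleton_iff L y).2 hy)
    (List.forall_mem_singleton.2 hymem)
  have he : (Ideal.ofList [y] • (⊤ : Submodule L L)) = Ideal.span {y} := by
    rw [smul_eq_mul, Ideal.mul_top, Ideal.ofList_singleton]
  rw [he] at hq
  haveI : Nontrivial (L ⧸ Ideal.span {y}) :=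
    Ideal.Quotient.nontrivial_iff.2 fun h => hym (Ideal.span_singleton_eq_top.1 h)
  haveI : IsLocalRing (L ⧸ Ideal.span {y}) :=
    IsLocalRing.of_surjective' (Ideal.Quotient.mk (Ideal.span {y})) Ideal.Quotient.mk_surjective
  haveI : IsLocalHom (algebraMap L (L ⧸ Ideal.span {y})) :=
    IsLocalHom.of_surjective _ Ideal.Quotient.mk_surjective
  rw [CAlg1.cmLocal_iff, ← depth_eq_of_finite (A := L) (B := L ⧸ Ideal.span {y}),
    ← Module.supportDim_quotient_eq_ringKrullDim]
  exact le_of_eq hq

theorem cm_quotient_of_regular {A : Type u} [CommRing A] [LocCoh.IsCohenMacaulayRing A] (x : A)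
    (hx : IsSMulRegular A x) : LocCoh.IsCohenMacaulayRing (A ⧸ Ideal.span {x}) where
  isCohenMacaulayLocalRing_localization p _ := by
    set P := p.comap (Ideal.Quotient.mk (Ideal.span {x}))
    have hxP : x ∈ P := by
      change Ideal.Quotient.mk (Ideal.span {x}) x ∈ p
      rw [Ideal.Quotient.eq_zero_iff_mem.2 (Ideal.mem_span_singleton_self x)]
      exact zero_mem _
    have hp : p = P.map (Ideal.Quotient.mk (Ideal.span {x})) :=
      (Ideal.map_comap_of_surjective _ Ideal.Quotient.mk_surjective p).symm
    obtain ⟨e⟩ := nonempty_quotientLocEquiv A P (Ideal.span {x}) p hp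
      (Ideal.span_le.2 (Set.singleton_subset_iff.2 hxP))
    refine CAlg1.cm_of_ringEquiv e ?_
    rw [Ideal.map_span, Set.image_singleton]
    refine cmLocal_quotient_of_regular
      (LocCoh.IsCohenMacaulayRing.isCohenMacaulayLocalRing_localization P) _ ?_ ?_
    · haveI : IsNoetherianRing A := (inferInstance : LocCoh.IsCohenMacaulayRing A).toIsNoetherian
      have h := IsWeaklyRegular.of_isLocalization (Localization.AtPrime P) P.primeCompl
        ((isWeaklyRegular_singleton_iff A x).2 hx)
      rw [List.map_singleton, isWeaklyRegular_singleton_iff] at h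
      exact h
    · exact fun h => (IsLocalization.AtPrime.isUnit_to_map_iff (Localization.AtPrime P) P x).1 h hxP

end Groth.Agent.Grass54
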