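import Mathlib
import Groth.Prelude.Def_W4bk4grassmannianPl
import Groth.Prelude.Def_CAlgX

/-!
Determinantal ideals as ideals of opposite cells.
-/

set_option autoImplicit false
universe u

open Matrix
open W4bk4grassmannian

namespace Groth.Agent.Grass54

/-- a determinant lies in the ideal of minors on any given set of rows -/
theorem det_mem_span_minors {R : Type u} [CommRing R] {t : ℕ} : ∀ {m : ℕ} (M : Matrix (Fin m) (Fin m) R)
    (rows : Fin t → Fin m), Function.Injective rows →
      M.det ∈ Ideal.span (Set.range fun c : Fin t → Fin m => (M.submatrix rows c).det) := by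
  intro m
  induction m with
  | zero =>
    intro M rows hinj
    obtain rfl : t = 0 := by
      have := Fintype.card_le_of_injective rows hinj
      simpa using this
    refine Ideal.subset_span ⟨Fin.elim0, ?_⟩
    simp [Matrix.det_isEmpty]
  | succ m ih =>
    intro M rows hinj
    by_cases hs : Function.Surjective rows
    · let e : Fin t ≃ Fin (m + 1) := Equiv.ofBijective rows ⟨hinj, hs⟩
      have h1 : (M.submatrix rows e).det = M.det := Matrix.det_submatrix_equiv_self e M
      rw [← h1]
      exact Ideal.subset_span ⟨⇑e, rfl⟩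
    · simp only [Function.Surjective, not_forall, not_exists] at hs
      obtain ⟨i, hi⟩ := hs
      choose rows' hrows' using fun a => Fin.exists_succAbove_eq (hi a)
      rw [Matrix.det_succ_row M i]
      refine sum_mem fun j _ => Ideal.mul_mem_left _ _ ?_
      have := ih (M.submatrix i.succAbove j.succAbove) rows' (fun a b hab => hinj (by rw [← hrows' a, ← hrows' b, hab]))
      refine Ideal.span_le.2 ?_ this
      rintro _ ⟨c, rfl⟩
      refine Ideal.subset_span ⟨j.succAbove ∘ c, ?_⟩
      simp only [Matrix.submatrix_submatrix]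
      rw [show i.succAbove ∘ rows' = rows from funext hrows']

variable (K : Type u) [CommRing K] {d r t : ℕ}

theorem cell_bot (i : Fin r) (j : Fin d) :
    cellMatrix K d r (Fin.natAdd d i) j = genMatrix K r d i j := by
  have h : ¬ (Fin.natAdd d i).val < d := by simp
  simp only [cellMatrix, Matrix.of_apply, dif_neg h, genMatrix]
  congr 2
  exact Fin.ext (by simp)

theorem cell_top (i : Fin d) (j : Fin d) :
    cellMatrix K d r (Fin.castAdd r i) j = if i = j then 1 else 0 := by
  simp [cellMatrix, Fin.val_inj]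

theorem cellMinor_mem (ht : 0 < t) (htd : t ≤ d) {θ : Idx d (d + r)} (hd : 0 < d)
    (hθ : d ≤ (θ.1 ⟨d - t, Nat.sub_lt hd ht⟩).val) :
    cellMinor K d r θ ∈ CAlgX.minorIdeal (genMatrix K r d) t := by
  let rows : Fin t → Fin d := fun a => ⟨d - t + a.1, by omega⟩
  have hinj : Function.Injective rows := fun a b h => Fin.ext (by
    have := congrArg Fin.val h
    simp [rows] at this
    omega)
  have hrow : ∀ a, ∃ i : Fin r, θ.1 (rows a) = Fin.natAdd d i := fun a => by
    have hle : d ≤ (θ.1 (rows a)).val :=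
      hθ.trans (θ.2.monotone (show (⟨d - t, Nat.sub_lt hd ht⟩ : Fin d) ≤ rows a from Nat.le_add_right _ _))
    exact ⟨⟨(θ.1 (rows a)).val - d, by have := (θ.1 (rows a)).isLt; omega⟩, Fin.ext (by simp; omega)⟩
  choose ρ hρ using hrow
  refine Ideal.span_le.2 ?_ (det_mem_span_minors _ rows hinj)
  rintro _ ⟨c, rfl⟩
  refine Ideal.subset_span ⟨(ρ, c), ?_⟩
  refine congrArg Matrix.det (Matrix.ext fun a b => ?_)
  simp only [Matrix.submatrix_apply, id]
  rw [hρ a, cell_bot]

theorem minor_mem_cell (hd : 0 < d) (ht : 0 < t) (htd : t ≤ d) (ρ : Fin t → Fin r) (γ : Fin t → Fin d) :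
    ((genMatrix K r d).submatrix ρ γ).det ∈
      Ideal.span {f : CellRing K d r | ∃ θ : Idx d (d + r),
        d ≤ (θ.1 ⟨d - t, Nat.sub_lt hd ht⟩).val ∧ f = cellMinor K d r θ} := by
  classical
  by_cases hρ : Function.Injective ρ
  swap
  · obtain ⟨a, b, hab, hne⟩ := Function.not_injective_iff.1 hρ
    rw [Matrix.det_zero_of_row_eq hne (funext fun c => by simp [hab])]
    exact zero_mem _
  by_cases hγ : Function.Injective γ
  swap
  · obtain ⟨a, b, hab, hne⟩ := Function.not_injective_iff.1 hγ
    rw [Matrix.det_zero_of_column_eq hne (fun c => by simp [hab])]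
    exact zero_mem _
  let C : Finset (Fin d) := (Finset.univ.image γ)ᶜ
  have hC : C.card = d - t := by
    rw [Finset.card_compl, Finset.card_image_of_injective _ hγ]; simp
  let cm : Fin (d - t) → Fin d := C.orderEmbOfFin hC
  have hcm : ∀ a b, cm a ≠ γ b := fun a b h => by
    have := Finset.orderEmbOfFin_mem C hC a
    exact Finset.mem_compl.1 this (Finset.mem_image.2 ⟨b, Finset.mem_univ _, h.symm⟩)
  let col : Fin (d - t) ⊕ Fin t → Fin d := Sum.elim cm γ
  have hcol : Function.Injective col := by
    rintro (a | a) (b | b) h <;> simp [col] at h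
    · exact congrArg _ ((C.orderEmbOfFin hC).injective h)
    · exact absurd h (hcm a b)
    · exact absurd h.symm (hcm b a)
    · exact congrArg _ (hγ h)
  have hcardsum : Fintype.card (Fin (d - t) ⊕ Fin t) = Fintype.card (Fin d) := by simp; omega
  let ec : Fin (d - t) ⊕ Fin t ≃ Fin d :=
    Equiv.ofBijective col ((Fintype.bijective_iff_injective_and_card col).2 ⟨hcol, hcardsum⟩)
  let row : Fin (d - t) ⊕ Fin t → Fin (d + r) := Sum.elim (Fin.castAdd r ∘ cm) (Fin.natAdd d ∘ ρ)
  have hrow : Function.Injective row := by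
    rintro (a | a) (b | b) h <;> simp [row] at h
    · exact congrArg _ ((C.orderEmbOfFin hC).injective h)
    · exact absurd (congrArg Fin.val h) (by have := (cm a).isLt; simp; omega)
    · exact absurd (congrArg Fin.val h) (by have := (cm b).isLt; simp; omega)
    · exact congrArg _ (hρ h)
  let Θ : Finset (Fin (d + r)) := Finset.univ.image row
  have hΘ : Θ.card = d := by
    rw [Finset.card_image_of_injective _ hrow]; simp; omega
  let θ : Idx d (d + r) := ⟨Θ.orderEmbOfFin hΘ, (Θ.orderEmbOfFin hΘ).strictMono⟩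
  have hmem : ∀ i, ∃ x, row x = θ.1 i := fun i => by
    obtain ⟨x, -, hx⟩ := Finset.mem_image.1 (Finset.orderEmbOfFin_mem Θ hΘ i)
    exact ⟨x, hx⟩
  choose g hg using hmem
  have hginj : Function.Injective g := fun a b h => θ.2.injective (by rw [← hg, ← hg, h])
  let eg : Fin d ≃ Fin (d - t) ⊕ Fin t :=
    Equiv.ofBijective g ((Fintype.bijective_iff_injective_and_card g).2 ⟨hginj, hcardsum.symm⟩)
  have hθ : d ≤ (θ.1 ⟨d - t, Nat.sub_lt hd ht⟩).val := by
    by_contra hlt
    push Not at hlt
    have hall : ∀ a : Fin (d - t + 1), ∃ b, g ⟨a.1, by omega⟩ = Sum.inl b := fun a => by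
      cases hga : g ⟨a.1, by omega⟩ with
      | inl b => exact ⟨b, rfl⟩
      | inr b =>
        have h2 := hg ⟨a.1, by omega⟩
        rw [hga] at h2
        simp [row] at h2
        have h3 : θ.1 ⟨a.1, by omega⟩ ≤ θ.1 ⟨d - t, Nat.sub_lt hd ht⟩ :=
          θ.2.monotone (Nat.le_of_lt_succ a.isLt)
        rw [← h2] at h3
        have h4 : (Fin.natAdd d (ρ b)).val ≤ (θ.1 ⟨d - t, Nat.sub_lt hd ht⟩).val := h3
        simp at h4
        omega
    choose b hb using hall
    have hb' : Function.Injective b := fun x y h => Fin.ext (by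
      simpa using congrArg Fin.val (hginj ((hb x).trans (h ▸ (hb y).symm))))
    have := Fintype.card_le_of_injective b hb'
    simp at this
  set M : Matrix (Fin d) (Fin d) (CellRing K d r) := (cellMatrix K d r).submatrix θ.1 id with hM
  have hblock : M.submatrix eg.symm ec = Matrix.fromBlocks 1 0
      (Matrix.of fun a b => genMatrix K r d (ρ a) (cm b)) ((genMatrix K r d).submatrix ρ γ) := by
    have hθe : ∀ x, θ.1 (eg.symm x) = row x := fun x => by
      rw [← hg]; exact congrArg row (eg.apply_symm_apply x)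
    refine Matrix.ext fun x y => ?_
    rcases x with a | a <;> rcases y with b | b <;> simp only [Matrix.submatrix_apply, hM, hθe, id] <;>
      simp only [row, ec, col, Equiv.ofBijective_apply, Sum.elim_inl, Sum.elim_inr, Function.comp_apply,
        Matrix.fromBlocks_apply₁₁, Matrix.fromBlocks_apply₁₂, Matrix.fromBlocks_apply₂₁,
        Matrix.fromBlocks_apply₂₂, cell_top, cell_bot, Matrix.of_apply, Matrix.submatrix_apply]
    · rw [Matrix.one_apply]
      exact if_congr ((C.orderEmbOfFin hC).injective.eq_iff) rfl rfl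
    · rw [if_neg (hcm a b)]; rfl
  have hdet : ((genMatrix K r d).submatrix ρ γ).det = (M.submatrix eg.symm ec).det := by
    rw [hblock, Matrix.det_fromBlocks_zero₁₂, Matrix.det_one, one_mul]
  have hsub : M.submatrix eg.symm ec =
      (M.submatrix ec ec).submatrix (eg.symm.trans ec.symm) id := by
    ext a b; simp
  rw [hdet, hsub, Matrix.det_permute, Matrix.det_submatrix_equiv_self]
  exact Ideal.mul_mem_left _ _ (Ideal.subset_span ⟨θ, hθ, rfl⟩)

theorem cell_ideal_eq (hd : 0 < d) (ht : 0 < t) (htd : t ≤ d) :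
    Ideal.span {f : CellRing K d r | ∃ θ : Idx d (d + r),
        d ≤ (θ.1 ⟨d - t, Nat.sub_lt hd ht⟩).val ∧ f = cellMinor K d r θ} =
      CAlgX.minorIdeal (genMatrix K r d) t := by
  refine le_antisymm (Ideal.span_le.2 ?_) (Ideal.span_le.2 ?_)
  · rintro _ ⟨θ, hθ, rfl⟩
    exact cellMinor_mem K ht htd hd hθ
  · rintro _ ⟨⟨ρ, γ⟩, rfl⟩
    exact minor_mem_cell K hd ht htd ρ γ

end Groth.Agent.Grass54
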