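import Mathlib
import Groth.Prelude.Def_W4bk4grassmannianPl

/-!
The Grassmannian is cut out set-theoretically by the Plücker quadrics.
-/

set_option autoImplicit false
universe u

open Matrix W4bk4grassmannian

namespace Groth.Agent.Grass54

variable (K : Type u) [Field K] {d n : ℕ}

/-- signed coordinate of a point at an arbitrary tuple -/
noncomputable def qc (q : Idx d n → K) (a : Fin d → Fin n) : K := MvPolynomial.eval q (coord K d n a)

theorem qc_of_not_card (q : Idx d n → K) {a : Fin d → Fin n} (h : (Finset.univ.image a).card ≠ d) :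
    qc K q a = 0 := by
  simp [qc, coord, h]

theorem qc_of_card (q : Idx d n → K) {a : Fin d → Fin n} (h : (Finset.univ.image a).card = d) :
    qc K q a = (-1) ^ invCount d n a * q (sortIdx d n a h) := by
  simp [qc, coord, h]

variable {K}

theorem injective_of_card {a : Fin d → Fin n} (h : (Finset.univ.image a).card = d) :
    Function.Injective a := by
  intro x y hxy
  have := Finset.injOn_of_card_image_eq (s := Finset.univ) (f := a) (by simpa using h)
  exact this (Finset.mem_coe.2 (Finset.mem_univ x)) (Finset.mem_coe.2 (Finset.mem_univ y)) hxy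

theorem sign_eq_neg_one_pow (σ : Equiv.Perm (Fin d)) :
    Equiv.Perm.sign σ =
      (-1 : ℤˣ) ^ (Finset.univ.filter fun p : Fin d × Fin d => p.1 < p.2 ∧ σ p.2 < σ p.1).card := by
  rw [Equiv.Perm.sign_eq_prod_prod_Ioi,
    Finset.prod_sigma' (s := Finset.univ) (t := fun i => Finset.Ioi i) (f := fun i j => if σ i < σ j then (1 : ℤˣ) else -1)]
  rw [← Finset.prod_const]
  refine (Finset.prod_bij_ne_one (fun p _ _ => ⟨p.1, p.2⟩) ?_ ?_ ?_ ?_).symm
  · intro p hp _
    simp only [Finset.mem_filter, Finset.mem_univ, true_and] at hp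
    simp [hp.1]
  · intro p _ _ p' _ _ h
    simp only [Sigma.mk.inj_iff, heq_eq_eq] at h
    exact Prod.ext h.1 h.2
  · rintro ⟨i, j⟩ hij hne
    simp only [Finset.mem_sigma, Finset.mem_univ, Finset.mem_Ioi, true_and] at hij
    have : ¬ σ i < σ j := fun h => hne (if_pos h)
    exact ⟨(i, j), by simp [hij, lt_of_le_of_ne (not_lt.1 this) (fun e => hij.ne' (σ.injective e))], by simp, rfl⟩
  · intro p hp _
    simp only [Finset.mem_filter, Finset.mem_univ, true_and] at hp
    simp [hp.2.le]

theorem eval_coord_minors (A : Matrix (Fin n) (Fin d) K) (a : Fin d → Fin n) :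
    qc K (fun θ : Idx d n => (A.submatrix θ.1 id).det) a = (A.submatrix a id).det := by
  by_cases h : (Finset.univ.image a).card = d
  · rw [qc_of_card K _ h]
    set θ := sortIdx d n a h with hθ
    have hmem : ∀ t, ∃ s, θ.1 s = a t := fun t => by
      have : a t ∈ Set.range (Finset.orderEmbOfFin _ h) := by
        rw [Finset.range_orderEmbOfFin]; simp
      exact this
    choose g hg using hmem
    have hginj : Function.Injective g := fun x y e => injective_of_card h (by rw [← hg, ← hg, e])
    let σ : Equiv.Perm (Fin d) := Equiv.ofBijective g ⟨hginj, (Finite.injective_iff_surjective.1 hginj)⟩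
    have ha : a = θ.1 ∘ σ := funext fun t => (hg t).symm
    have hinv : invCount d n a =
        (Finset.univ.filter fun p : Fin d × Fin d => p.1 < p.2 ∧ σ p.2 < σ p.1).card := by
      unfold invCount
      congr 1
      ext p
      simp only [Finset.mem_filter, Finset.mem_univ, true_and, ha, Function.comp_apply, θ.2.lt_iff_lt]
    have hM : A.submatrix a id = (A.submatrix θ.1 id).submatrix σ id := by
      rw [ha]; rfl
    rw [hM, Matrix.det_permute, sign_eq_neg_one_pow, hinv]
    push_cast
    rfl
  · rw [qc_of_not_card K _ h]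
    have : ¬ Function.Injective a := fun hi => h (by rw [Finset.card_image_of_injective _ hi]; simp)
    obtain ⟨x, y, hxy, hne⟩ := Function.not_injective_iff.1 this
    rw [Matrix.det_zero_of_row_eq hne (funext fun k => by simp [hxy])]

theorem image_sorted (θ : Idx d n) : (Finset.univ.image θ.1).card = d := by
  rw [Finset.card_image_of_injective _ θ.2.injective]; simp

theorem qc_sorted (q : Idx d n → K) (θ : Idx d n) : qc K q θ.1 = q θ := by
  have h := image_sorted θ
  rw [qc_of_card K _ h]
  have h1 : invCount d n θ.1 = 0 := by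
    unfold invCount
    rw [Finset.card_eq_zero, Finset.filter_eq_empty_iff]
    intro p _ hp
    exact absurd (θ.2 hp.1) (not_lt.2 hp.2.le)
  have h2 : sortIdx d n θ.1 h = θ := by
    refine Subtype.ext ?_
    refine (Finset.orderEmbOfFin_unique h (fun x => Finset.mem_image_of_mem _ (Finset.mem_univ x)) θ.2).symm
  rw [h1, h2, pow_zero, one_mul]

theorem sortIdx_eq {a : Fin d → Fin n} (h : (Finset.univ.image a).card = d) {θ : Idx d n}
    (he : Finset.univ.image θ.1 = Finset.univ.image a) : sortIdx d n a h = θ := by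
  refine Subtype.ext ?_
  exact (Finset.orderEmbOfFin_unique h (fun x => he ▸ Finset.mem_image_of_mem _ (Finset.mem_univ x)) θ.2).symm

theorem image_sortIdx {a : Fin d → Fin n} (h : (Finset.univ.image a).card = d) :
    Finset.univ.image (sortIdx d n a h).1 = Finset.univ.image a :=
  Finset.image_orderEmbOfFin_univ _ h

theorem eval_quadric {e : ℕ} (q : Idx (e + 1) n → K) (i' : Idx e n) (j' : Idx (e + 2) n) :
    MvPolynomial.eval q (quadric K i' j') =
      ∑ h : Fin (e + 2), (-1) ^ (h.val + 1) * qc K q (Fin.snoc i'.1 (j'.1 h)) * qc K q (j'.1 ∘ h.succAbove) := by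
  simp [quadric, qc, map_sum]

theorem quadric_minors {e : ℕ} (A : Matrix (Fin n) (Fin (e + 1)) K) (i' : Idx e n) (j' : Idx (e + 2) n) :
    MvPolynomial.eval (fun θ : Idx (e + 1) n => (A.submatrix θ.1 id).det) (quadric K i' j') = 0 := by
  rw [eval_quadric]
  simp only [eval_coord_minors]
  have hrow : ∀ h : Fin (e + 2), (A.submatrix (Fin.snoc i'.1 (j'.1 h)) id).det =
      ∑ t : Fin (e + 1), (-1) ^ ((Fin.last e : ℕ) + (t : ℕ)) * A (j'.1 h) t *
        (A.submatrix i'.1 t.succAbove).det := by
    intro h
    rw [Matrix.det_succ_row _ (Fin.last e)]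
    refine Finset.sum_congr rfl fun t _ => ?_
    congr 2
    · simp
    · ext r c
      simp
  simp only [hrow, Finset.mul_sum, Finset.sum_mul]
  rw [Finset.sum_comm]
  refine Finset.sum_eq_zero fun t _ => ?_
  let N : Matrix (Fin (e + 2)) (Fin (e + 2)) K :=
    Matrix.of fun r => Fin.cons (A (j'.1 r) t) (fun c => A (j'.1 r) c)
  have hN : N.det = 0 := by
    refine Matrix.det_zero_of_column_eq (Fin.succ_ne_zero t).symm (fun r => ?_)
    simp [N]
  have h0 : ∑ h : Fin (e + 2), (-1) ^ (h : ℕ) * A (j'.1 h) t * (A.submatrix (j'.1 ∘ h.succAbove) id).det = 0 := by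
    rw [← hN, Matrix.det_succ_column_zero]
    refine Finset.sum_congr rfl fun h _ => ?_
    congr 1
  calc _ = ∑ h : Fin (e + 2), (-((-1) ^ ((Fin.last e : ℕ) + (t : ℕ)) * (A.submatrix i'.1 t.succAbove).det)) *
        ((-1) ^ (h : ℕ) * A (j'.1 h) t * (A.submatrix (j'.1 ∘ h.succAbove) id).det) :=
        Finset.sum_congr rfl fun h _ => by ring
    _ = 0 := by rw [← Finset.mul_sum, h0, mul_zero]

/-- number of entries outside of a reference index -/
def outside (θ₀ θ : Idx d n) : ℕ := (Finset.univ.image θ.1 \ Finset.univ.image θ₀.1).card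

theorem eq_of_agree {e : ℕ} (q q' : Idx (e + 1) n → K) (θ₀ : Idx (e + 1) n) (h0 : q θ₀ ≠ 0)
    (hq : ∀ i' j', MvPolynomial.eval q (quadric K i' j') = 0)
    (hq' : ∀ i' j', MvPolynomial.eval q' (quadric K i' j') = 0)
    (hagree : ∀ θ, outside θ₀ θ ≤ 1 → q θ = q' θ) : q = q' := by
  classical
  suffices ∀ m θ, outside θ₀ θ ≤ m → q θ = q' θ from funext fun θ => this _ θ le_rfl
  intro m
  induction m using Nat.strong_induction_on with
  | _ m ih =>
    intro θ hm
    by_cases h1 : outside θ₀ θ ≤ 1
    · exact hagree θ h1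
    push Not at h1
    set S := Finset.univ.image θ.1 with hS
    set S₀ := Finset.univ.image θ₀.1 with hS₀
    obtain ⟨x, hx⟩ : (S \ S₀).Nonempty := Finset.card_pos.1 (show 0 < outside θ₀ θ by omega)
    obtain ⟨hxS, hx0⟩ := Finset.mem_sdiff.1 hx
    have hi : (S.erase x).card = e := by
      rw [Finset.card_erase_of_mem hxS, image_sorted θ]; rfl
    have hj : (insert x S₀).card = e + 2 := by
      rw [Finset.card_insert_of_notMem hx0, image_sorted θ₀]
    let i' : Idx e n := ⟨(S.erase x).orderEmbOfFin hi, ((S.erase x).orderEmbOfFin hi).strictMono⟩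
    let j' : Idx (e + 2) n := ⟨(insert x S₀).orderEmbOfFin hj, ((insert x S₀).orderEmbOfFin hj).strictMono⟩
    obtain ⟨h₀, hh₀⟩ : ∃ h, j'.1 h = x := by
      have : x ∈ Set.range ((insert x S₀).orderEmbOfFin hj) := by
        rw [Finset.range_orderEmbOfFin]; exact Finset.mem_coe.2 (Finset.mem_insert_self _ _)
      exact this
    have himgi : Finset.univ.image i'.1 = S.erase x := Finset.image_orderEmbOfFin_univ _ _
    have himgj : Finset.univ.image j'.1 = insert x S₀ := Finset.image_orderEmbOfFin_univ _ _
    have hsnoc : ∀ y, Finset.univ.image (Fin.snoc (α := fun _ => Fin n) i'.1 y) = insert y (S.erase x) := by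
      intro y
      rw [← himgi]
      ext z
      simp only [Finset.mem_image, Finset.mem_univ, true_and, Finset.mem_insert]
      constructor
      · rintro ⟨k, rfl⟩
        refine Fin.lastCases ?_ (fun i => ?_) k
        · simp
        · exact Or.inr ⟨i, by simp⟩
      · rintro (rfl | ⟨i, rfl⟩)
        · exact ⟨Fin.last e, by simp⟩
        · exact ⟨i.castSucc, by simp⟩
    have hsucc : ∀ h : Fin (e + 2), Finset.univ.image (j'.1 ∘ h.succAbove) = (insert x S₀).erase (j'.1 h) := by
      intro h
      rw [← himgj]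
      ext z
      simp only [Finset.mem_image, Finset.mem_univ, true_and, Finset.mem_erase, Function.comp_apply]
      constructor
      · rintro ⟨k, rfl⟩
        exact ⟨fun e => Fin.succAbove_ne h k (j'.2.injective e), ⟨_, rfl⟩⟩
      · rintro ⟨hz, k, rfl⟩
        obtain ⟨t, ht⟩ := Fin.exists_succAbove_eq (x := k) (y := h) (fun e => hz (by rw [e]))
        exact ⟨t, by rw [ht]⟩
    have hqc : ∀ (a : Fin (e + 1) → Fin n),
        (∀ h : (Finset.univ.image a).card = e + 1, q (sortIdx _ n a h) = q' (sortIdx _ n a h)) →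
          qc K q a = qc K q' a := by
      intro a ha
      by_cases h : (Finset.univ.image a).card = e + 1
      · rw [qc_of_card K _ h, qc_of_card K _ h, ha h]
      · rw [qc_of_not_card K _ h, qc_of_not_card K _ h]
    let F : (Idx (e + 1) n → K) → Fin (e + 2) → K := fun p h =>
      (-1) ^ (h.val + 1) * qc K p (Fin.snoc i'.1 (j'.1 h)) * qc K p (j'.1 ∘ h.succAbove)
    have hF : ∀ h ∈ Finset.univ.erase h₀, F q h = F q' h := by
      intro h hh
      have hne : j'.1 h ≠ x := fun e' => Finset.ne_of_mem_erase hh (j'.2.injective (e'.trans hh₀.symm))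
      have hy : j'.1 h ∈ S₀ := by
        have : j'.1 h ∈ insert x S₀ := himgj ▸ Finset.mem_image_of_mem _ (Finset.mem_univ h)
        exact (Finset.mem_insert.1 this).resolve_left hne
      refine congrArg₂ (fun u v => (-1) ^ (h.val + 1) * u * v) (hqc _ fun hc => ?_) (hqc _ fun hc => hagree _ ?_)
      · refine ih (outside θ₀ θ - 1) (by omega) _ ?_
        unfold outside
        rw [image_sortIdx hc, hsnoc, Finset.insert_sdiff_of_mem _ hy, ← hS₀, Finset.erase_sdiff_comm,
          Finset.card_erase_of_mem (Finset.mem_sdiff.2 ⟨hxS, hx0⟩)]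
      · unfold outside
        rw [image_sortIdx hc, hsucc]
        refine le_trans (Finset.card_le_card (t := {x}) fun z hz => ?_) (by simp)
        simp only [Finset.mem_sdiff, Finset.mem_erase, Finset.mem_insert] at hz
        exact Finset.mem_singleton.2 ((hz.1.2).resolve_right hz.2)
    have h₁ := (eval_quadric q i' j').symm.trans (hq i' j')
    have h₂ := (eval_quadric q' i' j').symm.trans (hq' i' j')
    change ∑ h, F q h = 0 at h₁
    change ∑ h, F q' h = 0 at h₂
    rw [← Finset.add_sum_erase _ _ (Finset.mem_univ h₀), Finset.sum_congr rfl hF] at h₁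
    rw [← Finset.add_sum_erase _ _ (Finset.mem_univ h₀)] at h₂
    have hmain : F q h₀ = F q' h₀ := add_right_cancel (h₁.trans h₂.symm)
    simp only [F, hh₀] at hmain
    have hc1 : (Finset.univ.image (Fin.snoc (α := fun _ => Fin n) i'.1 x)).card = e + 1 := by
      rw [hsnoc, Finset.insert_erase hxS, image_sorted θ]
    have hc2 : (Finset.univ.image (j'.1 ∘ h₀.succAbove)).card = e + 1 := by
      rw [hsucc, hh₀, Finset.erase_insert hx0, image_sorted θ₀]
    rw [qc_of_card K _ hc1, qc_of_card K _ hc2, qc_of_card K _ hc1, qc_of_card K _ hc2,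
      sortIdx_eq hc1 (by rw [hsnoc, Finset.insert_erase hxS]),
      sortIdx_eq (θ := θ₀) hc2 (by rw [hsucc, hh₀, Finset.erase_insert hx0]),
      ← hagree θ₀ (by simp [outside])] at hmain
    simpa [h0] using hmain

theorem exists_matrix_of_quadrics {e : ℕ} (q : Idx (e + 1) n → K) (hq0 : q ≠ 0)
    (hq : ∀ i' j', MvPolynomial.eval q (quadric K i' j') = 0) :
    ∃ A : Matrix (Fin n) (Fin (e + 1)) K, ∀ θ : Idx (e + 1) n, q θ = (A.submatrix θ.1 id).det := by
  classical
  obtain ⟨θ₀, h0⟩ := Function.ne_iff.1 hq0
  set c := q θ₀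
  let A₁ : Matrix (Fin n) (Fin (e + 1)) K := Matrix.of fun i k => qc K q (Function.update θ₀.1 k i) / c
  let D : Matrix (Fin (e + 1)) (Fin (e + 1)) K :=
    Matrix.diagonal (Function.update (fun _ => (1 : K)) 0 c)
  have hdet : ∀ a : Fin (e + 1) → Fin n, ((A₁ * D).submatrix a id).det = c * (A₁.submatrix a id).det := by
    intro a
    have hD : D.det = c := by
      rw [Matrix.det_diagonal, Finset.prod_update_of_mem (Finset.mem_univ _)]
      simp
    rw [← hD, mul_comm D.det, ← Matrix.det_mul]
    rfl
  have hone : A₁.submatrix θ₀.1 id = 1 := by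
    ext s t
    simp only [Matrix.submatrix_apply, id, A₁, Matrix.of_apply, Matrix.one_apply]
    split_ifs with hst
    · subst hst
      rw [Function.update_eq_self, qc_sorted, div_self h0]
    · rw [qc_of_not_card, zero_div]
      intro hc
      have := injective_of_card hc (a₁ := t) (a₂ := s) (by
        rw [Function.update_self, Function.update_of_ne hst])
      exact hst this.symm
  have hsingle : ∀ (k : Fin (e + 1)) (i : Fin n),
      (A₁.submatrix (Function.update θ₀.1 k i) id).det = qc K q (Function.update θ₀.1 k i) / c := by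
    intro k i
    have : A₁.submatrix (Function.update θ₀.1 k i) id =
        (1 : Matrix (Fin (e + 1)) (Fin (e + 1)) K).updateRow k (A₁ i) := by
      rw [← hone]
      ext s t
      by_cases hs : s = k
      · subst hs; simp
      · simp [Matrix.updateRow_ne hs, Function.update_of_ne hs]
    rw [this, ← Matrix.det_transpose, ← Matrix.updateCol_transpose, Matrix.transpose_one,
      ← Matrix.cramer_apply, Matrix.cramer_one]
    rfl
  refine ⟨A₁ * D, fun θ => ?_⟩
  suffices h : q = fun θ : Idx (e + 1) n => ((A₁ * D).submatrix θ.1 id).det from congrFun h θ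
  clear θ
  refine eq_of_agree q (fun θ : Idx (e + 1) n => ((A₁ * D).submatrix θ.1 id).det) θ₀ h0 hq
    (quadric_minors _) fun θ hθ => ?_
  set S₀ := Finset.univ.image θ₀.1 with hS₀
  rcases Nat.le_one_iff_eq_zero_or_eq_one.1 hθ with h | h
  · have hsub : Finset.univ.image θ.1 ⊆ S₀ := Finset.sdiff_eq_empty_iff_subset.1 (Finset.card_eq_zero.1 h)
    have heq : θ = θ₀ := Subtype.ext (StrictMono.range_inj θ.2 θ₀.2 |>.1 (by
      have := Finset.eq_of_subset_of_card_le hsub (by rw [image_sorted θ, image_sorted θ₀])
      simpa [← Finset.coe_inj, hS₀] using congrArg (fun s : Finset (Fin n) => (s : Set (Fin n))) this))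
    rw [heq, hdet, hone, Matrix.det_one, mul_one]
  · obtain ⟨i, hi⟩ := Finset.card_eq_one.1 h
    have h' : (S₀ \ Finset.univ.image θ.1).card = 1 := by
      rw [Finset.card_sdiff_comm (by rw [image_sorted θ, image_sorted θ₀])]
      exact h
    obtain ⟨y, hy⟩ := Finset.card_eq_one.1 h'
    obtain ⟨k, -, hk⟩ := Finset.mem_image.1 (Finset.mem_sdiff.1 (hy.symm ▸ Finset.mem_singleton_self y : y ∈ S₀ \ Finset.univ.image θ.1)).1
    set a := Function.update θ₀.1 k i
    have hia : i ∈ Finset.univ.image θ.1 ∧ i ∉ S₀ :=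
      Finset.mem_sdiff.1 (hi.symm ▸ Finset.mem_singleton_self i)
    have himg : Finset.univ.image a = Finset.univ.image θ.1 := by
      ext z
      simp only [Finset.mem_image, Finset.mem_univ, true_and]
      constructor
      · rintro ⟨s, rfl⟩
        by_cases hs : s = k
        · subst hs
          rw [show a s = i from Function.update_self _ _ _]
          simpa using hia.1
        · rw [show a s = θ₀.1 s from Function.update_of_ne hs _ _]
          by_contra hno
          have : θ₀.1 s ∈ S₀ \ Finset.univ.image θ.1 := by simp [hS₀]; simpa using hno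
          rw [hy, Finset.mem_singleton, ← hk] at this
          exact hs (θ₀.2.injective this)
      · rintro ⟨s, rfl⟩
        by_cases hz : θ.1 s ∈ S₀
        · obtain ⟨t, -, ht⟩ := Finset.mem_image.1 hz
          refine ⟨t, ?_⟩
          have htk : t ≠ k := by
            rintro rfl
            have : y ∈ S₀ \ Finset.univ.image θ.1 := hy.symm ▸ Finset.mem_singleton_self y
            exact (Finset.mem_sdiff.1 this).2 (Finset.mem_image.2 ⟨s, Finset.mem_univ _, by rw [← ht, hk]⟩)
          rw [show a t = θ₀.1 t from Function.update_of_ne htk _ _, ht]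
        · have : θ.1 s ∈ Finset.univ.image θ.1 \ S₀ :=
            Finset.mem_sdiff.2 ⟨Finset.mem_image_of_mem _ (Finset.mem_univ s), hz⟩
          rw [hi, Finset.mem_singleton] at this
          exact ⟨k, (Function.update_self _ _ _).trans this.symm⟩
    have hc : (Finset.univ.image a).card = e + 1 := by rw [himg, image_sorted θ]
    have h1 := eval_coord_minors A₁ a
    rw [hsingle, qc_of_card K _ hc, qc_of_card K _ hc, sortIdx_eq hc himg.symm, mul_div_assoc] at h1
    have h2 := mul_left_cancel₀ (pow_ne_zero _ (neg_ne_zero.2 one_ne_zero)) h1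
    rw [hdet, h2, mul_div_cancel₀ _ h0]

theorem quadrics_iff {e : ℕ} (q : Idx (e + 1) n → K) (hq : q ≠ 0) :
    (∀ (i' : Idx e n) (j' : Idx (e + 2) n), MvPolynomial.eval q (quadric K i' j') = 0) ↔
      ∃ A : Matrix (Fin n) (Fin (e + 1)) K, ∀ θ : Idx (e + 1) n, q θ = (A.submatrix θ.1 id).det := by
  refine ⟨exists_matrix_of_quadrics q hq, ?_⟩
  rintro ⟨A, hA⟩ i' j'
  rw [show q = fun θ : Idx (e + 1) n => (A.submatrix θ.1 id).det from funext hA]
  exact quadric_minors A i' j'

end Groth.Agent.Grass54
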