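import Mathlib
import Groth.Agent.Grass54.Quadrics

/-!
The shuffle relations vanish on minors.
-/

set_option autoImplicit false
universe u v

open MvPolynomial W4bk4grassmannian Finset

namespace Groth.Agent.Grass54

theorem aeval_coord {K : Type u} [CommRing K] {R : Type v} [CommRing R] [Algebra K R] {d n : ℕ}
    (A : Matrix (Fin n) (Fin d) R) (a : Fin d → Fin n) :
    MvPolynomial.aeval (fun θ : Idx d n => (A.submatrix θ.1 id).det) (coord K d n a) =
      (A.submatrix a id).det := by
  classical
  by_cases h : (Finset.univ.image a).card = d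
  · rw [coord, dif_pos h]
    set θ := sortIdx d n a h with hθ
    have hmem : ∀ t, ∃ s, θ.1 s = a t := fun t => by
      have : a t ∈ Set.range (Finset.orderEmbOfFin _ h) := by
        rw [Finset.range_orderEmbOfFin]; simp
      exact this
    choose g hg using hmem
    have hginj : Function.Injective g := fun x y e => injective_of_card h (by rw [← hg, ← hg, e])
    let σ : Equiv.Perm (Fin d) := Equiv.ofBijective g ⟨hginj, (Finite.injective_iff_surjective.1 hginj)⟩
    have ha : a = θ.1 ∘ σ := funext fun t => (hg t).symm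
    have hinv : invCount d n a =
        (Finset.univ.filter fun p : Fin d × Fin d => p.1 < p.2 ∧ σ p.2 < σ p.1).card := by
      unfold invCount
      congr 1
      ext p
      simp only [Finset.mem_filter, Finset.mem_univ, true_and, ha, Function.comp_apply, θ.2.lt_iff_lt]
    have hM : A.submatrix a id = (A.submatrix θ.1 id).submatrix σ id := by
      rw [ha]; rfl
    rw [hM, Matrix.det_permute, sign_eq_neg_one_pow, map_mul, map_pow, map_neg, map_one, aeval_X, hinv]
    push_cast
    rfl
  · rw [coord, dif_neg h, map_zero]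
    have : ¬ Function.Injective a := fun hi => h (by rw [Finset.card_image_of_injective _ hi]; simp)
    obtain ⟨x, y, hxy, hne⟩ := Function.not_injective_iff.1 this
    rw [Matrix.det_zero_of_row_eq hne (funext fun k => by simp [hxy])]

section Identity

variable {d n : ℕ}

theorem card_compl_block {r : Fin d} {A : Finset (Fin (d + 1))} (hA : A.card = r.val + 1) :
    Aᶜ.card = d - r.val := by
  rw [Finset.card_compl, hA, Fintype.card_fin]; omega

/-- The permutation moving the positions in `A` to the front. -/
noncomputable def shufPerm (r : Fin d) (A : Finset (Fin (d + 1))) (hA : A.card = r.val + 1) :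
    Equiv.Perm (Fin (d + 1)) :=
  Equiv.ofBijective
    (fun k => if h : k.val ≤ r.val then A.orderEmbOfFin hA ⟨k.val, by omega⟩
      else Aᶜ.orderEmbOfFin (card_compl_block hA) ⟨k.val - (r.val + 1), by have := k.isLt; omega⟩) (by
    refine (Finite.injective_iff_bijective).1 fun x y e => ?_
    have hmem : ∀ (c : ℕ) (B : Finset (Fin (d + 1))) (hB : B.card = c) (i : Fin c), B.orderEmbOfFin hB i ∈ B :=
      fun c B hB i => Finset.orderEmbOfFin_mem B hB i
    by_cases hx : x.val ≤ r.val <;> by_cases hy : y.val ≤ r.val <;> simp only [hx, hy, dif_pos, dif_neg,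
      not_false_eq_true] at e
    · exact Fin.ext (Fin.mk.inj ((A.orderEmbOfFin hA).injective e))
    · exact absurd (e ▸ hmem _ A hA _) (Finset.mem_compl.1 (hmem _ _ (card_compl_block hA) _))
    · exact absurd (e ▸ hmem _ A hA _) (Finset.mem_compl.1 (hmem _ _ (card_compl_block hA) _))
    · have := Fin.mk.inj ((Aᶜ.orderEmbOfFin (card_compl_block hA)).injective e)
      exact Fin.ext (by omega))

theorem shufPerm_le {r : Fin d} {A : Finset (Fin (d + 1))} (hA : A.card = r.val + 1) {k : Fin (d + 1)}
    (h : k.val ≤ r.val) : shufPerm r A hA k = A.orderEmbOfFin hA ⟨k.val, by omega⟩ := by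
  simp [shufPerm, h]

theorem shufPerm_gt {r : Fin d} {A : Finset (Fin (d + 1))} (hA : A.card = r.val + 1) {k : Fin (d + 1)}
    (h : ¬ k.val ≤ r.val) :
    shufPerm r A hA k =
      Aᶜ.orderEmbOfFin (card_compl_block hA) ⟨k.val - (r.val + 1), by have := k.isLt; omega⟩ := by
  simp [shufPerm, h]

theorem shufPerm_mem_iff {r : Fin d} {A : Finset (Fin (d + 1))} (hA : A.card = r.val + 1) (k : Fin (d + 1)) :
    shufPerm r A hA k ∈ A ↔ k.val ≤ r.val := by
  by_cases h : k.val ≤ r.val
  · simp [shufPerm_le hA h, h]
  · simp only [shufPerm_gt hA h, h, iff_false]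
    exact Finset.mem_compl.1 (Finset.orderEmbOfFin_mem _ _ _)

theorem sign_shufPerm {r : Fin d} {A : Finset (Fin (d + 1))} (hA : A.card = r.val + 1) :
    Equiv.Perm.sign (shufPerm r A hA) = (-1 : ℤˣ) ^ shuffleSign r A := by
  classical
  rw [sign_eq_neg_one_pow]
  congr 1
  set π := shufPerm r A hA
  have hcross : ∀ p : Fin (d + 1) × Fin (d + 1),
      (p.1 < p.2 ∧ π p.2 < π p.1) ↔ (p.1.val ≤ r.val ∧ π p.2 ∉ A ∧ π p.2 < π p.1) := by
    rintro ⟨x, y⟩
    constructor
    · rintro ⟨hxy, hπ⟩
      have hxy' : x.val < y.val := hxy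
      by_cases hy : y.val ≤ r.val
      · exfalso
        have hx : x.val ≤ r.val := by omega
        simp only [π, shufPerm_le hA hx, shufPerm_le hA hy, (A.orderEmbOfFin hA).lt_iff_lt, Fin.lt_def] at hπ
        omega
      · by_cases hx : x.val ≤ r.val
        · exact ⟨hx, fun h => hy ((shufPerm_mem_iff hA y).1 h), hπ⟩
        · exfalso
          simp only [π, shufPerm_gt hA hx, shufPerm_gt hA hy,
            (Aᶜ.orderEmbOfFin (card_compl_block hA)).lt_iff_lt, Fin.lt_def] at hπ
          omega
    · rintro ⟨hx, hy, hπ⟩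
      rw [shufPerm_mem_iff hA] at hy
      exact ⟨Fin.lt_def.2 (by simp only at *; omega), hπ⟩
  simp only [hcross]
  have hbelow : ∀ x : Fin (r.val + 1),
      ((Finset.univ.filter fun y : Fin (d + 1) => π y ∉ A ∧ π y < A.orderEmbOfFin hA x).card : ℤ) =
        (A.orderEmbOfFin hA x).val - x.val := by
    intro x
    have e1 : (Finset.univ.filter fun y : Fin (d + 1) => π y ∉ A ∧ π y < A.orderEmbOfFin hA x).card =
        ((Finset.Iio (A.orderEmbOfFin hA x)).filter fun z => z ∉ A).card := by
      refine Finset.card_bij (fun y _ => π y) (fun y hy => ?_) (fun a _ b _ e => π.injective e)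
        (fun z hz => ⟨π.symm z, ?_, π.apply_symm_apply z⟩)
      · simp only [Finset.mem_filter, Finset.mem_univ, true_and, Finset.mem_Iio] at hy ⊢
        exact ⟨hy.2, hy.1⟩
      · simp only [Finset.mem_filter, Finset.mem_univ, true_and, Finset.mem_Iio] at hz ⊢
        simpa using ⟨hz.2, hz.1⟩
    have e2 : ((Finset.Iio (A.orderEmbOfFin hA x)).filter fun z => z ∈ A).card = x.val := by
      rw [← Fin.card_Iio x]
      symm
      refine Finset.card_bij (fun y _ => A.orderEmbOfFin hA y) (fun y hy => ?_)
        (fun a _ b _ e => (A.orderEmbOfFin hA).injective e) (fun z hz => ?_)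
      · simp only [Finset.mem_filter, Finset.mem_Iio] at hy ⊢
        exact ⟨(A.orderEmbOfFin hA).strictMono hy, Finset.orderEmbOfFin_mem _ _ _⟩
      · simp only [Finset.mem_filter, Finset.mem_Iio] at hz ⊢
        have : z ∈ Set.range (A.orderEmbOfFin hA) := by rw [Finset.range_orderEmbOfFin]; exact hz.2
        obtain ⟨y, rfl⟩ := this
        exact ⟨y, (A.orderEmbOfFin hA).lt_iff_lt.1 hz.1, rfl⟩
    have e3 := Finset.card_filter_add_card_filter_not (s := Finset.Iio (A.orderEmbOfFin hA x)) (fun z => z ∈ A)
    rw [e2, Fin.card_Iio] at e3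
    rw [e1]
    omega
  have hcount : ((Finset.univ.filter fun p : Fin (d + 1) × Fin (d + 1) =>
      p.1.val ≤ r.val ∧ π p.2 ∉ A ∧ π p.2 < π p.1).card : ℤ) =
      ∑ x : Fin (r.val + 1), (((A.orderEmbOfFin hA x).val : ℤ) - x.val) := by
    rw [← Finset.sum_congr rfl fun x _ => hbelow x]
    push_cast [Finset.card_filter]
    rw [Fintype.sum_prod_type]
    rw [← Finset.sum_filter_add_sum_filter_not Finset.univ (fun x : Fin (d + 1) => x.val ≤ r.val)]
    rw [Finset.sum_eq_zero (s := Finset.univ.filter fun x : Fin (d + 1) => ¬ x.val ≤ r.val) (fun x hx => by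
      simp only [Finset.mem_filter] at hx
      simp [hx.2]), add_zero]
    refine Finset.sum_bij (fun x hx => (⟨x.val, by simp only [Finset.mem_filter] at hx; omega⟩ : Fin (r.val + 1)))
      (fun _ _ => Finset.mem_univ _) (fun a _ b _ e => Fin.ext (by simpa using congrArg Fin.val e))
      (fun y _ => ⟨⟨y.val, by omega⟩, by simp only [Finset.mem_filter, Finset.mem_univ, true_and]; omega, Fin.ext rfl⟩)
      (fun x hx => ?_)
    simp only [Finset.mem_filter, Finset.mem_univ, true_and] at hx
    simp only [π, hx, shufPerm_le hA hx, true_and]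
  have hsumA : ∑ x : Fin (r.val + 1), ((A.orderEmbOfFin hA x).val : ℤ) = ((A.sum fun a => a.val : ℕ) : ℤ) := by
    conv_rhs => rw [← Finset.map_orderEmbOfFin_univ A hA, Finset.sum_map]
    push_cast
    rfl
  rw [Finset.sum_sub_distrib, hsumA] at hcount
  have hsum : ∑ x : Fin (r.val + 1), ((x.val : ℕ) : ℤ) = ((r.val * (r.val + 1) / 2 : ℕ) : ℤ) := by
    rw [← Nat.cast_sum, Fin.sum_univ_eq_sum_range (fun i => i), Finset.sum_range_id]
    congr 1
    rw [mul_comm]
    simp
  rw [hsum] at hcount
  unfold shuffleSign
  omega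

variable {R : Type u} [CommRing R]

/-- The product of the two minors, as a function of the moving rows. -/
def mvFun (M : Matrix (Fin n) (Fin d) R) (i j : Idx d n) (r : Fin d) (w : Fin (d + 1) → (Fin d → R)) : R :=
  Matrix.det (fun t => if h : t.val ≤ r.val then w ⟨t.val, by omega⟩ else M (i.1 t)) *
    Matrix.det (fun t => if t.val < r.val then M (j.1 t) else w ⟨t.val + 1, by omega⟩)

theorem rows1_update (M : Matrix (Fin n) (Fin d) R) (i : Idx d n) (r : Fin d) (w : Fin (d + 1) → (Fin d → R))
    (k : Fin (d + 1)) (hk : k.val ≤ r.val) (x : Fin d → R) :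
    (fun t : Fin d => if h : t.val ≤ r.val then Function.update w k x ⟨t.val, by omega⟩ else M (i.1 t)) =
      Function.update (fun t : Fin d => if h : t.val ≤ r.val then w ⟨t.val, by omega⟩ else M (i.1 t))
        ⟨k.val, by omega⟩ x := by
  funext t
  by_cases ht : t = ⟨k.val, by omega⟩
  · subst ht
    simp [hk]
  · rw [Function.update_of_ne ht]
    by_cases h : t.val ≤ r.val
    · rw [dif_pos h, dif_pos h, Function.update_of_ne]
      exact fun e => ht (Fin.ext (congrArg Fin.val e :))
    · rw [dif_neg h, dif_neg h]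

theorem rows1_update' (M : Matrix (Fin n) (Fin d) R) (i : Idx d n) (r : Fin d) (w : Fin (d + 1) → (Fin d → R))
    (k : Fin (d + 1)) (hk : ¬ k.val ≤ r.val) (x : Fin d → R) :
    (fun t : Fin d => if h : t.val ≤ r.val then Function.update w k x ⟨t.val, by omega⟩ else M (i.1 t)) =
      fun t : Fin d => if h : t.val ≤ r.val then w ⟨t.val, by omega⟩ else M (i.1 t) := by
  funext t
  by_cases h : t.val ≤ r.val
  · rw [dif_pos h, dif_pos h, Function.update_of_ne]
    exact fun e => hk (by have := congrArg Fin.val e; simp only at this; omega)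
  · rw [dif_neg h, dif_neg h]

theorem rows2_update (M : Matrix (Fin n) (Fin d) R) (j : Idx d n) (r : Fin d) (w : Fin (d + 1) → (Fin d → R))
    (k : Fin (d + 1)) (hk : ¬ k.val ≤ r.val) (x : Fin d → R) :
    (fun t : Fin d => if t.val < r.val then M (j.1 t) else Function.update w k x ⟨t.val + 1, by omega⟩) =
      Function.update (fun t : Fin d => if t.val < r.val then M (j.1 t) else w ⟨t.val + 1, by omega⟩)
        ⟨k.val - 1, by have := k.isLt; omega⟩ x := by
  funext t
  by_cases ht : t = ⟨k.val - 1, by have := k.isLt; omega⟩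
  · subst ht
    rw [Function.update_self, if_neg (by simp only; omega)]
    rw [show (⟨k.val - 1 + 1, _⟩ : Fin (d + 1)) = k from Fin.ext (by simp only; omega), Function.update_self]
  · rw [Function.update_of_ne ht]
    by_cases h : t.val < r.val
    · rw [if_pos h, if_pos h]
    · rw [if_neg h, if_neg h, Function.update_of_ne]
      exact fun e => ht (Fin.ext (by have := congrArg Fin.val e; simp only at this ⊢; omega))

theorem rows2_update' (M : Matrix (Fin n) (Fin d) R) (j : Idx d n) (r : Fin d) (w : Fin (d + 1) → (Fin d → R))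
    (k : Fin (d + 1)) (hk : k.val ≤ r.val) (x : Fin d → R) :
    (fun t : Fin d => if t.val < r.val then M (j.1 t) else Function.update w k x ⟨t.val + 1, by omega⟩) =
      fun t : Fin d => if t.val < r.val then M (j.1 t) else w ⟨t.val + 1, by omega⟩ := by
  funext t
  by_cases h : t.val < r.val
  · rw [if_pos h, if_pos h]
  · rw [if_neg h, if_neg h, Function.update_of_ne]
    exact fun e => by have := congrArg Fin.val e; simp only at this; omega

/-- The product of the two minors as a multilinear map in the moving rows. -/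
def mvMap (M : Matrix (Fin n) (Fin d) R) (i j : Idx d n) (r : Fin d) :
    MultilinearMap R (fun _ : Fin (d + 1) => (Fin d → R)) R :=
  MultilinearMap.mk' (mvFun M i j r)
    (fun w k x y => by
      simp only [mvFun]
      by_cases hk : k.val ≤ r.val
      · simp only [rows1_update M i r w k hk, rows2_update' M j r w k hk, ← add_mul]
        exact congrArg (· * _) (Matrix.det_updateRow_add _ _ x y)
      · simp only [rows1_update' M i r w k hk, rows2_update M j r w k hk, ← mul_add]
        exact congrArg (_ * ·) (Matrix.det_updateRow_add _ _ x y))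
    (fun w k c x => by
      simp only [mvFun, smul_eq_mul]
      by_cases hk : k.val ≤ r.val
      · simp only [rows1_update M i r w k hk, rows2_update' M j r w k hk, ← mul_assoc]
        exact congrArg (· * _) (Matrix.det_updateRow_smul _ _ c x)
      · simp only [rows1_update' M i r w k hk, rows2_update M j r w k hk, mul_left_comm c]
        exact congrArg (_ * ·) (Matrix.det_updateRow_smul _ _ c x))

theorem mvFun_swap (M : Matrix (Fin n) (Fin d) R) (i j : Idx d n) (r : Fin d) (w : Fin (d + 1) → (Fin d → R))
    {a b : Fin (d + 1)} (hab : a ≠ b) (hblock : a.val ≤ r.val ↔ b.val ≤ r.val) :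
    mvFun M i j r (w ∘ Equiv.swap a b) = - mvFun M i j r w := by
  by_cases ha : a.val ≤ r.val
  · have hb := hblock.1 ha
    let a' : Fin d := ⟨a.val, by omega⟩
    let b' : Fin d := ⟨b.val, by omega⟩
    have hab' : a' ≠ b' := fun e => hab (Fin.ext (congrArg Fin.val e :))
    have e1 : (fun t : Fin d => if h : t.val ≤ r.val then (w ∘ Equiv.swap a b) ⟨t.val, by omega⟩ else M (i.1 t)) =
        (fun t : Fin d => if h : t.val ≤ r.val then w ⟨t.val, by omega⟩ else M (i.1 t)) ∘ Equiv.swap a' b' := by
      funext t
      rcases eq_or_ne t a' with rfl | hta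
      · simp only [Function.comp_apply, Equiv.swap_apply_left, a', b']
        rw [dif_pos ha, dif_pos hb]
      rcases eq_or_ne t b' with rfl | htb
      · simp only [Function.comp_apply, Equiv.swap_apply_right, a', b']
        rw [dif_pos ha, dif_pos hb]
      simp only [Function.comp_apply, Equiv.swap_apply_of_ne_of_ne hta htb]
      split_ifs
      · rw [Equiv.swap_apply_of_ne_of_ne]
        · exact fun e => hta (Fin.ext (congrArg Fin.val e :))
        · exact fun e => htb (Fin.ext (congrArg Fin.val e :))
      · rfl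
    have e2 : (fun t : Fin d => if t.val < r.val then M (j.1 t) else (w ∘ Equiv.swap a b) ⟨t.val + 1, by omega⟩) =
        fun t : Fin d => if t.val < r.val then M (j.1 t) else w ⟨t.val + 1, by omega⟩ := by
      funext t
      split_ifs with h
      · rfl
      · rw [Function.comp_apply, Equiv.swap_apply_of_ne_of_ne]
        · exact fun e => by have := congrArg Fin.val e; simp only at this; omega
        · exact fun e => by have := congrArg Fin.val e; simp only at this; omega
    unfold mvFun
    rw [e1, e2]
    have := Matrix.det_permute (Equiv.swap a' b')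
      (fun t : Fin d => if h : t.val ≤ r.val then w ⟨t.val, by omega⟩ else M (i.1 t))
    rw [Equiv.Perm.sign_swap hab'] at this
    erw [this]
    push_cast
    ring
  · have hb : ¬ b.val ≤ r.val := fun h => ha (hblock.2 h)
    let a' : Fin d := ⟨a.val - 1, by have := a.isLt; omega⟩
    let b' : Fin d := ⟨b.val - 1, by have := b.isLt; omega⟩
    have hab' : a' ≠ b' := fun e => hab (Fin.ext (by have := congrArg Fin.val e; simp only [a', b'] at this; omega))
    have e1 : (fun t : Fin d => if h : t.val ≤ r.val then (w ∘ Equiv.swap a b) ⟨t.val, by omega⟩ else M (i.1 t)) =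
        fun t : Fin d => if h : t.val ≤ r.val then w ⟨t.val, by omega⟩ else M (i.1 t) := by
      funext t
      split_ifs with h
      · rw [Function.comp_apply, Equiv.swap_apply_of_ne_of_ne]
        · exact fun e => ha (by have := congrArg Fin.val e; simp only at this; omega)
        · exact fun e => hb (by have := congrArg Fin.val e; simp only at this; omega)
      · rfl
    have e2 : (fun t : Fin d => if t.val < r.val then M (j.1 t) else (w ∘ Equiv.swap a b) ⟨t.val + 1, by omega⟩) =
        (fun t : Fin d => if t.val < r.val then M (j.1 t) else w ⟨t.val + 1, by omega⟩) ∘ Equiv.swap a' b' := by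
      funext t
      rcases eq_or_ne t a' with rfl | hta
      · simp only [Function.comp_apply, Equiv.swap_apply_left, a', b']
        rw [if_neg (by omega), if_neg (by omega),
          show (⟨a.val - 1 + 1, _⟩ : Fin (d + 1)) = a from Fin.ext (by simp only; omega),
          Equiv.swap_apply_left]
        exact congrArg w (Fin.ext (by simp only; omega))
      rcases eq_or_ne t b' with rfl | htb
      · simp only [Function.comp_apply, Equiv.swap_apply_right, a', b']
        rw [if_neg (by omega), if_neg (by omega),
          show (⟨b.val - 1 + 1, _⟩ : Fin (d + 1)) = b from Fin.ext (by simp only; omega),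
          Equiv.swap_apply_right]
        exact congrArg w (Fin.ext (by simp only; omega))
      simp only [Function.comp_apply, Equiv.swap_apply_of_ne_of_ne hta htb]
      split_ifs
      · rfl
      · rw [Equiv.swap_apply_of_ne_of_ne]
        · exact fun e => hta (Fin.ext (by have := congrArg Fin.val e; simp only [a'] at this ⊢; omega))
        · exact fun e => htb (Fin.ext (by have := congrArg Fin.val e; simp only [b'] at this ⊢; omega))
    unfold mvFun
    rw [e1, e2]
    have := Matrix.det_permute (Equiv.swap a' b')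
      (fun t : Fin d => if t.val < r.val then M (j.1 t) else w ⟨t.val + 1, by omega⟩)
    rw [Equiv.Perm.sign_swap hab'] at this
    erw [this]
    push_cast
    ring

theorem mvFun_block (M : Matrix (Fin n) (Fin d) R) (i j : Idx d n) (r : Fin d) :
    ∀ (m : ℕ) (ρ : Equiv.Perm (Fin (d + 1))), ρ.support.card = m → (∀ k, (ρ k).val ≤ r.val ↔ k.val ≤ r.val) →
      ∀ w, mvFun M i j r (w ∘ ρ) = ((Equiv.Perm.sign ρ : ℤ) : R) * mvFun M i j r w := by
  intro m
  induction m using Nat.strong_induction_on with
  | _ m ih =>
    intro ρ hm hρ w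
    by_cases h1 : ρ = 1
    · subst h1; simp
    obtain ⟨x, hx⟩ : ∃ x, ρ x ≠ x := by
      by_contra h
      push Not at h
      exact h1 (Equiv.ext h)
    set τ := Equiv.swap x (ρ x)
    have hlt := Equiv.Perm.card_support_swap_mul (f := ρ) (x := x) hx
    have hblock : x.val ≤ r.val ↔ (ρ x).val ≤ r.val := (hρ x).symm
    have hτblock : ∀ k, (τ k).val ≤ r.val ↔ k.val ≤ r.val := by
      intro k
      rcases eq_or_ne k x with rfl | hk
      · simp only [τ, Equiv.swap_apply_left]; exact hρ k
      rcases eq_or_ne k (ρ x) with rfl | hk'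
      · simp only [τ, Equiv.swap_apply_right]; exact hblock
      · simp [τ, Equiv.swap_apply_of_ne_of_ne hk hk']
    have hrec := ih _ (hm ▸ hlt) (τ * ρ) rfl (fun k => (hτblock (ρ k)).trans (hρ k)) (w ∘ τ)
    have hcomp : (w ∘ τ) ∘ ⇑(τ * ρ) = w ∘ ρ := by funext k; simp [τ]
    rw [hcomp, mvFun_swap M i j r w (Ne.symm hx) hblock, map_mul, Equiv.Perm.sign_swap (Ne.symm hx)] at hrec
    rw [hrec]
    push_cast
    ring

theorem shuffle_sum_eq_zero [IsAddTorsionFree R] (M : Matrix (Fin n) (Fin d) R) (i j : Idx d n) (r : Fin d) :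
    ∑ A ∈ (Finset.univ : Finset (Finset (Fin (d + 1)))).filter (fun A => A.card = r.val + 1),
      (if hA : A.card = r.val + 1 then
        ((-1 : R) ^ shuffleSign r A) * ((M.submatrix (shuffleI i j r A hA) id).det *
          (M.submatrix (shuffleJ i j r A hA) id).det) else 0) = 0 := by
  classical
  set v : Fin (d + 1) → (Fin d → R) := fun k => M (movingRows i j r k)
  -- an alternating map in `d + 1` vectors of `R ^ d` vanishes
  have halt : ∑ π : Equiv.Perm (Fin (d + 1)), ((Equiv.Perm.sign π : ℤ) : R) * mvFun M i j r (v ∘ π) = 0 := by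
    have h0 : MultilinearMap.alternatization (mvMap M i j r) = 0 := by
      refine Module.Basis.ext_alternating (Pi.basisFun R (Fin d)) fun f hf => ?_
      exact absurd (Fintype.card_le_of_injective f hf) (by simp)
    have h1 := DFunLike.congr_fun h0 v
    rw [MultilinearMap.alternatization_apply, AlternatingMap.zero_apply] at h1
    refine (Finset.sum_congr rfl fun π _ => ?_).trans h1
    rw [MultilinearMap.domDomCongr_apply, Units.smul_def, zsmul_eq_mul]
    rfl
  let fib : Finset (Fin (d + 1)) → Finset (Equiv.Perm (Fin (d + 1))) := fun A =>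
    Finset.univ.filter fun π => ∀ k : Fin (d + 1), π k ∈ A ↔ k.val ≤ r.val
  let img : Equiv.Perm (Fin (d + 1)) → Finset (Fin (d + 1)) := fun π =>
    (Finset.univ.filter fun k : Fin (d + 1) => k.val ≤ r.val).image π
  have himg : ∀ π, (img π).card = r.val + 1 := fun π => by
    rw [Finset.card_image_of_injective _ π.injective,
      ← Finset.card_map (⟨fun k : Fin (r.val + 1) => (⟨k.val, by omega⟩ : Fin (d + 1)),
        fun a b e => Fin.ext (congrArg Fin.val e :)⟩) (s := Finset.univ) |>.trans (Finset.card_fin _)]
    congr 1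
    ext k
    simp only [Finset.mem_filter, Finset.mem_univ, true_and, Finset.mem_map, Function.Embedding.coeFn_mk]
    exact ⟨fun h => ⟨⟨k.val, by omega⟩, Fin.ext rfl⟩, by rintro ⟨a, rfl⟩; simp only; omega⟩
  have hfib : ∀ A π, π ∈ fib A ↔ img π = A := by
    intro A π
    simp only [fib, img, Finset.mem_filter, Finset.mem_univ, true_and]
    constructor
    · intro h
      ext z
      obtain ⟨k, rfl⟩ := π.surjective z
      simp [h k]
    · intro h k
      rw [← h]
      simp
  have hval : ∀ A (hA : A.card = r.val + 1), ∀ π ∈ fib A,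
      ((Equiv.Perm.sign π : ℤ) : R) * mvFun M i j r (v ∘ π) =
      ((-1 : R) ^ shuffleSign r A) * ((M.submatrix (shuffleI i j r A hA) id).det *
          (M.submatrix (shuffleJ i j r A hA) id).det) := by
    intro A hA π hπ
    set π₀ := shufPerm r A hA
    have hρ : ∀ k, ((π₀⁻¹ * π) k).val ≤ r.val ↔ k.val ≤ r.val := fun k => by
      rw [← shufPerm_mem_iff hA, Equiv.Perm.mul_apply, Equiv.Perm.coe_inv, Equiv.apply_symm_apply]
      exact (Finset.mem_filter.1 hπ).2 k
    have hw : v ∘ π = (v ∘ π₀) ∘ ⇑(π₀⁻¹ * π) := by funext k; simp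
    rw [hw, mvFun_block M i j r _ _ rfl hρ, ← mul_assoc, ← Int.cast_mul, ← Units.val_mul,
      map_mul, ← mul_assoc, mul_comm (Equiv.Perm.sign π), mul_assoc, Int.units_mul_self, mul_one,
      Equiv.Perm.sign_inv, sign_shufPerm hA]
    unfold mvFun
    congr 1
    · push_cast; rfl
    · congr 1
      · congr 1
        funext t c
        simp only [Matrix.submatrix_apply, shuffleI, Function.comp_apply, id]
        by_cases h : t.val ≤ r.val
        · rw [dif_pos h, dif_pos h]
          simp only [v, π₀, shufPerm_le hA (k := ⟨t.val, by omega⟩) h]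
        · rw [dif_neg h, dif_neg h]
      · congr 1
        funext t c
        simp only [Matrix.submatrix_apply, shuffleJ, Function.comp_apply, id]
        by_cases h : t.val < r.val
        · rw [if_pos h, dif_pos h]
        · rw [if_neg h, dif_neg h]
          simp only [v, π₀, shufPerm_gt hA (k := ⟨t.val + 1, by omega⟩) (by simp only; omega)]
          congr 3
          exact Fin.ext (by simp only; omega)
  let A₀ : Finset (Fin (d + 1)) := img 1
  have hcard : ∀ A : Finset (Fin (d + 1)), A.card = r.val + 1 → (fib A).card = (fib A₀).card := by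
    intro A hA
    set c := shufPerm r A₀ (himg 1) * (shufPerm r A hA)⁻¹
    refine Finset.card_bij' (fun π _ => c * π) (fun π _ => c⁻¹ * π) ?_ ?_ (fun π _ => by simp) (fun π _ => by simp)
    · intro π hπ
      refine Finset.mem_filter.2 ⟨Finset.mem_univ _, fun k => ?_⟩
      simp only [c, Equiv.Perm.mul_apply]
      rw [shufPerm_mem_iff, ← shufPerm_mem_iff hA, Equiv.Perm.coe_inv, Equiv.apply_symm_apply]
      exact (Finset.mem_filter.1 hπ).2 k
    · intro π hπ
      refine Finset.mem_filter.2 ⟨Finset.mem_univ _, fun k => ?_⟩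
      simp only [c, mul_inv_rev, inv_inv, Equiv.Perm.mul_apply]
      rw [shufPerm_mem_iff, ← shufPerm_mem_iff (himg 1), Equiv.Perm.coe_inv, Equiv.apply_symm_apply]
      exact (Finset.mem_filter.1 hπ).2 k
  rw [← Finset.sum_fiberwise_of_maps_to (g := img)
    (t := (Finset.univ : Finset (Finset (Fin (d + 1)))).filter (fun A => A.card = r.val + 1))
    (fun π _ => Finset.mem_filter.2 ⟨Finset.mem_univ _, himg π⟩)] at halt
  have hN : (fib A₀).card ≠ 0 := Finset.card_ne_zero.2 ⟨1, (hfib _ _).2 rfl⟩
  refine (nsmul_eq_zero_iff_right hN).1 ?_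
  rw [Finset.smul_sum]
  refine Eq.trans (Finset.sum_congr rfl fun A hA => ?_) halt
  have hA' := (Finset.mem_filter.1 hA).2
  rw [dif_pos hA', ← hcard A hA', show (Finset.univ.filter fun π => img π = A) = fib A by
    ext π; simp [← hfib]]
  rw [Finset.sum_congr rfl fun π hπ => hval A hA' π hπ, Finset.sum_const]

theorem aeval_shuffleRel {K : Type u} [CommRing K] {S : Type v} [CommRing S] [Algebra K S]
    (M : Matrix (Fin n) (Fin d) S) (i j : Idx d n) (r : Fin d) :
    MvPolynomial.aeval (fun θ : Idx d n => (M.submatrix θ.1 id).det) (shuffleRel K i j r) = 0 := by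
  classical
  have hcalc : ∀ {K' : Type u} {S' : Type v} [CommRing K'] [CommRing S'] [Algebra K' S']
      (M' : Matrix (Fin n) (Fin d) S'),
      MvPolynomial.aeval (fun θ : Idx d n => (M'.submatrix θ.1 id).det) (shuffleRel K' i j r) =
      ∑ A ∈ (Finset.univ : Finset (Finset (Fin (d + 1)))).filter (fun A => A.card = r.val + 1),
      (if hA : A.card = r.val + 1 then
        ((-1 : S') ^ shuffleSign r A) * ((M'.submatrix (shuffleI i j r A hA) id).det *
          (M'.submatrix (shuffleJ i j r A hA) id).det) else 0) := by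
    intro K' S' _ _ _ M'
    rw [shuffleRel, map_sum, Finset.sum_filter]
    refine Finset.sum_congr rfl fun A _ => ?_
    unfold shuffleTerm
    by_cases hA : A.card = r.val + 1
    · simp only [hA, if_true, dif_pos, map_mul, map_pow, map_neg, map_one, aeval_coord, mul_assoc]
    · simp [hA]
  rw [hcalc]
  let G : Matrix (Fin n) (Fin d) (MvPolynomial (Fin n × Fin d) ℤ) := Matrix.of fun s t => MvPolynomial.X (s, t)
  haveI : IsAddTorsionFree (MvPolynomial (Fin n × Fin d) ℤ) := inferInstance
  let φ : MvPolynomial (Fin n × Fin d) ℤ →ₐ[ℤ] S := MvPolynomial.aeval fun p => M p.1 p.2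
  have hG : G.map φ = M := by
    ext s t; simp [G, φ]
  have h := congrArg φ (shuffle_sum_eq_zero G i j r)
  rw [map_zero, map_sum] at h
  rw [← h]
  refine Finset.sum_congr rfl fun A hA => ?_
  have hA' := (Finset.mem_filter.1 hA).2
  rw [dif_pos hA', dif_pos hA', map_mul, map_mul, map_pow, map_neg, map_one, AlgHom.map_det, AlgHom.map_det]
  congr 2 <;> (congr 1; ext s t; simp [← hG])

end Identity

end Groth.Agent.Grass54
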