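import Mathlib
import Groth.Agent.Grass54.Shuffle

/-!
Straightening: standard monomials span modulo the shuffle relations.
-/

set_option autoImplicit false
universe u

open MvPolynomial W4bk4grassmannian Finset

namespace Groth.Agent.Grass54

variable {d n : ℕ}

/-- The sum of the entries of an index. -/
def wsum (θ : Idx d n) : ℕ := ∑ t, (θ.1 t).val

theorem wsum_le (θ : Idx d n) : wsum θ ≤ d * n := by
  have h : wsum θ ≤ ∑ _t : Fin d, n := Finset.sum_le_sum fun t _ => (θ.1 t).isLt.le
  simpa using h

theorem wsum_strictMono {θ θ' : Idx d n} (h : θ < θ') : wsum θ < wsum θ' := by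
  obtain ⟨hle, hnle⟩ := lt_iff_le_not_ge.1 h
  obtain ⟨t, ht⟩ : ∃ t, θ.1 t < θ'.1 t := by
    by_contra hc
    push Not at hc
    exact hnle hc
  exact Finset.sum_lt_sum (fun s _ => hle s) ⟨t, Finset.mem_univ t, ht⟩

theorem eq_of_le_of_wsum_le {θ θ' : Idx d n} (h : θ ≤ θ') (hs : wsum θ' ≤ wsum θ) : θ = θ' := by
  by_contra hne
  exact absurd (wsum_strictMono (lt_of_le_of_ne h hne)) (not_lt.2 hs)

theorem wsum_sortIdx {a : Fin d → Fin n} (h : (Finset.univ.image a).card = d) :
    wsum (sortIdx d n a h) = ∑ t, (a t).val := by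
  have h1 := image_sortIdx h
  have h2 : ∑ x ∈ Finset.univ.image (sortIdx d n a h).1, x.val = ∑ x ∈ Finset.univ.image a, x.val := by rw [h1]
  rw [Finset.sum_image (fun x _ y _ e => (sortIdx d n a h).2.injective e),
    Finset.sum_image (fun x _ y _ e => injective_of_card h e)] at h2
  exact h2

variable (K : Type u) [CommRing K]

/-- The monomial of a multiset of indices. -/
noncomputable def mon (m : Multiset (Idx d n)) : PlRing K d n := (m.map X).prod

/-- Pairwise comparable. -/
def IsChainM (m : Multiset (Idx d n)) : Prop := ∀ x ∈ m, ∀ y ∈ m, x ≤ y ∨ y ≤ x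

/-- The straightening potential. -/
def pot (m : Multiset (Idx d n)) : ℕ := (m.map fun θ => wsum θ ^ 2).sum

/-- The total content. -/
def tot (m : Multiset (Idx d n)) : ℕ := (m.map wsum).sum

theorem pot_le (m : Multiset (Idx d n)) : pot m ≤ Multiset.card m * (d * n) ^ 2 := by
  induction m using Multiset.induction_on with
  | empty => simp [pot]
  | cons a m ih =>
    simp only [pot, Multiset.map_cons, Multiset.sum_cons, Multiset.card_cons] at *
    have := Nat.pow_le_pow_left (wsum_le a) 2
    rw [add_mul, one_mul]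
    omega

theorem exists_antitone_of_chain (m : Multiset (Idx d n)) (h : IsChainM m) :
    ∃ c : Fin (Multiset.card m) → Idx d n, Antitone c ∧ Multiset.map c Finset.univ.val = m := by
  induction hk : Multiset.card m generalizing m with
  | zero => exact ⟨Fin.elim0, fun a => a.elim0, by rw [Multiset.card_eq_zero.1 hk]; rfl⟩
  | succ k ih =>
    classical
    obtain ⟨a, ha, hamax⟩ : ∃ a ∈ m, ∀ y ∈ m, y ≤ a := by
      obtain ⟨a, ha, hmax⟩ := Finset.exists_max_image m.toFinset wsum
        (by rw [Multiset.toFinset_nonempty]; intro h0; rw [h0] at hk; simp at hk)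
      refine ⟨a, Multiset.mem_toFinset.1 ha, fun y hy => ?_⟩
      rcases h a (Multiset.mem_toFinset.1 ha) y hy with hle | hle
      · exact (eq_of_le_of_wsum_le hle (hmax y (Multiset.mem_toFinset.2 hy))).ge
      · exact hle
    obtain ⟨c, hc, hcm⟩ := ih (m.erase a)
      (fun x hx y hy => h x (Multiset.mem_of_mem_erase hx) y (Multiset.mem_of_mem_erase hy))
      (by rw [Multiset.card_erase_of_mem ha, hk]; rfl)
    refine ⟨Fin.cons a c, fun x y hxy => ?_, ?_⟩
    · induction y using Fin.cases with
      | zero => rw [Fin.le_zero_iff.1 hxy]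
      | succ y =>
        induction x using Fin.cases with
        | zero =>
          simp only [Fin.cons_zero, Fin.cons_succ]
          refine hamax _ (Multiset.mem_of_mem_erase (a := _) (b := a) ?_)
          rw [← hcm]
          exact Multiset.mem_map_of_mem _ (Finset.mem_univ_val y)
        | succ x => simpa using hc (Fin.succ_le_succ_iff.1 hxy)
    · rw [← Multiset.cons_erase ha, ← hcm, Fin.univ_succ]
      simp only [Finset.cons_val, Finset.map_val, Multiset.map_cons, Multiset.map_map, Fin.cons_zero]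
      congr 1

theorem mon_map_univ {k : ℕ} (c : Fin k → Idx d n) : mon K (Multiset.map c Finset.univ.val) = chainMon K c := by
  simp only [mon, chainMon, Multiset.map_map]
  rfl

/-- Standard monomials of given degree, content, and potential bound. -/
noncomputable def stdSpan (k σ φ : ℕ) : Submodule K (PlRing K d n) :=
  Submodule.span K {f | ∃ c : Fin k → Idx d n, Antitone c ∧ tot (Multiset.map c Finset.univ.val) = σ ∧
    φ ≤ pot (Multiset.map c Finset.univ.val) ∧ f = chainMon K c}

theorem stdSpan_mono (k σ : ℕ) {φ φ' : ℕ} (h : φ ≤ φ') :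
    stdSpan (d := d) (n := n) K k σ φ' ≤ stdSpan K k σ φ :=
  Submodule.span_mono fun _ ⟨c, h1, h2, h3, h4⟩ => ⟨c, h1, h2, h.trans h3, h4⟩

/-- Modulo the shuffle relations, plus standard monomials. -/
noncomputable def goalSpan (k σ φ : ℕ) : Submodule K (PlRing K d n) :=
  (plIdealTop (d := d) (n := n) K).restrictScalars K ⊔ stdSpan K k σ φ

theorem goalSpan_mono (k σ : ℕ) {φ φ' : ℕ} (h : φ ≤ φ') :
    goalSpan (d := d) (n := n) K k σ φ' ≤ goalSpan K k σ φ :=
  sup_le_sup_left (stdSpan_mono K k σ h) _

section Terms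

variable {i j : Idx d n} {r : Fin d}

theorem sum_movingRows : (∑ k, ((movingRows i j r k).val : ℤ)) =
    (∑ t ∈ Finset.univ.filter (fun t : Fin d => t.val ≤ r.val), ((i.1 t).val : ℤ)) +
      ∑ t ∈ Finset.univ.filter (fun t : Fin d => r.val ≤ t.val), ((j.1 t).val : ℤ) := by
  rw [← Finset.sum_filter_add_sum_filter_not Finset.univ (fun k : Fin (d + 1) => k.val ≤ r.val)]
  congr 1
  · refine Finset.sum_bij (fun k hk => (⟨k.val, by simp only [Finset.mem_filter] at hk; omega⟩ : Fin d))
      (fun k hk => Finset.mem_filter.2 ⟨Finset.mem_univ _, (Finset.mem_filter.1 hk).2⟩)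
      (fun a _ b _ e => Fin.ext (congrArg Fin.val e :))
      (fun t ht => ⟨⟨t.val, by omega⟩, by simpa using (Finset.mem_filter.1 ht).2, Fin.ext rfl⟩) (fun k hk => ?_)
    rw [movingRows, dif_pos (Finset.mem_filter.1 hk).2]
  · refine Finset.sum_bij (fun k _ => (⟨k.val - 1, by have := k.isLt; have := r.isLt; omega⟩ : Fin d))
      (fun k hk => by
        simp only [Finset.mem_filter, Finset.mem_univ, true_and] at hk ⊢
        omega)
      (fun a ha b hb e => Fin.ext (by
        simp only [Finset.mem_filter] at ha hb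
        have := congrArg Fin.val e; simp only at this; omega))
      (fun t ht => ⟨⟨t.val + 1, by omega⟩, by
        simp only [Finset.mem_filter, Finset.mem_univ, true_and] at ht ⊢
        omega, Fin.ext (by simp)⟩) (fun k hk => ?_)
    rw [movingRows, dif_neg (Finset.mem_filter.1 hk).2]

theorem sum_orderEmb {m : ℕ} (B : Finset (Fin (d + 1))) (hB : B.card = m) (g : Fin (d + 1) → ℤ) :
    ∑ x : Fin m, g (B.orderEmbOfFin hB x) = ∑ a ∈ B, g a := by
  conv_rhs => rw [← Finset.map_orderEmbOfFin_univ B hB, Finset.sum_map]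
  rfl

theorem sum_shuffleI {A : Finset (Fin (d + 1))} (hA : A.card = r.val + 1) :
    (∑ t, ((shuffleI i j r A hA t).val : ℤ)) = (∑ a ∈ A, ((movingRows i j r a).val : ℤ)) +
      ∑ t ∈ Finset.univ.filter (fun t : Fin d => ¬ t.val ≤ r.val), ((i.1 t).val : ℤ) := by
  rw [← Finset.sum_filter_add_sum_filter_not Finset.univ (fun k : Fin d => k.val ≤ r.val)]
  congr 1
  · rw [← sum_orderEmb A hA (fun a => ((movingRows i j r a).val : ℤ))]
    refine Finset.sum_bij (fun t ht => (⟨t.val, by simp only [Finset.mem_filter] at ht; omega⟩ : Fin (r.val + 1)))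
      (fun _ _ => Finset.mem_univ _) (fun a _ b _ e => Fin.ext (congrArg Fin.val e :))
      (fun x _ => ⟨⟨x.val, by omega⟩, by simp only [Finset.mem_filter, Finset.mem_univ, true_and]; omega, Fin.ext rfl⟩)
      (fun t ht => by simp only [shuffleI]; rw [dif_pos (Finset.mem_filter.1 ht).2])
  · exact Finset.sum_congr rfl fun t ht => by simp only [shuffleI]; rw [dif_neg (Finset.mem_filter.1 ht).2]

theorem sum_shuffleJ {A : Finset (Fin (d + 1))} (hA : A.card = r.val + 1) :
    (∑ t, ((shuffleJ i j r A hA t).val : ℤ)) = (∑ a ∈ Aᶜ, ((movingRows i j r a).val : ℤ)) +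
      ∑ t ∈ Finset.univ.filter (fun t : Fin d => t.val < r.val), ((j.1 t).val : ℤ) := by
  have hC := card_compl_block (r := r) hA
  rw [← Finset.sum_filter_add_sum_filter_not Finset.univ (fun k : Fin d => ¬ k.val < r.val)]
  simp only [not_not]
  congr 1
  · rw [← sum_orderEmb Aᶜ hC (fun a => ((movingRows i j r a).val : ℤ))]
    refine Finset.sum_bij (fun t _ => (⟨t.val - r.val, by have := t.isLt; omega⟩ : Fin (d - r.val)))
      (fun _ _ => Finset.mem_univ _) (fun a ha b hb e => Fin.ext (by
        simp only [Finset.mem_filter] at ha hb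
        have := congrArg Fin.val e; simp only at this; omega))
      (fun x _ => ⟨⟨x.val + r.val, by omega⟩, by simp only [Finset.mem_filter, Finset.mem_univ, true_and]; omega,
        Fin.ext (by simp)⟩)
      (fun t ht => by simp only [shuffleJ]; rw [dif_neg (Finset.mem_filter.1 ht).2])
  · exact Finset.sum_congr rfl fun t ht => by simp only [shuffleJ]; rw [dif_pos (Finset.mem_filter.1 ht).2]

/-- The positions of the identity shuffle. -/
def idSet (r : Fin d) : Finset (Fin (d + 1)) := Finset.univ.filter fun k => k.val ≤ r.val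

theorem card_idSet (r : Fin d) : (idSet r).card = r.val + 1 := by
  rw [← Finset.card_fin (r.val + 1)]
  refine Finset.card_bij (fun k hk => (⟨k.val, by simp only [idSet, Finset.mem_filter] at hk; omega⟩ : Fin (r.val + 1)))
    (fun _ _ => Finset.mem_univ _) (fun a _ b _ e => Fin.ext (congrArg Fin.val e :))
    (fun x _ => ⟨⟨x.val, by omega⟩, by simp only [idSet, Finset.mem_filter, Finset.mem_univ, true_and]; omega, Fin.ext rfl⟩)

theorem orderEmb_idSet (r : Fin d) (x : Fin (r.val + 1)) :
    ((idSet r).orderEmbOfFin (card_idSet r) x).val = x.val := by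
  have h := Finset.orderEmbOfFin_unique (card_idSet r) (f := fun x : Fin (r.val + 1) => (⟨x.val, by omega⟩ : Fin (d + 1)))
    (fun x => by simp only [idSet, Finset.mem_filter, Finset.mem_univ, true_and]; omega)
    (fun a b hab => hab)
  rw [← h]

theorem orderEmb_idSet_compl (r : Fin d) (x : Fin (d - r.val)) :
    ((idSet r)ᶜ.orderEmbOfFin (card_compl_block (card_idSet r)) x).val = r.val + 1 + x.val := by
  have h := Finset.orderEmbOfFin_unique (card_compl_block (card_idSet r))
    (f := fun x : Fin (d - r.val) => (⟨r.val + 1 + x.val, by omega⟩ : Fin (d + 1)))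
    (fun x => by simp only [idSet, Finset.mem_compl, Finset.mem_filter, Finset.mem_univ, true_and]; omega)
    (fun a b hab => Fin.lt_def.2 (by simp only [Fin.lt_def] at hab ⊢; omega))
  rw [← h]

theorem coord_sorted (θ : Idx d n) : coord K d n θ.1 = X θ := by
  have h := image_sorted θ
  rw [coord, dif_pos h]
  have h1 : invCount d n θ.1 = 0 := by
    unfold invCount
    rw [Finset.card_eq_zero, Finset.filter_eq_empty_iff]
    intro p _ hp
    exact absurd (θ.2 hp.1) (not_lt.2 hp.2.le)
  rw [h1, pow_zero, one_mul, show sortIdx d n θ.1 h = θ from Subtype.ext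
    (Finset.orderEmbOfFin_unique h (fun x => Finset.mem_image_of_mem _ (Finset.mem_univ x)) θ.2).symm]

theorem shuffleTerm_id : shuffleTerm K i j r (idSet r) = X i * X j := by
  rw [shuffleTerm, dif_pos (card_idSet r)]
  have hsign : shuffleSign r (idSet r) = 0 := by
    unfold shuffleSign
    have h : ((idSet r).sum fun a => a.val) = r.val * (r.val + 1) / 2 := by
      conv_lhs => rw [← Finset.map_orderEmbOfFin_univ _ (card_idSet r), Finset.sum_map]
      simp only [RelEmbedding.coe_toEmbedding, orderEmb_idSet]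
      rw [Fin.sum_univ_eq_sum_range (fun i => i), Finset.sum_range_id, mul_comm]
      simp
    omega
  have hI : shuffleI i j r (idSet r) (card_idSet r) = i.1 := by
    funext t
    simp only [shuffleI]
    split_ifs with h
    · rw [movingRows, dif_pos (by rw [orderEmb_idSet]; exact h)]
      exact congrArg i.1 (Fin.ext (by simp only [orderEmb_idSet]))
    · rfl
  have hJ : shuffleJ i j r (idSet r) (card_idSet r) = j.1 := by
    funext t
    simp only [shuffleJ]
    split_ifs with h
    · rfl
    · rw [movingRows, dif_neg (by rw [orderEmb_idSet_compl]; omega)]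
      exact congrArg j.1 (Fin.ext (by simp only [orderEmb_idSet_compl]; omega))
  rw [hsign, hI, hJ, coord_sorted, coord_sorted, pow_zero, one_mul]

theorem shuffleTerm_cases (hp : i.1 r < j.1 r) {A : Finset (Fin (d + 1))} (hne : A ≠ idSet r) :
    shuffleTerm K i j r A = 0 ∨ ∃ (e : ℕ) (i' j' : Idx d n), shuffleTerm K i j r A = (-1) ^ e * (X i' * X j') ∧
      wsum i' + wsum j' = wsum i + wsum j ∧ wsum i < wsum i' := by
  classical
  by_cases hA : A.card = r.val + 1
  swap
  · exact Or.inl (dif_neg hA)
  rw [shuffleTerm, dif_pos hA]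
  by_cases hI : (Finset.univ.image (shuffleI i j r A hA)).card = d
  swap
  · exact Or.inl (by rw [show coord K d n (shuffleI i j r A hA) = 0 from dif_neg hI]; ring)
  by_cases hJ : (Finset.univ.image (shuffleJ i j r A hA)).card = d
  swap
  · exact Or.inl (by rw [show coord K d n (shuffleJ i j r A hA) = 0 from dif_neg hJ]; ring)
  refine Or.inr ⟨shuffleSign r A + invCount d n (shuffleI i j r A hA) + invCount d n (shuffleJ i j r A hA),
    sortIdx d n _ hI, sortIdx d n _ hJ, ?_, ?_⟩
  · rw [coord, dif_pos hI, coord, dif_pos hJ, pow_add, pow_add]; ring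
  have e1 := sum_shuffleI (i := i) (j := j) hA
  have e2 := sum_shuffleJ (i := i) (j := j) hA
  have e3 := sum_movingRows (i := i) (j := j) (r := r)
  have e4 := Finset.sum_add_sum_compl A (fun a => ((movingRows i j r a).val : ℤ))
  have hi := Finset.sum_filter_add_sum_filter_not Finset.univ (fun k : Fin d => k.val ≤ r.val)
    (fun t => ((i.1 t).val : ℤ))
  have hj := Finset.sum_filter_add_sum_filter_not Finset.univ (fun k : Fin d => r.val ≤ k.val)
    (fun t => ((j.1 t).val : ℤ))
  simp only [not_le] at hj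
  have hwI : ((wsum (sortIdx d n _ hI) : ℕ) : ℤ) = ∑ t, ((shuffleI i j r A hA t).val : ℤ) := by
    rw [wsum_sortIdx hI]; push_cast; rfl
  have hwJ : ((wsum (sortIdx d n _ hJ) : ℕ) : ℤ) = ∑ t, ((shuffleJ i j r A hA t).val : ℤ) := by
    rw [wsum_sortIdx hJ]; push_cast; rfl
  have hwi : ((wsum i : ℕ) : ℤ) = ∑ t, ((i.1 t).val : ℤ) := by simp [wsum]
  have hwj : ((wsum j : ℕ) : ℤ) = ∑ t, ((j.1 t).val : ℤ) := by simp [wsum]
  refine ⟨by zify; linarith, ?_⟩
  -- strictness
  have hgain : ∑ a ∈ idSet r, ((movingRows i j r a).val : ℤ) < ∑ a ∈ A, ((movingRows i j r a).val : ℤ) := by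
    have hlo : ∀ a ∈ idSet r, (movingRows i j r a).val ≤ (i.1 r).val := fun a ha => by
      have ha' := (Finset.mem_filter.1 ha).2
      rw [movingRows, dif_pos ha']
      exact i.2.monotone ha'
    have hhi : ∀ a, a ∉ idSet r → (j.1 r).val ≤ (movingRows i j r a).val := fun a ha => by
      simp only [idSet, Finset.mem_filter, Finset.mem_univ, true_and] at ha
      rw [movingRows, dif_neg ha]
      exact j.2.monotone (show r.val ≤ a.val - 1 by omega)
    rw [← Finset.sum_inter_add_sum_sdiff A (idSet r), ← Finset.sum_inter_add_sum_sdiff (idSet r) A,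
      Finset.inter_comm]
    refine add_lt_add_of_le_of_lt le_rfl ?_
    have hcard : (idSet r \ A).card = (A \ idSet r).card :=
      Finset.card_sdiff_comm ((card_idSet r).trans hA.symm)
    have hne' : (A \ idSet r).Nonempty := by
      rw [Finset.sdiff_nonempty]
      exact fun hsub => hne (Finset.eq_of_subset_of_card_le hsub (by rw [hA, card_idSet]))
    calc ∑ a ∈ idSet r \ A, ((movingRows i j r a).val : ℤ)
        ≤ ∑ _a ∈ idSet r \ A, ((i.1 r).val : ℤ) := Finset.sum_le_sum fun a ha => by
          exact_mod_cast hlo a (Finset.mem_sdiff.1 ha).1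
      _ = (A \ idSet r).card • ((i.1 r).val : ℤ) := by rw [Finset.sum_const, hcard]
      _ < (A \ idSet r).card • ((j.1 r).val : ℤ) := by
          simp only [nsmul_eq_mul]
          refine mul_lt_mul_of_pos_left ?_ (by exact_mod_cast hne'.card_pos)
          exact_mod_cast hp
      _ = ∑ _a ∈ A \ idSet r, ((j.1 r).val : ℤ) := (Finset.sum_const _).symm
      _ ≤ _ := Finset.sum_le_sum fun a ha => by exact_mod_cast hhi a (Finset.mem_sdiff.1 ha).2
  have hid : ∑ a ∈ idSet r, ((movingRows i j r a).val : ℤ) =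
      ∑ t ∈ Finset.univ.filter (fun t : Fin d => t.val ≤ r.val), ((i.1 t).val : ℤ) := by
    refine Finset.sum_bij (fun k hk => (⟨k.val, by simp only [idSet, Finset.mem_filter] at hk; omega⟩ : Fin d))
      (fun k hk => Finset.mem_filter.2 ⟨Finset.mem_univ _, (Finset.mem_filter.1 hk).2⟩)
      (fun a _ b _ e => Fin.ext (congrArg Fin.val e :))
      (fun t ht => ⟨⟨t.val, by omega⟩, by simpa [idSet] using (Finset.mem_filter.1 ht).2, Fin.ext rfl⟩) (fun k hk => ?_)
    rw [movingRows, dif_pos (Finset.mem_filter.1 hk).2]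
  zify
  linarith

end Terms

variable {K}

theorem sq_add_lt {a b a' b' : ℕ} (h : a' + b' = a + b) (hlt : a < a') (hba : b ≤ a) :
    a ^ 2 + b ^ 2 < a' ^ 2 + b' ^ 2 := by
  nlinarith

variable (K)

theorem straighten_aux : ∀ (g : ℕ) (m : Multiset (Idx d n)), Multiset.card m * (d * n) ^ 2 - pot m = g →
    mon K m ∈ goalSpan K (Multiset.card m) (tot m) (pot m) ∧
      (¬ IsChainM m → mon K m ∈ goalSpan K (Multiset.card m) (tot m) (pot m + 1)) := by
  classical
  intro g
  induction g using Nat.strong_induction_on with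
  | _ g ih =>
  intro m hg
  by_cases hm : IsChainM m
  · refine ⟨?_, fun h => absurd hm h⟩
    obtain ⟨c, hc, hcm⟩ := exists_antitone_of_chain m hm
    exact Submodule.mem_sup_right (Submodule.subset_span
      ⟨c, hc, by rw [hcm], by rw [hcm], by rw [← mon_map_univ, hcm]⟩)
  suffices h : mon K m ∈ goalSpan K (Multiset.card m) (tot m) (pot m + 1) from
    ⟨goalSpan_mono K _ _ (Nat.le_succ _) h, fun _ => h⟩
  obtain ⟨x, y, hx, hy, hxy, hyx, hsum⟩ : ∃ x y, x ∈ m ∧ y ∈ m ∧ ¬ x ≤ y ∧ ¬ y ≤ x ∧ wsum y ≤ wsum x := by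
    unfold IsChainM at hm
    push Not at hm
    obtain ⟨x, hx, y, hy, h1, h2⟩ := hm
    rcases le_total (wsum y) (wsum x) with h | h
    · exact ⟨x, y, hx, hy, h1, h2, h⟩
    · exact ⟨y, x, hy, hx, h2, h1, h⟩
  set rest := (m.erase x).erase y
  have hxne : y ≠ x := fun e => hxy (e ▸ le_rfl)
  have hmeq : m = x ::ₘ y ::ₘ rest := by
    rw [Multiset.cons_erase ((Multiset.mem_erase_of_ne hxne).2 hy), Multiset.cons_erase hx]
  obtain ⟨r, hr, hmin⟩ : ∃ r : Fin d, x.1 r < y.1 r ∧ ∀ t, t < r → y.1 t ≤ x.1 t := by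
    have hne : (Finset.univ.filter fun t : Fin d => x.1 t < y.1 t).Nonempty := by
      by_contra hc
      rw [Finset.not_nonempty_iff_eq_empty, Finset.filter_eq_empty_iff] at hc
      exact hyx fun t => not_lt.1 (hc (Finset.mem_univ t))
    refine ⟨Finset.min' _ hne, (Finset.mem_filter.1 (Finset.min'_mem _ hne)).2, fun t ht => not_lt.1 fun hlt => ?_⟩
    exact absurd (Finset.min'_le _ t (Finset.mem_filter.2 ⟨Finset.mem_univ _, hlt⟩)) (not_le.2 ht)
  have hrel : shuffleRel K x y r ∈ plIdealTop (d := d) (n := n) K :=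
    Ideal.subset_span ⟨x, y, r, ⟨hmin, hr⟩, rfl⟩
  have hsplit : shuffleRel K x y r = X x * X y +
      ∑ A ∈ Finset.univ.erase (idSet r), shuffleTerm K x y r A := by
    rw [shuffleRel, ← Finset.add_sum_erase _ _ (Finset.mem_univ (idSet r)), shuffleTerm_id]
  have hmon : mon K m = shuffleRel K x y r * mon K rest -
      (∑ A ∈ Finset.univ.erase (idSet r), shuffleTerm K x y r A) * mon K rest := by
    rw [hsplit, hmeq]
    simp only [mon, Multiset.map_cons, Multiset.prod_cons]
    ring
  rw [hmon]
  refine Submodule.sub_mem _ (Submodule.mem_sup_left (Ideal.mul_mem_right _ _ hrel)) ?_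
  rw [Finset.sum_mul]
  refine Submodule.sum_mem _ fun A hA => ?_
  rcases shuffleTerm_cases K hr (Finset.ne_of_mem_erase hA) with h0 | ⟨e, i', j', he, hs, hlt⟩
  · rw [h0, zero_mul]; exact Submodule.zero_mem _
  set m' := i' ::ₘ j' ::ₘ rest
  have hcard : Multiset.card m' = Multiset.card m := by rw [hmeq]; simp [m']
  have htot : tot m' = tot m := by
    rw [hmeq]; simp only [tot, m', Multiset.map_cons, Multiset.sum_cons]; omega
  have hpot : pot m < pot m' := by
    rw [hmeq]; simp only [pot, m', Multiset.map_cons, Multiset.sum_cons]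
    have := sq_add_lt hs hlt hsum
    omega
  have hrec := (ih _ (by have := pot_le m'; rw [hcard] at this ⊢; omega) m' rfl).1
  rw [hcard, htot] at hrec
  have heq : shuffleTerm K x y r A * mon K rest = ((-1 : K) ^ e) • mon K m' := by
    rw [he, MvPolynomial.smul_eq_C_mul, map_pow, map_neg, map_one]
    simp only [mon, m', Multiset.map_cons, Multiset.prod_cons]
    ring
  rw [heq]
  exact Submodule.smul_mem _ _ (goalSpan_mono K _ _ hpot hrec)

theorem straighten (m : Multiset (Idx d n)) : mon K m ∈ goalSpan K (Multiset.card m) (tot m) (pot m) :=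
  (straighten_aux K _ m rfl).1

theorem straighten_lt (m : Multiset (Idx d n)) (h : ¬ IsChainM m) :
    mon K m ∈ goalSpan K (Multiset.card m) (tot m) (pot m + 1) :=
  (straighten_aux K _ m rfl).2 h

/-- All standard monomials. -/
noncomputable def stdAll : Submodule K (PlRing K d n) :=
  Submodule.span K (Set.range fun c : (Σ m : ℕ, {c : Fin m → Idx d n // Antitone c}) => chainMon K c.2.1)

theorem exists_mon_eq_monomial (e : Idx d n →₀ ℕ) :
    ∃ m : Multiset (Idx d n), mon K m = monomial e 1 := by
  refine ⟨Finsupp.toMultiset e, ?_⟩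
  rw [mon, Finsupp.toMultiset_map, Finsupp.prod_toMultiset, Finsupp.prod_mapDomain_index (fun _ => pow_zero _)
    (fun _ _ _ => pow_add _ _ _), monomial_eq, C_1, one_mul]

theorem sup_stdAll_eq_top :
    (plIdealTop (d := d) (n := n) K).restrictScalars K ⊔ stdAll K = ⊤ := by
  rw [eq_top_iff]
  intro f hf
  clear hf
  induction f using MvPolynomial.induction_on' with
  | monomial e a =>
    obtain ⟨m, hm⟩ := exists_mon_eq_monomial K e
    rw [show monomial e a = a • monomial e (1 : K) by rw [MvPolynomial.smul_monomial, smul_eq_mul, mul_one], ← hm]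
    have hle : stdSpan (d := d) (n := n) K (Multiset.card m) (tot m) (pot m) ≤ stdAll K := by
      refine Submodule.span_le.2 ?_
      rintro _ ⟨c, hc, -, -, rfl⟩
      exact Submodule.subset_span ⟨⟨_, c, hc⟩, rfl⟩
    exact Submodule.smul_mem _ _ ((sup_le_sup_left hle ((plIdealTop (d := d) (n := n) K).restrictScalars K)) (straighten K m))
  | add p q hp hq => exact Submodule.add_mem _ hp hq

theorem span_mk_stdMon :
    Submodule.span K (Set.range fun c : (Σ m : ℕ, {c : Fin m → Idx d n // Antitone c}) =>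
        Ideal.Quotient.mk (plIdealTop (d := d) (n := n) K) (chainMon K c.2.1)) = ⊤ := by
  rw [eq_top_iff]
  rintro q -
  obtain ⟨f, rfl⟩ := Ideal.Quotient.mk_surjective q
  have hf : f ∈ (plIdealTop (d := d) (n := n) K).restrictScalars K ⊔ stdAll K := by
    rw [sup_stdAll_eq_top]; trivial
  obtain ⟨a, ha, b, hb, rfl⟩ := Submodule.mem_sup.1 hf
  rw [map_add, Ideal.Quotient.eq_zero_iff_mem.2 ha, zero_add]
  have h := Submodule.mem_map_of_mem (f := (Ideal.Quotient.mkₐ K (plIdealTop (d := d) (n := n) K)).toLinearMap) hb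
  rw [stdAll, Submodule.map_span, ← Set.range_comp] at h
  exact h

end Groth.Agent.Grass54
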