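import Mathlib
import Groth.Agent.Grass54.Straighten

/-!
Leading terms of minors of pattern matrices; independence of standard monomials.
-/

set_option autoImplicit false
universe u

open MvPolynomial W4bk4grassmannian Finset

namespace Groth.Agent.Grass54

variable {d n : ℕ}

/-- The weight of an exponent of matrix variables. -/
noncomputable def W (e : (Fin n × Fin d) →₀ ℕ) : ℕ := e.sum fun p a => a * (p.1.val * p.2.val)

theorem W_add (e e' : (Fin n × Fin d) →₀ ℕ) : W (e + e') = W e + W e' :=
  Finsupp.sum_add_index' (fun _ => by simp) (fun _ _ _ => by ring)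

theorem W_single (p : Fin n × Fin d) (a : ℕ) : W (Finsupp.single p a) = a * (p.1.val * p.2.val) :=
  Finsupp.sum_single_index (by simp)

/-- The diagonal exponent of an index. -/
noncomputable def dexp (a : Fin d → Fin n) : (Fin n × Fin d) →₀ ℕ := ∑ t, Finsupp.single (a t, t) 1

theorem W_dexp (a : Fin d → Fin n) : W (dexp a) = ∑ t, (a t).val * t.val := by
  rw [dexp, W, ← Finsupp.sum_finsetSum_index (fun _ => by simp) (fun _ _ _ => by ring)]
  exact Finset.sum_congr rfl fun t _ => by rw [Finsupp.sum_single_index (by simp), one_mul]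

theorem dexp_apply (a : Fin d → Fin n) (s : Fin n) (t : Fin d) :
    dexp a (s, t) = if a t = s then 1 else 0 := by
  classical
  rw [dexp, Finsupp.finsetSum_apply, Finset.sum_eq_single t]
  · simp [Finsupp.single_apply]
  · intro b _ hb
    rw [Finsupp.single_apply, if_neg]
    intro e
    exact hb (congrArg Prod.snd e)
  · simp

variable (K : Type u) [CommRing K]

/-- `e` is the leading exponent of `P`, with coefficient one. -/
def Lead (P : MatRing K d n) (e : (Fin n × Fin d) →₀ ℕ) : Prop :=
  P.coeff e = 1 ∧ ∀ e', P.coeff e' ≠ 0 → e' = e ∨ W e' < W e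

theorem lead_one : Lead K (1 : MatRing K d n) 0 := by
  refine ⟨by simp, fun e' he' => Or.inl ?_⟩
  by_contra h
  exact he' (by rw [coeff_one, if_neg (Ne.symm h)])

theorem lead_mul {P Q : MatRing K d n} {e f : (Fin n × Fin d) →₀ ℕ} (hP : Lead K P e) (hQ : Lead K Q f) :
    Lead K (P * Q) (e + f) := by
  classical
  refine ⟨?_, fun g hg => ?_⟩
  · rw [coeff_mul, Finset.sum_eq_single (e, f)]
    · rw [hP.1, hQ.1, one_mul]
    · rintro ⟨a, b⟩ hab hne
      by_contra h
      rw [Finset.HasAntidiagonal.mem_antidiagonal] at hab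
      have hWab : W a + W b = W e + W f := by rw [← W_add, ← W_add, hab]
      rcases hP.2 a (left_ne_zero_of_mul h) with ha | ha <;> rcases hQ.2 b (right_ne_zero_of_mul h) with hb | hb
      · exact hne (by rw [ha, hb])
      · rw [ha] at hWab; omega
      · rw [hb] at hWab; omega
      · omega
    · intro h; exact absurd (Finset.HasAntidiagonal.mem_antidiagonal.2 (show (e, f).1 + (e, f).2 = e + f from rfl)) h
  · rw [coeff_mul] at hg
    obtain ⟨⟨a, b⟩, hab, h⟩ := Finset.exists_ne_zero_of_sum_ne_zero hg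
    rw [Finset.HasAntidiagonal.mem_antidiagonal] at hab
    rw [← hab]
    rcases hP.2 a (left_ne_zero_of_mul h) with ha | ha <;> rcases hQ.2 b (right_ne_zero_of_mul h) with hb | hb
    · left; rw [ha, hb]
    all_goals right; simp only [W_add]; first | (rw [ha]; omega) | (rw [hb]; omega) | omega

theorem lead_prod {ι : Type*} (s : Finset ι) (P : ι → MatRing K d n) (e : ι → (Fin n × Fin d) →₀ ℕ)
    (h : ∀ i ∈ s, Lead K (P i) (e i)) : Lead K (∏ i ∈ s, P i) (∑ i ∈ s, e i) := by
  classical
  induction s using Finset.induction_on with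
  | empty => simpa using lead_one K
  | insert a s ha ih =>
    rw [Finset.prod_insert ha, Finset.sum_insert ha]
    exact lead_mul K (h a (Finset.mem_insert_self a s)) (ih fun i hi => h i (Finset.mem_insert_of_mem hi))

/-- The pattern matrix supported between `v` and `w`. -/
noncomputable def pat (v w : Idx d n) : Matrix (Fin n) (Fin d) (MatRing K d n) :=
  Matrix.of fun s t => if v.1 t ≤ s ∧ s ≤ w.1 t then X (s, t) else 0

/-- Restriction of Plücker polynomials to the pattern matrix. -/
noncomputable def patMap (v w : Idx d n) : PlRing K d n →ₐ[K] MatRing K d n :=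
  MvPolynomial.aeval fun θ : Idx d n => ((pat K v w).submatrix θ.1 id).det

theorem patMap_X (v w θ : Idx d n) : patMap K v w (X θ) = ((pat K v w).submatrix θ.1 id).det := aeval_X _ _

theorem patMap_eq_zero_of_not_le {v w θ : Idx d n} (h : ¬ θ ≤ w) : patMap K v w (X θ) = 0 := by
  classical
  rw [patMap_X, Matrix.det_apply]
  obtain ⟨t, ht⟩ : ∃ t, w.1 t < θ.1 t := by
    by_contra hc; push Not at hc; exact h hc
  refine Finset.sum_eq_zero fun σ _ => ?_
  obtain ⟨k, hk, hσk⟩ : ∃ k, k ≤ t ∧ t ≤ σ k := by
    by_contra hc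
    push Not at hc
    have h1 : ((Finset.Iic t).image σ).card ≤ (Finset.Iio t).card :=
      Finset.card_le_card fun x hx => by
        obtain ⟨k, hk, rfl⟩ := Finset.mem_image.1 hx
        exact Finset.mem_Iio.2 (hc k (Finset.mem_Iic.1 hk))
    rw [Finset.card_image_of_injective _ σ.injective, Fin.card_Iic, Fin.card_Iio] at h1
    omega
  rw [Finset.prod_eq_zero (Finset.mem_univ k), smul_zero]
  simp only [pat, Matrix.submatrix_apply, Matrix.of_apply, id]
  rw [if_neg]
  intro hc
  exact absurd (lt_of_le_of_lt (w.2.monotone hk) (lt_of_lt_of_le ht (θ.2.monotone hσk))) (not_lt.2 hc.2)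

theorem patMap_eq_zero_of_not_ge {v w θ : Idx d n} (h : ¬ v ≤ θ) : patMap K v w (X θ) = 0 := by
  classical
  rw [patMap_X, Matrix.det_apply]
  obtain ⟨t, ht⟩ : ∃ t, θ.1 t < v.1 t := by
    by_contra hc; push Not at hc; exact h hc
  refine Finset.sum_eq_zero fun σ _ => ?_
  obtain ⟨k, hk, hσk⟩ : ∃ k, t ≤ k ∧ σ k ≤ t := by
    by_contra hc
    push Not at hc
    have h1 : ((Finset.Ici t).image σ).card ≤ (Finset.Ioi t).card :=
      Finset.card_le_card fun x hx => by
        obtain ⟨k, hk, rfl⟩ := Finset.mem_image.1 hx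
        exact Finset.mem_Ioi.2 (hc k (Finset.mem_Ici.1 hk))
    rw [Finset.card_image_of_injective _ σ.injective, Fin.card_Ici, Fin.card_Ioi] at h1
    omega
  rw [Finset.prod_eq_zero (Finset.mem_univ k), smul_zero]
  simp only [pat, Matrix.submatrix_apply, Matrix.of_apply, id]
  rw [if_neg]
  intro hc
  exact absurd (lt_of_le_of_lt (θ.2.monotone hσk) (lt_of_lt_of_le ht (v.2.monotone hk))) (not_lt.2 hc.1)

theorem lead_patMap {v w θ : Idx d n} (hv : v ≤ θ) (hw : θ ≤ w) :
    Lead K (patMap K v w (X θ)) (dexp θ.1) := by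
  classical
  set e : Equiv.Perm (Fin d) → ((Fin n × Fin d) →₀ ℕ) := fun σ => dexp (θ.1 ∘ σ)
  have hprod : ∀ σ : Equiv.Perm (Fin d), (∏ t, (pat K v w).submatrix θ.1 id (σ t) t) = 0 ∨
      (∏ t, (pat K v w).submatrix θ.1 id (σ t) t) = monomial (e σ) 1 := by
    intro σ
    by_cases hall : ∀ t, v.1 t ≤ θ.1 (σ t) ∧ θ.1 (σ t) ≤ w.1 t
    · refine Or.inr ?_
      rw [show e σ = ∑ t, Finsupp.single (θ.1 (σ t), t) 1 from rfl, monomial_sum_one]
      refine Finset.prod_congr rfl fun t _ => ?_
      simp only [pat, Matrix.submatrix_apply, Matrix.of_apply, id, if_pos (hall t)]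
      rfl
    · push Not at hall
      obtain ⟨t, ht⟩ := hall
      refine Or.inl (Finset.prod_eq_zero (Finset.mem_univ t) ?_)
      simp only [pat, Matrix.submatrix_apply, Matrix.of_apply, id]
      rw [if_neg]
      exact fun hc => absurd hc.2 (not_le.2 (ht hc.1))
  have hlt : ∀ σ : Equiv.Perm (Fin d), σ ≠ 1 → W (e σ) < W (dexp θ.1) := by
    intro σ hσ
    rw [W_dexp, W_dexp]
    have hmono : Monovary (fun t : Fin d => ((θ.1 t).val : ℤ)) (fun t : Fin d => (t.val : ℤ)) :=
      fun a b hab => by
        simp only [] at hab ⊢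
        have : a < b := Fin.lt_def.2 (by exact_mod_cast hab)
        exact_mod_cast (θ.2 this).le
    have hkey := (hmono.sum_comp_perm_mul_lt_sum_mul_iff (σ := σ)).2 ?_
    · zify
      exact hkey
    · intro hm
      apply hσ
      have hsm : Monotone σ := fun a b hab => by
        rcases hab.lt_or_eq with h | rfl
        · have h2 := hm (show ((a.val : ℤ)) < (b.val : ℤ) by exact_mod_cast h)
          simp only [Function.comp_apply] at h2
          exact θ.2.le_iff_le.1 (by exact_mod_cast h2)
        · exact le_rfl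
      exact Equiv.ext fun t => congrFun (congrArg DFunLike.coe (Subsingleton.elim
        ((hsm.strictMono_of_injective σ.injective).orderIsoOfSurjective _ σ.surjective) (OrderIso.refl _))) t
  have hid : (∏ t, (pat K v w).submatrix θ.1 id ((1 : Equiv.Perm (Fin d)) t) t) = monomial (dexp θ.1) 1 := by
    rw [show dexp θ.1 = ∑ t, Finsupp.single (θ.1 t, t) 1 from rfl, monomial_sum_one]
    refine Finset.prod_congr rfl fun t _ => ?_
    simp only [pat, Matrix.submatrix_apply, Matrix.of_apply, id, Equiv.Perm.one_apply, if_pos (And.intro (hv t) (hw t))]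
    rfl
  rw [patMap_X, Matrix.det_apply]
  constructor
  · rw [coeff_sum, Finset.sum_eq_single (1 : Equiv.Perm (Fin d))]
    · rw [hid]; simp
    · intro σ _ hσ
      rcases hprod σ with h | h
      · rw [h, smul_zero, coeff_zero]
      · rw [h, Units.smul_def, coeff_smul, coeff_monomial, if_neg, smul_zero]
        exact fun he => (hlt σ hσ).ne (congrArg W he)
    · simp
  · intro e' he'
    rw [coeff_sum] at he'
    obtain ⟨σ, -, hσ⟩ := Finset.exists_ne_zero_of_sum_ne_zero he'
    rcases hprod σ with h | h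
    · exact absurd (by rw [h, smul_zero, coeff_zero]) hσ
    · rw [h, Units.smul_def, coeff_smul, coeff_monomial] at hσ
      by_cases hee : e σ = e'
      · by_cases h1 : σ = 1
        · subst h1; exact Or.inl hee.symm
        · exact Or.inr (hee ▸ hlt σ h1)
      · rw [if_neg hee, smul_zero] at hσ; exact absurd rfl hσ

/-- The leading exponent of a standard monomial. -/
noncomputable def cexp {m : ℕ} (c : Fin m → Idx d n) : (Fin n × Fin d) →₀ ℕ := ∑ k, dexp (c k).1

theorem lead_chain {v w : Idx d n} {m : ℕ} (c : Fin m → Idx d n) (h : ∀ k, v ≤ c k ∧ c k ≤ w) :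
    Lead K (patMap K v w (chainMon K c)) (cexp c) := by
  rw [chainMon, map_prod]
  exact lead_prod K _ _ _ fun k _ => lead_patMap K (h k).1 (h k).2

theorem patMap_chain_eq_zero {v w : Idx d n} {m : ℕ} (c : Fin m → Idx d n) (h : ¬ ∀ k, v ≤ c k ∧ c k ≤ w) :
    patMap K v w (chainMon K c) = 0 := by
  push Not at h
  obtain ⟨k, hk⟩ := h
  rw [chainMon, map_prod]
  refine Finset.prod_eq_zero (Finset.mem_univ k) ?_
  by_cases hv : v ≤ c k
  · exact patMap_eq_zero_of_not_le K (hk hv)
  · exact patMap_eq_zero_of_not_ge K hv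

theorem cexp_apply {m : ℕ} (c : Fin m → Idx d n) (s : Fin n) (t : Fin d) :
    cexp c (s, t) = (Finset.univ.filter fun k => (c k).1 t = s).card := by
  classical
  rw [cexp, Finsupp.finsetSum_apply, Finset.card_filter]
  exact Finset.sum_congr rfl fun k _ => dexp_apply _ _ _

theorem antitone_lt_card_iff {m n' : ℕ} (f : Fin m → Fin n') (hf : Antitone f) (s : Fin n') (k : Fin m) :
    s ≤ f k ↔ k.val < (Finset.univ.filter fun k => s ≤ f k).card := by
  classical
  constructor
  · intro h
    have h1 : Finset.Iic k ⊆ Finset.univ.filter fun k => s ≤ f k := fun x hx =>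
      Finset.mem_filter.2 ⟨Finset.mem_univ _, h.trans (hf (Finset.mem_Iic.1 hx))⟩
    have := Finset.card_le_card h1
    rw [Fin.card_Iic] at this
    omega
  · intro h
    by_contra hlt
    have h1 : (Finset.univ.filter fun k => s ≤ f k) ⊆ Finset.Iio k := fun x hx => by
      rw [Finset.mem_Iio]
      by_contra hxk
      exact hlt ((Finset.mem_filter.1 hx).2.trans (hf (not_lt.1 hxk)))
    have := Finset.card_le_card h1
    rw [Fin.card_Iio] at this
    omega

theorem cexp_injective (hd : 0 < d) {m m' : ℕ} (c : Fin m → Idx d n) (c' : Fin m' → Idx d n) (hc : Antitone c)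
    (hc' : Antitone c') (h : cexp c = cexp c') :
    ∃ e : m = m', ∀ k, c k = c' (Fin.cast e k) := by
  classical
  have hcount : ∀ (t : Fin d) (s : Fin n), (Finset.univ.filter fun k => (c k).1 t = s).card =
      (Finset.univ.filter fun k => (c' k).1 t = s).card := fun t s => by
    rw [← cexp_apply, ← cexp_apply, h]
  have hm : m = m' := by
    have h1 := Finset.card_eq_sum_card_fiberwise (s := (Finset.univ : Finset (Fin m)))
      (t := Finset.univ) (f := fun k => (c k).1 ⟨0, hd⟩) (fun _ _ => Finset.mem_univ _)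
    have h2 := Finset.card_eq_sum_card_fiberwise (s := (Finset.univ : Finset (Fin m')))
      (t := Finset.univ) (f := fun k => (c' k).1 ⟨0, hd⟩) (fun _ _ => Finset.mem_univ _)
    simp only [Finset.card_univ, Fintype.card_fin] at h1 h2
    rw [h1, h2]
    exact Finset.sum_congr rfl fun s _ => hcount _ s
  subst hm
  refine ⟨rfl, fun k => Subtype.ext (funext fun t => ?_)⟩
  have hge : ∀ s : Fin n, (Finset.univ.filter fun k => s ≤ (c k).1 t).card =
      (Finset.univ.filter fun k => s ≤ (c' k).1 t).card := by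
    intro s
    rw [Finset.card_eq_sum_card_fiberwise (f := fun k => (c k).1 t) (t := Finset.Ici s)
      (fun x hx => Finset.mem_Ici.2 (Finset.mem_filter.1 hx).2),
      Finset.card_eq_sum_card_fiberwise (f := fun k => (c' k).1 t) (t := Finset.Ici s)
      (fun x hx => Finset.mem_Ici.2 (Finset.mem_filter.1 hx).2)]
    refine Finset.sum_congr rfl fun b hb => ?_
    rw [Finset.filter_filter, Finset.filter_filter]
    have hb' : s ≤ b := Finset.mem_Ici.1 hb
    have e1 : ∀ f : Fin m → Fin n, (Finset.univ.filter fun x => s ≤ f x ∧ f x = b) =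
        Finset.univ.filter fun x => f x = b := fun f => by
      ext x; simp only [Finset.mem_filter, Finset.mem_univ, true_and]
      exact ⟨fun h => h.2, fun h => ⟨h.symm ▸ hb', h⟩⟩
    rw [e1, e1]
    exact hcount t b
  have hiff : ∀ s : Fin n, s ≤ (c k).1 t ↔ s ≤ (c' k).1 t := fun s => by
    rw [antitone_lt_card_iff (fun k => (c k).1 t) (fun a b hab => hc hab t) s k,
      antitone_lt_card_iff (fun k => (c' k).1 t) (fun a b hab => hc' hab t) s k, hge]
  exact le_antisymm ((hiff _).1 le_rfl) ((hiff _).2 le_rfl)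

/-- Index type of standard monomials. -/
abbrev Std (d n : ℕ) : Type := Σ m : ℕ, {c : Fin m → Idx d n // Antitone c}

/-- The chain lies between `v` and `w`. -/
def InIcc (v w : Idx d n) (c : Std d n) : Prop := ∀ k, v ≤ c.2.1 k ∧ c.2.1 k ≤ w

theorem std_ext (hd : 0 < d) {a b : Std d n} (h : cexp a.2.1 = cexp b.2.1) : a = b := by
  obtain ⟨m, c, hc⟩ := a
  obtain ⟨m', c', hc'⟩ := b
  obtain ⟨e, he⟩ := cexp_injective hd c c' hc hc' h
  subst e
  have : c = c' := funext fun k => by simpa using he k
  subst this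
  rfl

theorem coeff_eq_zero_of_patMap (hd : 0 < d) (v w : Idx d n) (a : Std d n →₀ K)
    (ha : patMap K v w (Finsupp.linearCombination K (fun c => chainMon K c.2.1) a) = 0) :
    ∀ c, InIcc v w c → a c = 0 := by
  classical
  by_contra hcon
  push Not at hcon
  obtain ⟨c₁, hc₁, hne⟩ := hcon
  obtain ⟨c₀, hc₀, hmax⟩ := Finset.exists_max_image (a.support.filter fun c => InIcc v w c)
    (fun c => W (cexp c.2.1)) ⟨c₁, Finset.mem_filter.2 ⟨Finsupp.mem_support_iff.2 hne, hc₁⟩⟩
  obtain ⟨hs₀, hI₀⟩ := Finset.mem_filter.1 hc₀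
  apply Finsupp.mem_support_iff.1 hs₀
  have h := congrArg (fun P : MatRing K d n => P.coeff (cexp c₀.2.1)) ha
  simp only [Finsupp.linearCombination_apply, Finsupp.sum, map_sum, map_smul, coeff_sum, coeff_smul,
    coeff_zero, smul_eq_mul] at h
  rw [Finset.sum_eq_single c₀] at h
  · rwa [(lead_chain K c₀.2.1 hI₀).1, mul_one] at h
  · intro c hc hne'
    by_cases hI : InIcc v w c
    · rcases (eq_or_ne ((patMap K v w (chainMon K c.2.1)).coeff (cexp c₀.2.1)) 0) with h0 | h0
      · rw [h0, mul_zero]
      · rcases (lead_chain K c.2.1 hI).2 _ h0 with he | hlt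
        · exact absurd (std_ext hd he).symm hne'
        · exact absurd (hmax c (Finset.mem_filter.2 ⟨hc, hI⟩)) (not_le.2 hlt)
    · rw [patMap_chain_eq_zero K _ hI, coeff_zero, mul_zero]
  · intro h'
    exact absurd hs₀ h'

theorem patMap_plIdealTop (v w : Idx d n) {f : PlRing K d n} (hf : f ∈ plIdealTop (d := d) (n := n) K) :
    patMap K v w f = 0 := by
  have hle : plIdealTop (d := d) (n := n) K ≤ RingHom.ker (patMap K v w).toRingHom := by
    rw [plIdealTop, Ideal.span_le]
    rintro _ ⟨i, j, r, -, rfl⟩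
    exact aeval_shuffleRel (pat K v w) i j r
  exact hle hf

theorem exists_std_decomp (f : PlRing K d n) : ∃ a : Std d n →₀ K,
    f - Finsupp.linearCombination K (fun c : Std d n => chainMon K c.2.1) a ∈ plIdealTop (d := d) (n := n) K := by
  have hf : f ∈ (plIdealTop (d := d) (n := n) K).restrictScalars K ⊔ stdAll K := by
    rw [sup_stdAll_eq_top]; trivial
  obtain ⟨p, hp, q, hq, rfl⟩ := Submodule.mem_sup.1 hf
  rw [stdAll, ← Finsupp.range_linearCombination] at hq
  obtain ⟨a, rfl⟩ := hq
  exact ⟨a, by simpa using hp⟩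

/-- The kernel of restriction to a pattern. -/
theorem mem_ker_patMap (hd : 0 < d) (v w : Idx d n) (f : PlRing K d n) (I : Ideal (PlRing K d n))
    (hI : plIdealTop (d := d) (n := n) K ≤ I) (hout : ∀ c : Std d n, ¬ InIcc v w c → chainMon K c.2.1 ∈ I)
    (hf : patMap K v w f = 0) : f ∈ I := by
  classical
  obtain ⟨a, ha⟩ := exists_std_decomp K f
  have hlc : Finsupp.linearCombination K (fun c : Std d n => chainMon K c.2.1) a ∈ I := by
    have h0 := coeff_eq_zero_of_patMap K hd v w a (by
      have := patMap_plIdealTop K v w ha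
      rwa [map_sub, hf, zero_sub, neg_eq_zero] at this)
    rw [Finsupp.linearCombination_apply]
    refine I.sum_mem fun c hc => ?_
    by_cases hc' : InIcc v w c
    · exact absurd (h0 c hc') (Finsupp.mem_support_iff.1 hc)
    · simp only [Algebra.smul_def]
      exact I.mul_mem_left _ (hout c hc')
  have := add_mem (hI ha) hlc
  simpa using this

end Groth.Agent.Grass54
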