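import Mathlib
import Groth.Agent.Grass54.Pattern
import Groth.Agent.S11268

/-!
Homogeneous ideals of Schubert varieties via pattern matrices and standard monomials.
-/

set_option autoImplicit false
universe u

open MvPolynomial W4bk4grassmannian Finset

namespace Groth.Agent.Grass54

variable {d n : ℕ}

theorem val_le_idx (θ : Idx d n) (t : Fin d) : t.val ≤ (θ.1 t).val := by
  have h1 : ((Finset.Iio t).image θ.1) ⊆ Finset.Iio (θ.1 t) := fun x hx => by
    obtain ⟨s, hs, rfl⟩ := Finset.mem_image.1 hx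
    exact Finset.mem_Iio.2 (θ.2 (Finset.mem_Iio.1 hs))
  have h2 := Finset.card_le_card h1
  rwa [Finset.card_image_of_injective _ θ.2.injective, Fin.card_Iio, Fin.card_Iio] at h2

/-- The least index. -/
def botIdx (hdn : d < n) : Idx d n := ⟨fun t => ⟨t.val, lt_trans t.isLt hdn⟩, fun _ _ h => h⟩

theorem botIdx_le (hdn : d < n) (θ : Idx d n) : botIdx hdn ≤ θ := fun t => val_le_idx θ t

/-- The second least index: `(0, …, d - 2, d)`. -/
def sndIdx (hdn : d < n) : Idx d n :=
  ⟨fun t => ⟨if t.val + 1 = d then d else t.val, by split_ifs <;> omega⟩, fun a b h => by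
    simp only [Fin.lt_def] at h ⊢
    split_ifs <;> omega⟩

theorem not_sndIdx_le_botIdx (hd : 0 < d) (hdn : d < n) : ¬ sndIdx hdn ≤ botIdx hdn := fun h => by
  have h' := h ⟨d - 1, by omega⟩
  simp only [sndIdx, botIdx, Fin.le_def] at h'
  split_ifs at h' <;> omega

theorem idx_sub_val_mono (θ : Idx d n) {s t : Fin d} (h : s ≤ t) :
    (θ.1 s).val + t.val ≤ (θ.1 t).val + s.val := by
  have h1 : ((Finset.Ico s t).image θ.1) ⊆ Finset.Ico (θ.1 s) (θ.1 t) := fun x hx => by
    obtain ⟨r, hr, rfl⟩ := Finset.mem_image.1 hx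
    exact Finset.mem_Ico.2 ⟨θ.2.monotone (Finset.mem_Ico.1 hr).1, θ.2 (Finset.mem_Ico.1 hr).2⟩
  have h2 := Finset.card_le_card h1
  rw [Finset.card_image_of_injective _ θ.2.injective, Fin.card_Ico, Fin.card_Ico] at h2
  have := Fin.le_def.1 (θ.2.monotone h)
  have := Fin.le_def.1 h
  omega

theorem sndIdx_le (hdn : d < n) {θ : Idx d n} (h : θ ≠ botIdx hdn) : sndIdx hdn ≤ θ := fun s => by
  have hs := val_le_idx θ s
  simp only [sndIdx, Fin.le_def]
  split_ifs with he
  · obtain ⟨t, ht⟩ : ∃ t, (θ.1 t).val ≠ t.val := by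
      by_contra hc
      push Not at hc
      exact h (Subtype.ext (funext fun t => Fin.ext (hc t)))
    have := val_le_idx θ t
    have := idx_sub_val_mono θ (show t ≤ s from Fin.le_def.2 (by omega))
    omega
  · exact hs

variable (K : Type u) [CommRing K]

theorem plIdealTop_le_plIdeal (τ : Idx d n) : plIdealTop (d := d) (n := n) K ≤ plIdeal K τ :=
  Ideal.span_mono Set.subset_union_left

theorem chainMon_mem {I : Ideal (PlRing K d n)} {m : ℕ} (c : Fin m → Idx d n) (k : Fin m)
    (h : (X (c k) : PlRing K d n) ∈ I) : chainMon K c ∈ I := by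
  rw [chainMon, ← Finset.mul_prod_erase _ _ (Finset.mem_univ k)]
  exact I.mul_mem_right _ h

theorem mem_schubertVanishing {τ : Idx d n} {f : PlRing K d n} :
    f ∈ schubertVanishing K d n τ ↔ ∀ A : Matrix (Fin n) (Fin d) K,
      (∀ φ : Idx d n, ¬ φ ≤ τ → (A.submatrix φ.1 id).det = 0) → evalMinors K d n A f = 0 := by
  simp only [schubertVanishing, Ideal.mem_iInf, RingHom.mem_ker]
  rfl

theorem schubertVanishing_antitone {τ τ' : Idx d n} (h : τ ≤ τ') :
    schubertVanishing K d n τ' ≤ schubertVanishing K d n τ := fun _ hf =>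
  (mem_schubertVanishing K).2 fun A hA =>
    (mem_schubertVanishing K).1 hf A fun φ hφ => hA φ fun h' => hφ (h'.trans h)

theorem X_mem_schubertVanishing {τ φ : Idx d n} (h : ¬ φ ≤ τ) :
    (X φ : PlRing K d n) ∈ schubertVanishing K d n τ := (mem_schubertVanishing K).2 fun A hA => by
  rw [evalMinors, aeval_X]; exact hA φ h

theorem plIdeal_le_schubertVanishing (τ : Idx d n) : plIdeal K τ ≤ schubertVanishing K d n τ := by
  rw [plIdeal, Ideal.span_le]
  rintro f (⟨i, j, r, -, rfl⟩ | ⟨φ, hφ, rfl⟩)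
  · exact (mem_schubertVanishing K).2 fun A _ => aeval_shuffleRel A i j r
  · exact X_mem_schubertVanishing K hφ

theorem plIdealTop_le_vanishing : plIdealTop (d := d) (n := n) K ≤ vanishing K d n := by
  rw [plIdealTop, Ideal.span_le]
  rintro f ⟨i, j, r, -, rfl⟩
  simp only [vanishing, SetLike.mem_coe, Ideal.mem_iInf, RingHom.mem_ker]
  exact fun A => aeval_shuffleRel A i j r

theorem eval_patMap (v w : Idx d n) (p : Fin n × Fin d → K) (f : PlRing K d n) :
    MvPolynomial.eval p (patMap K v w f) = evalMinors K d n ((pat K v w).map (MvPolynomial.eval p)) f := by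
  have h : (MvPolynomial.aeval p).comp (patMap K v w) =
      evalMinors K d n ((pat K v w).map (MvPolynomial.eval p)) := by
    refine MvPolynomial.algHom_ext fun θ => ?_
    rw [AlgHom.comp_apply, patMap_X, evalMinors, aeval_X, AlgHom.map_det]
    rfl
  exact DFunLike.congr_fun h f

section Fields

variable (F : Type u) [Field F] [Infinite F]

theorem schubertVanishing_le_ker (v : Idx d n) (τ : Idx d n) {f : PlRing F d n}
    (hf : f ∈ schubertVanishing F d n τ) : patMap F v τ f = 0 := by
  refine MvPolynomial.funext fun p => ?_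
  rw [eval_patMap, map_zero]
  refine (mem_schubertVanishing F).1 hf _ fun φ hφ => ?_
  have h := eval_patMap F v τ p (X φ)
  rw [patMap_eq_zero_of_not_le F hφ, map_zero, evalMinors, aeval_X] at h
  exact h.symm

theorem vanishing_le_ker (v w : Idx d n) {f : PlRing F d n} (hf : f ∈ vanishing F d n) :
    patMap F v w f = 0 := by
  simp only [vanishing, Ideal.mem_iInf, RingHom.mem_ker] at hf
  refine MvPolynomial.funext fun p => ?_
  rw [eval_patMap, map_zero]
  exact hf _

theorem ker_le_plIdeal (hd : 0 < d) (hdn : d < n) (τ : Idx d n) {f : PlRing F d n}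
    (hf : patMap F (botIdx hdn) τ f = 0) : f ∈ plIdeal F τ := by
  refine mem_ker_patMap F hd _ _ f _ (plIdealTop_le_plIdeal F τ) (fun c hc => ?_) hf
  obtain ⟨k, hk⟩ : ∃ k, ¬ c.2.1 k ≤ τ := by
    by_contra hcon
    push Not at hcon
    exact hc fun k => ⟨botIdx_le hdn _, hcon k⟩
  exact chainMon_mem F _ k (Ideal.subset_span (Or.inr ⟨_, hk, rfl⟩))

theorem plIdeal_eq (hd : 0 < d) (hdn : d < n) (τ : Idx d n) :
    plIdeal F τ = schubertVanishing F d n τ :=
  le_antisymm (plIdeal_le_schubertVanishing F τ) fun _ hf =>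
    ker_le_plIdeal F hd hdn τ (schubertVanishing_le_ker F _ τ hf)

theorem schubertVanishing_eq_ker (hd : 0 < d) (hdn : d < n) (τ : Idx d n) :
    schubertVanishing F d n τ = RingHom.ker (patMap F (botIdx hdn) τ).toRingHom :=
  le_antisymm (fun _ hf => schubertVanishing_le_ker F _ τ hf) fun _ hf =>
    plIdeal_le_schubertVanishing F τ (ker_le_plIdeal F hd hdn τ hf)

theorem schubertVanishing_isPrime (hd : 0 < d) (hdn : d < n) (τ : Idx d n) :
    (schubertVanishing F d n τ).IsPrime := by
  rw [schubertVanishing_eq_ker F hd hdn τ]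
  exact RingHom.ker_isPrime _

theorem plIdealTop_le_schubertVanishing (τ : Idx d n) :
    plIdealTop (d := d) (n := n) F ≤ schubertVanishing F d n τ :=
  (plIdealTop_le_plIdeal F τ).trans (plIdeal_le_schubertVanishing F τ)

theorem chain_mem_schubertVanishing (τ : Idx d n) (c : Std d n) (h : ¬ ∀ k, c.2.1 k ≤ τ) :
    chainMon F c.2.1 ∈ schubertVanishing F d n τ := by
  push Not at h
  obtain ⟨k, hk⟩ := h
  exact chainMon_mem F _ k (X_mem_schubertVanishing F hk)

/-- Coefficients of standard monomials below `τ` vanish on `J τ`. -/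
theorem coeff_eq_zero_of_mem (hd : 0 < d) (hdn : d < n) (τ : Idx d n) (a : Std d n →₀ F)
    (ha : Finsupp.linearCombination F (fun c : Std d n => chainMon F c.2.1) a ∈ schubertVanishing F d n τ)
    (c : Std d n) (hc : ∀ k, c.2.1 k ≤ τ) : a c = 0 :=
  coeff_eq_zero_of_patMap F hd (botIdx hdn) τ a (schubertVanishing_le_ker F _ τ ha) c
    fun k => ⟨botIdx_le hdn _, hc k⟩

/-- Standard expansion of an element of an intersection of Schubert ideals. -/
theorem mem_of_std {ι : Type*} (hd : 0 < d) (hdn : d < n) (τs : ι → Idx d n) {f : PlRing F d n}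
    (hf : ∀ i, f ∈ schubertVanishing F d n (τs i)) (I : Ideal (PlRing F d n))
    (hI : plIdealTop (d := d) (n := n) F ≤ I)
    (hout : ∀ c : Std d n, (∀ i, ¬ ∀ k, c.2.1 k ≤ τs i) → chainMon F c.2.1 ∈ I) : f ∈ I := by
  classical
  obtain ⟨a, ha⟩ := exists_std_decomp F f
  have hlc : Finsupp.linearCombination F (fun c : Std d n => chainMon F c.2.1) a ∈ I := by
    rw [Finsupp.linearCombination_apply]
    refine I.sum_mem fun c hc => ?_
    simp only [Algebra.smul_def]
    refine I.mul_mem_left _ (hout c fun i hi => Finsupp.mem_support_iff.1 hc ?_)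
    refine coeff_eq_zero_of_mem F hd hdn (τs i) a ?_ c hi
    have h := sub_mem (hf i) (plIdealTop_le_schubertVanishing F (τs i) ha)
    simpa using h
  simpa using add_mem (hI ha) hlc

theorem schubertVanishing_sup (hd : 0 < d) (hdn : d < n) (w₁ w₂ : Idx d n) :
    schubertVanishing F d n w₁ ⊔ schubertVanishing F d n w₂ =
      schubertVanishing F d n (W4bk4grassmannian.inf w₁ w₂) := by
  refine le_antisymm (sup_le (schubertVanishing_antitone F fun t => min_le_left _ _)
    (schubertVanishing_antitone F fun t => min_le_right _ _)) fun f hf => ?_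
  refine mem_of_std F hd hdn (fun _ : Unit => W4bk4grassmannian.inf w₁ w₂) (fun _ => hf) _
    ((plIdealTop_le_schubertVanishing F w₁).trans le_sup_left) fun c hc => ?_
  by_cases h1 : ∀ k, c.2.1 k ≤ w₁
  · by_cases h2 : ∀ k, c.2.1 k ≤ w₂
    · exact absurd (fun k t => le_min (h1 k t) (h2 k t)) (hc ())
    · exact Ideal.mem_sup_right (chain_mem_schubertVanishing F w₂ c h2)
  · exact Ideal.mem_sup_left (chain_mem_schubertVanishing F w₁ c h1)

theorem sup_span_top_eq_iInf (hd : 0 < d) (hdn : d < n) (τ : Idx d n) (hτ : ∃ φ : Idx d n, φ < τ) :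
    schubertVanishing F d n τ ⊔ Ideal.span {X τ} =
      ⨅ φ ∈ divisors τ, schubertVanishing F d n φ := by
  refine le_antisymm (le_iInf₂ fun φ hφ => sup_le (schubertVanishing_antitone F hφ.1.le) ?_) fun f hf => ?_
  · rw [Ideal.span_le, Set.singleton_subset_iff]
    exact X_mem_schubertVanishing F fun h => absurd h (not_le_of_gt hφ.1)
  simp only [Ideal.mem_iInf] at hf
  refine mem_of_std F hd hdn (fun φ : divisors τ => φ.1) (fun φ => hf φ.1 φ.2) _
    ((plIdealTop_le_schubertVanishing F τ).trans le_sup_left) fun c hc => ?_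
  by_cases h1 : ∀ k, c.2.1 k ≤ τ
  swap
  · exact Ideal.mem_sup_left (chain_mem_schubertVanishing F τ c h1)
  by_cases h2 : ∃ k, c.2.1 k = τ
  · obtain ⟨k, hk⟩ := h2
    exact Ideal.mem_sup_right (chainMon_mem F _ k (by rw [hk]; exact Ideal.subset_span rfl))
  push Not at h2
  obtain ⟨φ, hφ, hle⟩ : ∃ φ ∈ divisors τ, ∀ k, c.2.1 k ≤ φ := by
    obtain ⟨m, c, hc'⟩ := c
    cases m with
    | zero =>
      obtain ⟨φ₀, hφ₀⟩ := hτ
      obtain ⟨φ, hφ, -⟩ := Groth.Agent.S11268.result d n φ₀ τ hφ₀
      exact ⟨φ, hφ, fun k => k.elim0⟩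
    | succ m =>
      obtain ⟨φ, hφ, hle⟩ := Groth.Agent.S11268.result d n (c 0) τ (lt_of_le_of_ne (h1 0) (h2 0))
      exact ⟨φ, hφ, fun k => (hc' (Fin.zero_le k)).trans hle⟩
  exact absurd hle (hc ⟨φ, hφ⟩)

theorem sup_span_botIdx_eq_ker (hd : 0 < d) (hdn : d < n) (w : Idx d n) :
    schubertVanishing F d n w ⊔ Ideal.span {X (botIdx hdn)} =
      RingHom.ker (patMap F (sndIdx hdn) w).toRingHom := by
  refine le_antisymm (sup_le (fun f hf => schubertVanishing_le_ker F _ w hf) ?_) fun f hf => ?_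
  · rw [Ideal.span_le, Set.singleton_subset_iff]
    exact patMap_eq_zero_of_not_ge F (not_sndIdx_le_botIdx hd hdn)
  refine mem_ker_patMap F hd _ _ f _ ((plIdealTop_le_schubertVanishing F w).trans le_sup_left)
    (fun c hc => ?_) hf
  by_cases h1 : ∀ k, c.2.1 k ≤ w
  swap
  · exact Ideal.mem_sup_left (chain_mem_schubertVanishing F w c h1)
  obtain ⟨k, hk⟩ : ∃ k, c.2.1 k = botIdx hdn := by
    by_contra hcon
    push Not at hcon
    exact hc fun k => ⟨sndIdx_le hdn (hcon k), h1 k⟩
  exact Ideal.mem_sup_right (chainMon_mem F _ k (by rw [hk]; exact Ideal.subset_span rfl))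

theorem X_notMem_schubertVanishing (hdn : d < n) {θ τ : Idx d n} (h : θ ≤ τ) :
    (X θ : PlRing F d n) ∉ schubertVanishing F d n τ := fun hm => by
  have h1 := (lead_patMap F (botIdx_le hdn θ) h).1
  rw [schubertVanishing_le_ker F _ τ hm, coeff_zero] at h1
  exact zero_ne_one h1

theorem prime_X_botIdx (hd : 0 < d) (hdn : d < n) (w : Idx d n) :
    Prime (Ideal.Quotient.mk (schubertVanishing F d n w) (X (botIdx hdn))) := by
  have hne : Ideal.Quotient.mk (schubertVanishing F d n w) (X (botIdx hdn)) ≠ 0 := fun h =>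
    X_notMem_schubertVanishing F hdn (botIdx_le hdn w) (Ideal.Quotient.eq_zero_iff_mem.1 h)
  rw [← Ideal.span_singleton_prime hne]
  have h : Ideal.span {Ideal.Quotient.mk (schubertVanishing F d n w) (X (botIdx hdn))} =
      Ideal.map (Ideal.Quotient.mk (schubertVanishing F d n w))
        (schubertVanishing F d n w ⊔ Ideal.span {X (botIdx hdn)}) := by
    rw [Ideal.map_sup, Ideal.map_quotient_self, bot_sup_eq, Ideal.map_span, Set.image_singleton]
  rw [h, sup_span_botIdx_eq_ker F hd hdn w]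
  haveI : (RingHom.ker (patMap F (sndIdx hdn) w).toRingHom).IsPrime := RingHom.ker_isPrime _
  refine Ideal.map_isPrime_of_surjective Ideal.Quotient.mk_surjective ?_
  rw [Ideal.mk_ker, ← sup_span_botIdx_eq_ker F hd hdn w]
  exact le_sup_left

end Fields

end Groth.Agent.Grass54
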