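import Mathlib
import Groth.Agent.Grass54.Schubert
import Groth.Agent.EGA4Alg4.IntegralDim

/-!
Finiteness over the level sums, and the dimension of Schubert cones.
-/

set_option autoImplicit false
universe u

open MvPolynomial W4bk4grassmannian Finset

namespace Groth.Agent.Grass54

variable {d n : ℕ}

theorem codeg_add (θ : Idx d n) : codeg θ + ∑ t : Fin d, t.val = wsum θ := by
  rw [codeg, wsum, ← Finset.sum_add_distrib]
  exact Finset.sum_congr rfl fun t _ => Nat.sub_add_cancel (val_le_idx θ t)

theorem wsum_eq_iff {θ θ' : Idx d n} : wsum θ = wsum θ' ↔ codeg θ = codeg θ' := by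
  rw [← codeg_add θ, ← codeg_add θ']; omega

theorem codeg_mono {θ θ' : Idx d n} (h : θ ≤ θ') : codeg θ ≤ codeg θ' :=
  Finset.sum_le_sum fun t _ => Nat.sub_le_sub_right (h t) _

theorem codeg_botIdx (hdn : d < n) : codeg (botIdx hdn) = 0 := by simp [codeg, botIdx]

theorem codeg_eq_zero_iff (hdn : d < n) {w : Idx d n} : codeg w = 0 ↔ w = botIdx hdn := by
  constructor
  · intro h
    refine (eq_of_le_of_wsum_le (botIdx_le hdn w) ?_).symm
    rw [← codeg_add, ← codeg_add, codeg_botIdx, h]
  · rintro rfl; exact codeg_botIdx hdn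

variable (F : Type u) [Field F] [Infinite F]

/-- The level sums `P k = Σ_{codeg θ = k} X θ`. -/
noncomputable def levelSum (k : ℕ) : PlRing F d n :=
  ∑ θ ∈ Finset.univ.filter (fun θ : Idx d n => codeg θ = k), X θ

/-- The level sums in the coordinate ring of `X(w)`. -/
noncomputable def levelMap (w : Idx d n) :
    MvPolynomial (Fin (codeg w + 1)) F →ₐ[F] PlRing F d n ⧸ schubertVanishing F d n w :=
  MvPolynomial.aeval fun k => Ideal.Quotient.mk _ (levelSum F k.val)

theorem levelMap_finite (hdn : d < n) (w : Idx d n) : (levelMap F w).toRingHom.Finite := by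
  classical
  set J := schubertVanishing F d n w
  let π := Ideal.Quotient.mk J
  algebraize [(levelMap F w).toRingHom]
  haveI : IsScalarTower F (MvPolynomial (Fin (codeg w + 1)) F) (PlRing F d n ⧸ J) :=
    IsScalarTower.of_algebraMap_eq fun x => ((levelMap F w).commutes x).symm
  set T : Submodule (MvPolynomial (Fin (codeg w + 1)) F) (PlRing F d n ⧸ J) :=
    Submodule.span _ (Set.range fun s : Finset (Idx d n) => π (mon F s.val))
  suffices h : ∀ (k g : ℕ) (m : Multiset (Idx d n)), Multiset.card m = k →
      k * (d * n) ^ 2 - pot m = g → π (mon F m) ∈ T by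
    refine Module.Finite.of_fg_top ?_
    have hT : T = ⊤ := by
      rw [eq_top_iff]
      rintro q -
      obtain ⟨f, rfl⟩ := Ideal.Quotient.mk_surjective q
      induction f using MvPolynomial.induction_on' with
      | monomial e a =>
        obtain ⟨m, hm⟩ := exists_mon_eq_monomial F e
        rw [show monomial e a = C a * monomial e (1 : F) by rw [C_mul_monomial, mul_one], ← hm, map_mul]
        have hC : π (C a) = algebraMap (MvPolynomial (Fin (codeg w + 1)) F) (PlRing F d n ⧸ J) (C a) :=
          ((levelMap F w).commutes a).symm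
        rw [hC, ← Algebra.smul_def]
        exact T.smul_mem _ (h _ _ m rfl rfl)
      | add p q hp hq => rw [map_add]; exact T.add_mem hp hq
    rw [← hT]
    exact Submodule.fg_span (Set.finite_range _)
  intro k
  induction k using Nat.strong_induction_on with
  | _ k ihk =>
  intro g
  induction g using Nat.strong_induction_on with
  | _ g ihg =>
  intro m hk hg
  have hnc : ∀ m' : Multiset (Idx d n), Multiset.card m' = k → pot m' = pot m → ¬ IsChainM m' → π (mon F m') ∈ T := by
    intro m' hk' hp hnc
    obtain ⟨p, hp', q, hq, hpq⟩ := Submodule.mem_sup.1 (straighten_lt F m' hnc)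
    rw [← hpq, map_add, Ideal.Quotient.eq_zero_iff_mem.2 (plIdealTop_le_schubertVanishing F w hp'), zero_add]
    refine Submodule.span_induction ?_ (by rw [map_zero]; exact T.zero_mem)
      (fun x y _ _ hx hy => by rw [map_add]; exact T.add_mem hx hy) ?_ hq
    · rintro _ ⟨c, -, -, hpc, rfl⟩
      rw [← mon_map_univ]
      have hcard : Multiset.card (Multiset.map c Finset.univ.val) = k := by simp [hk']
      refine ihg _ ?_ _ hcard rfl
      have := pot_le (Multiset.map c Finset.univ.val)
      rw [hcard] at this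
      omega
    · intro a x _ hx
      rw [MvPolynomial.smul_eq_C_mul, map_mul]
      have hC : π (C a) = algebraMap (MvPolynomial (Fin (codeg w + 1)) F) (PlRing F d n ⧸ J) (C a) :=
        ((levelMap F w).commutes a).symm
      rw [hC, ← Algebra.smul_def]
      exact T.smul_mem _ hx
  by_cases hw : ∀ θ ∈ m, θ ≤ w
  swap
  · push Not at hw
    obtain ⟨θ, hθ, hθw⟩ := hw
    rw [← Multiset.cons_erase hθ, mon, Multiset.map_cons, Multiset.prod_cons, map_mul,
      Ideal.Quotient.eq_zero_iff_mem.2 (X_mem_schubertVanishing F hθw), zero_mul]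
    exact T.zero_mem
  by_cases hch : IsChainM m
  swap
  · exact hnc m hk rfl hch
  by_cases hnd : m.Nodup
  · exact Submodule.subset_span ⟨⟨m, hnd⟩, rfl⟩
  obtain ⟨θ, hθ⟩ : ∃ θ, θ ::ₘ θ ::ₘ 0 ≤ m := by
    rw [Multiset.nodup_iff_le] at hnd
    push Not at hnd
    exact hnd
  obtain ⟨rest, rfl⟩ := Multiset.le_iff_exists_add.1 hθ
  have hlev : codeg θ < codeg w + 1 := Nat.lt_succ_of_le (codeg_mono (hw θ (by simp)))
  have hsplit : π (mon F (θ ::ₘ θ ::ₘ 0 + rest)) =
      (X (⟨codeg θ, hlev⟩ : Fin (codeg w + 1)) : MvPolynomial (Fin (codeg w + 1)) F) • π (mon F (θ ::ₘ rest)) -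
        ∑ θ' ∈ (Finset.univ.filter fun θ' : Idx d n => codeg θ' = codeg θ).erase θ,
          π (mon F (θ' ::ₘ θ ::ₘ rest)) := by
    rw [eq_sub_iff_add_eq, Algebra.smul_def]
    have hX : algebraMap (MvPolynomial (Fin (codeg w + 1)) F) (PlRing F d n ⧸ J)
        (X (⟨codeg θ, hlev⟩ : Fin (codeg w + 1))) = π (levelSum F (codeg θ)) := aeval_X _ _
    rw [hX, ← map_mul, ← map_sum, ← map_add, levelSum, Finset.sum_mul,
      ← Finset.add_sum_erase (Finset.univ.filter fun θ' : Idx d n => codeg θ' = codeg θ) _
        (show θ ∈ Finset.univ.filter (fun θ' : Idx d n => codeg θ' = codeg θ) by simp)]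
    simp [mon, Multiset.cons_add, mul_comm, mul_left_comm]
  rw [hsplit]
  refine T.sub_mem (T.smul_mem _ ?_) (T.sum_mem fun θ' hθ' => ?_)
  · refine ihk (Multiset.card (θ ::ₘ rest)) ?_ _ _ rfl rfl
    rw [← hk]; simp
  · obtain ⟨hne, hlev'⟩ := Finset.mem_erase.1 hθ'
    have hlev' := (Finset.mem_filter.1 hlev').2
    have hws : wsum θ' = wsum θ := wsum_eq_iff.2 hlev'
    refine hnc _ ?_ ?_ fun hc => ?_
    · rw [← hk]; simp
    · simp [pot, hws]
    · rcases hc θ' (by simp) θ (by simp) with h | h
      · exact hne (eq_of_le_of_wsum_le h hws.ge)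
      · exact hne (eq_of_le_of_wsum_le h hws.le).symm

theorem ringKrullDim_schubert_le (hdn : d < n) (w : Idx d n) :
    ringKrullDim (PlRing F d n ⧸ schubertVanishing F d n w) ≤ ((codeg w + 1 : ℕ) : WithBot ℕ∞) := by
  algebraize [(levelMap F w).toRingHom]
  haveI : Module.Finite (MvPolynomial (Fin (codeg w + 1)) F) (PlRing F d n ⧸ schubertVanishing F d n w) :=
    levelMap_finite F hdn w
  refine (EGA4Alg4.ringKrullDim_le_of_integral (MvPolynomial (Fin (codeg w + 1)) F) _).trans_eq ?_
  rw [MvPolynomial.ringKrullDim_of_isNoetherianRing, ringKrullDim_eq_zero_of_field, Nat.card_eq_fintype_card,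
    Fintype.card_fin]
  simp

theorem mem_schubertVanishing_constantCoeff (hd : 0 < d) (w : Idx d n) {f : PlRing F d n}
    (hf : f ∈ schubertVanishing F d n w) : constantCoeff f = 0 := by
  have hz : ∀ φ : Idx d n, ((0 : Matrix (Fin n) (Fin d) F).submatrix φ.1 id).det = 0 := fun φ =>
    Matrix.det_eq_zero_of_row_eq_zero ⟨0, hd⟩ fun _ => rfl
  have h := (mem_schubertVanishing F).1 hf 0 fun φ _ => hz φ
  simp only [evalMinors, hz] at h
  rwa [aeval_zero', Algebra.algebraMap_self, RingHom.id_apply] at h

theorem le_ringKrullDim_schubert (hd : 0 < d) (hdn : d < n) (w : Idx d n) :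
    ((codeg w + 1 : ℕ) : WithBot ℕ∞) ≤ ringKrullDim (PlRing F d n ⧸ schubertVanishing F d n w) := by
  induction hk : codeg w generalizing w with
  | zero =>
    haveI := schubertVanishing_isPrime F hd hdn w
    let f : PlRing F d n ⧸ schubertVanishing F d n w →+* F :=
      Ideal.Quotient.lift _ constantCoeff fun a ha => mem_schubertVanishing_constantCoeff F hd w ha
    have hne : Ideal.Quotient.mk (schubertVanishing F d n w) (X w) ≠ 0 := fun h =>
      X_notMem_schubertVanishing F hdn le_rfl (Ideal.Quotient.eq_zero_iff_mem.1 h)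
    have h := ringKrullDim_succ_le_of_surjective f
      (Ideal.Quotient.lift_surjective_of_surjective _ _ fun c => ⟨C c, constantCoeff_C _ c⟩)
      (mem_nonZeroDivisors_of_ne_zero hne) (by simp [f])
    rw [ringKrullDim_eq_zero_of_field, zero_add] at h
    exact_mod_cast h
  | succ k ih =>
    have hlt : botIdx hdn < w := lt_of_le_of_ne (botIdx_le hdn w) fun h => by
      rw [← h, codeg_botIdx] at hk; exact Nat.succ_ne_zero _ hk.symm
    obtain ⟨φ, hφ, -⟩ := Groth.Agent.S11268.result d n _ w hlt
    haveI := schubertVanishing_isPrime F hd hdn w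
    have hne : Ideal.Quotient.mk (schubertVanishing F d n w) (X w) ≠ 0 := fun h =>
      X_notMem_schubertVanishing F hdn le_rfl (Ideal.Quotient.eq_zero_iff_mem.1 h)
    have h := ringKrullDim_succ_le_of_surjective
      (Ideal.Quotient.factor (schubertVanishing_antitone F hφ.1.le))
      (Ideal.Quotient.factor_surjective _) (mem_nonZeroDivisors_of_ne_zero hne)
      (by rw [Ideal.Quotient.factor_mk]
          exact Ideal.Quotient.eq_zero_iff_mem.2 (X_mem_schubertVanishing F (not_le_of_gt hφ.1)))
    refine le_trans ?_ h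
    push_cast
    gcongr
    have := ih φ (by have := hφ.2; omega)
    push_cast at this
    exact this

theorem ringKrullDim_schubert (hd : 0 < d) (hdn : d < n) (w : Idx d n) :
    ringKrullDim (PlRing F d n ⧸ schubertVanishing F d n w) = ((codeg w + 1 : ℕ) : WithBot ℕ∞) :=
  le_antisymm (ringKrullDim_schubert_le F hdn w) (le_ringKrullDim_schubert F hd hdn w)

end Groth.Agent.Grass54
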