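import Mathlib
import Groth.Agent.Grass54.Schubert

/-!
Schubert cones are normal.
-/

set_option autoImplicit false
universe u

open MvPolynomial W4bk4grassmannian Finset

namespace Groth.Agent.Grass54

variable {d n : ℕ}

/-- A total monomial order refining the diagonal weight. -/
noncomputable def key (e : (Fin n × Fin d) →₀ ℕ) : Lex (Fin (n * d + 1) →₀ ℕ) :=
  toLex (Finsupp.single 0 (W e) + Finsupp.mapDomain (fun p => (finProdFinEquiv p).succ) e)

theorem key_add (e f : (Fin n × Fin d) →₀ ℕ) : key (e + f) = key e + key f := by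
  rw [key, key, key, W_add, Finsupp.single_add, Finsupp.mapDomain_add, ← toLex_add]
  congr 1
  abel

theorem key_zero_apply (e : (Fin n × Fin d) →₀ ℕ) : ofLex (key e) 0 = W e := by
  rw [key, ofLex_toLex, Finsupp.add_apply, Finsupp.single_eq_same, Finsupp.mapDomain_notin_range, add_zero]
  rintro ⟨p, hp⟩
  exact Fin.succ_ne_zero _ hp

theorem key_injective : Function.Injective (key (d := d) (n := n)) := by
  intro e f h
  ext p
  have h' := congrArg (fun x : Lex (Fin (n * d + 1) →₀ ℕ) => ofLex x (finProdFinEquiv p).succ) h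
  have hi : Function.Injective (fun p : Fin n × Fin d => (finProdFinEquiv p).succ) :=
    (Fin.succ_injective _).comp finProdFinEquiv.injective
  simp only [key, ofLex_toLex, Finsupp.add_apply, Finsupp.single_eq_of_ne (Fin.succ_ne_zero _), zero_add] at h'
  rwa [Finsupp.mapDomain_apply hi, Finsupp.mapDomain_apply hi] at h'

theorem key_lt_of_W_lt {e f : (Fin n × Fin d) →₀ ℕ} (h : W e < W f) : key e < key f :=
  Finsupp.Lex.lt_iff.2 ⟨0, fun j hj => absurd hj (Fin.not_lt_zero j), by rwa [key_zero_apply, key_zero_apply]⟩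

variable {K : Type u} [CommRing K]

/-- `e` is the exponent of the top monomial of `P`. -/
def KLead (P : MatRing K d n) (e : (Fin n × Fin d) →₀ ℕ) : Prop :=
  P.coeff e ≠ 0 ∧ ∀ e', P.coeff e' ≠ 0 → key e' ≤ key e

theorem exists_kLead {P : MatRing K d n} (hP : P ≠ 0) : ∃ e, KLead P e := by
  obtain ⟨e, he, hmax⟩ := Finset.exists_max_image P.support key (MvPolynomial.support_nonempty.2 hP)
  exact ⟨e, mem_support_iff.1 he, fun e' he' => hmax e' (mem_support_iff.2 he')⟩

theorem kLead_unique {P : MatRing K d n} {e f : (Fin n × Fin d) →₀ ℕ} (he : KLead P e) (hf : KLead P f) : e = f :=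
  key_injective (le_antisymm (hf.2 e he.1) (he.2 f hf.1))

theorem kLead_mul [IsDomain K] {P Q : MatRing K d n} {e f : (Fin n × Fin d) →₀ ℕ} (hP : KLead P e)
    (hQ : KLead Q f) : KLead (P * Q) (e + f) := by
  classical
  refine ⟨?_, fun g hg => ?_⟩
  · rw [coeff_mul, Finset.sum_eq_single (e, f)]
    · exact mul_ne_zero hP.1 hQ.1
    · rintro ⟨a, b⟩ hab hne
      by_contra h
      rw [Finset.HasAntidiagonal.mem_antidiagonal] at hab
      have h1 := hP.2 a (left_ne_zero_of_mul h)
      have h2 := hQ.2 b (right_ne_zero_of_mul h)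
      have hsum : key a + key b = key e + key f := by rw [← key_add, ← key_add, hab]
      rcases h1.lt_or_eq with h1 | h1
      · exact absurd hsum (ne_of_lt (add_lt_add_of_lt_of_le h1 h2))
      · rw [h1, add_right_inj] at hsum
        exact hne (Prod.ext (key_injective h1) (key_injective hsum))
    · intro h; exact absurd (Finset.HasAntidiagonal.mem_antidiagonal.2 (show (e, f).1 + (e, f).2 = e + f from rfl)) h
  · rw [coeff_mul] at hg
    obtain ⟨⟨a, b⟩, hab, h⟩ := Finset.exists_ne_zero_of_sum_ne_zero hg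
    rw [Finset.HasAntidiagonal.mem_antidiagonal] at hab
    rw [← hab, key_add, key_add]
    exact add_le_add (hP.2 a (left_ne_zero_of_mul h)) (hQ.2 b (right_ne_zero_of_mul h))

theorem kLead_pow [IsDomain K] {P : MatRing K d n} {e : (Fin n × Fin d) →₀ ℕ} (hP : KLead P e) :
    ∀ r : ℕ, KLead (P ^ r) (r • e) := by
  classical
  intro r
  induction r with
  | zero =>
    rw [pow_zero, zero_smul]
    refine ⟨by simp, fun e' he' => ?_⟩
    rw [coeff_one] at he'
    split_ifs at he' with h
    · rw [h]
    · exact absurd rfl he'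
  | succ r ih => rw [pow_succ, succ_nsmul]; exact kLead_mul ih hP

theorem kLead_of_lead [Nontrivial K] {P : MatRing K d n} {e : (Fin n × Fin d) →₀ ℕ} (h : Lead K P e) :
    KLead P e :=
  ⟨by rw [h.1]; exact one_ne_zero, fun e' he' => by
    rcases h.2 e' he' with h' | h'
    · rw [h']
    · exact (key_lt_of_W_lt h').le⟩

/-- The column counts of an exponent. -/
def cnt (e : (Fin n × Fin d) →₀ ℕ) (s : ℕ) (t : Fin d) : ℕ :=
  ∑ x ∈ Finset.univ.filter (fun x : Fin n => s ≤ x.val), e (x, t)

/-- The cone of leading exponents of `X(w)`. -/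
def InCone (w : Idx d n) (e : (Fin n × Fin d) →₀ ℕ) : Prop :=
  (∀ t t' : Fin d, cnt e 0 t = cnt e 0 t') ∧
    (∀ (s : Fin n) (t : Fin d), w.1 t < s → e (s, t) = 0) ∧
    (∀ (t t' : Fin d), t.val + 1 = t'.val → ∀ s : ℕ, cnt e s t ≤ cnt e (s + 1) t')

theorem cnt_add (e f : (Fin n × Fin d) →₀ ℕ) (s : ℕ) (t : Fin d) : cnt (e + f) s t = cnt e s t + cnt f s t := by
  simp [cnt, Finset.sum_add_distrib]

theorem cnt_smul (r : ℕ) (e : (Fin n × Fin d) →₀ ℕ) (s : ℕ) (t : Fin d) : cnt (r • e) s t = r * cnt e s t := by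
  simp [cnt, Finset.mul_sum]

theorem cnt_cexp {m : ℕ} (c : Fin m → Idx d n) (s : ℕ) (t : Fin d) :
    cnt (cexp c) s t = (Finset.univ.filter fun k => s ≤ ((c k).1 t).val).card := by
  classical
  rw [cnt, Finset.card_eq_sum_card_fiberwise (f := fun k => (c k).1 t)
    (t := Finset.univ.filter (fun x : Fin n => s ≤ x.val))
    (fun k hk => Finset.mem_filter.2 ⟨Finset.mem_univ _, (Finset.mem_filter.1 hk).2⟩)]
  refine Finset.sum_congr rfl fun x hx => ?_
  rw [cexp_apply, Finset.filter_filter]
  congr 1
  refine Finset.filter_congr fun k _ => ⟨fun h => ⟨by have := (Finset.mem_filter.1 hx).2; beta_reduce; rw [h]; exact this, h⟩, fun h => h.2⟩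

theorem inCone_cexp (w : Idx d n) {m : ℕ} (c : Fin m → Idx d n) (hw : ∀ k, c k ≤ w) : InCone w (cexp c) := by
  classical
  refine ⟨fun t t' => by simp [cnt_cexp], fun s t hs => ?_, fun t t' htt s => ?_⟩
  · rw [cexp_apply, Finset.card_eq_zero, Finset.filter_eq_empty_iff]
    intro k _ hk
    exact absurd (hw k t) (not_le.2 (hk ▸ hs))
  · rw [cnt_cexp, cnt_cexp]
    refine Finset.card_le_card fun k hk => ?_
    simp only [Finset.mem_filter, Finset.mem_univ, true_and] at hk ⊢
    have := Fin.lt_def.1 ((c k).2 (show t < t' from Fin.lt_def.2 (by omega)))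
    omega

theorem cnt_mono (e : (Fin n × Fin d) →₀ ℕ) {s s' : ℕ} (h : s ≤ s') (t : Fin d) : cnt e s' t ≤ cnt e s t :=
  Finset.sum_le_sum_of_subset fun x hx => by
    simp only [Finset.mem_filter, Finset.mem_univ, true_and] at hx ⊢
    omega

theorem cnt_eq_add_cnt_succ (e : (Fin n × Fin d) →₀ ℕ) (s : Fin n) (t : Fin d) :
    cnt e s.val t = e (s, t) + cnt e (s.val + 1) t := by
  classical
  rw [cnt, cnt, show (Finset.univ.filter fun x : Fin n => s.val ≤ x.val) =
    insert s (Finset.univ.filter fun x : Fin n => s.val + 1 ≤ x.val) by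
      ext x; simp only [Finset.mem_filter, Finset.mem_univ, true_and, Finset.mem_insert, Fin.ext_iff]; omega,
    Finset.sum_insert (by simp)]

theorem exists_chain_of_inCone (hd : 0 < d) (w : Idx d n) {e : (Fin n × Fin d) →₀ ℕ} (he : InCone w e) :
    ∃ c : Std d n, (∀ k, c.2.1 k ≤ w) ∧ cexp c.2.1 = e := by
  classical
  obtain ⟨h1, h2, h3⟩ := he
  set m := cnt e 0 (⟨0, hd⟩ : Fin d) with hm
  have hn : ∀ t, cnt e n t = 0 := fun t => Finset.sum_eq_zero fun x hx => by
    simp only [Finset.mem_filter] at hx; omega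
  have hex : ∀ (k : Fin m) (t : Fin d), ∃ s : ℕ, cnt e (s + 1) t ≤ k.val ∧ k.val < cnt e s t := by
    intro k t
    have hP : ∃ s, cnt e (s + 1) t ≤ k.val := ⟨n, (cnt_mono e (Nat.le_succ n) t).trans (by rw [hn]; exact Nat.zero_le _)⟩
    refine ⟨Nat.find hP, Nat.find_spec hP, ?_⟩
    rcases h : Nat.find hP with _ | s
    · rw [h1 t ⟨0, hd⟩]; exact k.isLt
    · have := Nat.find_min hP (show s < Nat.find hP by omega)
      omega
  choose v hv1 hv2 using hex
  have hv_iff : ∀ (k : Fin m) (t : Fin d) (s : ℕ), s ≤ v k t ↔ k.val < cnt e s t := fun k t s =>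
    ⟨fun hs => lt_of_lt_of_le (hv2 k t) (cnt_mono e hs t), fun hs => by
      by_contra hc
      exact absurd ((cnt_mono e (show v k t + 1 ≤ s by omega) t).trans (hv1 k t)) (not_le.2 hs)⟩
  have hvn : ∀ k t, v k t < n := fun k t => by
    by_contra hc
    have := (hv_iff k t n).1 (not_lt.1 hc)
    rw [hn] at this
    exact absurd this (Nat.not_lt_zero _)
  have hvw : ∀ k t, v k t ≤ (w.1 t).val := fun k t => by
    by_contra hc
    have h0 : cnt e ((w.1 t).val + 1) t = 0 := Finset.sum_eq_zero fun x hx =>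
      h2 x t (Fin.lt_def.2 (by simp only [Finset.mem_filter] at hx; omega))
    have := (hv_iff k t ((w.1 t).val + 1)).1 (by omega)
    omega
  have hstep : ∀ k (t t' : Fin d), t.val + 1 = t'.val → v k t < v k t' := fun k t t' htt =>
    (hv_iff k t' (v k t + 1)).2 (lt_of_lt_of_le ((hv_iff k t _).1 le_rfl) (h3 t t' htt _))
  have hmono : ∀ k : Fin m, StrictMono fun t : Fin d => (⟨v k t, hvn k t⟩ : Fin n) := by
    intro k a b hab
    rw [Fin.lt_def]
    have : ∀ (j : ℕ) (hj : a.val + j + 1 < d), v k a < v k ⟨a.val + j + 1, hj⟩ := by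
      intro j
      induction j with
      | zero => intro hj; exact hstep k a _ (by simp)
      | succ j ih => intro hj; exact (ih (by omega)).trans (hstep k _ _ (by simp only; omega))
    have hb := this (b.val - a.val - 1) (by have := b.isLt; have := Fin.lt_def.1 hab; omega)
    have hbe : (⟨a.val + (b.val - a.val - 1) + 1, by have := b.isLt; have := Fin.lt_def.1 hab; omega⟩ : Fin d) = b :=
      Fin.ext (by have := Fin.lt_def.1 hab; simp only; omega)
    rw [hbe] at hb
    exact hb
  let c : Fin m → Idx d n := fun k => ⟨fun t => ⟨v k t, hvn k t⟩, hmono k⟩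
  have hc : Antitone c := fun k k' hk t => Fin.le_def.2 ((hv_iff k t _).2
    (lt_of_le_of_lt (Fin.le_def.1 hk) ((hv_iff k' t _).1 le_rfl)))
  refine ⟨⟨m, c, hc⟩, fun k t => Fin.le_def.2 (hvw k t), ?_⟩
  have hcnt : ∀ (s : ℕ) (t : Fin d), cnt (cexp c) s t = cnt e s t := by
    intro s t
    rw [cnt_cexp]
    have hle : cnt e s t ≤ m := (cnt_mono e (Nat.zero_le s) t).trans_eq (h1 t _)
    rw [show (Finset.univ.filter fun k : Fin m => s ≤ ((c k).1 t).val) =
      Finset.univ.filter (fun k : Fin m => k.val < cnt e s t) from Finset.filter_congr fun k _ => hv_iff k t s]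
    rw [Fin.card_filter_val_lt]
    omega
  ext ⟨s, t⟩
  have e1 := cnt_eq_add_cnt_succ (cexp c) s t
  have e2 := cnt_eq_add_cnt_succ e s t
  rw [hcnt, hcnt] at e1
  change cexp c (s, t) = _
  omega

variable (F : Type u) [Field F] [Infinite F]

theorem exists_kLead_patMap (hd : 0 < d) (hdn : d < n) (w : Idx d n) (f : PlRing F d n) {e : (Fin n × Fin d) →₀ ℕ}
    (he : KLead (patMap F (botIdx hdn) w f) e) : InCone w e := by
  classical
  obtain ⟨a, ha⟩ := exists_std_decomp F f
  have hφ := patMap_plIdealTop F (botIdx hdn) w ha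
  rw [map_sub, sub_eq_zero] at hφ
  rw [hφ] at he
  set S := a.support.filter fun c => InIcc (botIdx hdn) w c
  have hsum : ∀ e', (patMap F (botIdx hdn) w (Finsupp.linearCombination F (fun c : Std d n => chainMon F c.2.1) a)).coeff e' =
      ∑ c ∈ S, a c * (patMap F (botIdx hdn) w (chainMon F c.2.1)).coeff e' := by
    intro e'
    simp only [Finsupp.linearCombination_apply, Finsupp.sum, map_sum, map_smul, coeff_sum, coeff_smul, smul_eq_mul]
    refine (Finset.sum_filter_of_ne fun c _ hne => ?_).symm
    by_contra hI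
    exact hne (by rw [patMap_chain_eq_zero F _ hI, coeff_zero, mul_zero])
  have hSne : S.Nonempty := by
    by_contra h
    rw [Finset.not_nonempty_iff_eq_empty] at h
    exact he.1 (by rw [hsum, h, Finset.sum_empty])
  obtain ⟨c₀, hc₀, hmax⟩ := Finset.exists_max_image S (fun c => key (cexp c.2.1)) hSne
  have hlead : KLead (patMap F (botIdx hdn) w (Finsupp.linearCombination F (fun c : Std d n => chainMon F c.2.1) a))
      (cexp c₀.2.1) := by
    refine ⟨?_, fun e' he' => ?_⟩
    · rw [hsum, Finset.sum_eq_single c₀]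
      · rw [(lead_chain F c₀.2.1 (Finset.mem_filter.1 hc₀).2).1, mul_one]
        exact Finsupp.mem_support_iff.1 (Finset.mem_filter.1 hc₀).1
      · intro c hc hne
        by_contra h
        have hle := (kLead_of_lead (lead_chain F c.2.1 (Finset.mem_filter.1 hc).2)).2 _ (right_ne_zero_of_mul h)
        exact hne (std_ext hd (key_injective (le_antisymm (hmax c hc) hle)))
      · exact fun h => absurd hc₀ h
    · rw [hsum] at he'
      obtain ⟨c, hc, hne⟩ := Finset.exists_ne_zero_of_sum_ne_zero he'
      exact ((kLead_of_lead (lead_chain F c.2.1 (Finset.mem_filter.1 hc).2)).2 _ (right_ne_zero_of_mul hne)).trans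
        (hmax c hc)
  rw [kLead_unique he hlead]
  exact inCone_cexp w _ fun k => ((Finset.mem_filter.1 hc₀).2 k).2

theorem isHomogeneous_degree_le {P : MatRing F d n} {D : ℕ} (hP : P.totalDegree ≤ D) {e : (Fin n × Fin d) →₀ ℕ}
    (he : P.coeff e ≠ 0) : e.degree ≤ D :=
  le_trans (le_totalDegree (mem_support_iff.2 he)) hP

theorem isHomogeneous_patMap_chain (v w : Idx d n) {m : ℕ} (c : Fin m → Idx d n) :
    (patMap F v w (chainMon F c)).IsHomogeneous (m * d) := by
  rw [chainMon, map_prod]
  have h : ∀ k ∈ (Finset.univ : Finset (Fin m)), (patMap F v w (X (c k))).IsHomogeneous d := by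
    intro k _
    rw [patMap_X, Matrix.det_apply]
    refine IsHomogeneous.sum _ _ _ fun σ _ => ?_
    rw [Units.smul_def, zsmul_eq_mul, ← map_intCast (C : F →+* MatRing F d n)]
    refine IsHomogeneous.C_mul ?_ _
    have := IsHomogeneous.prod (Finset.univ : Finset (Fin d)) (fun t => (pat F v w).submatrix (c k).1 id (σ t) t)
      (fun _ => 1) fun t _ => by
        simp only [pat, Matrix.submatrix_apply, Matrix.of_apply, id]
        split_ifs
        · exact isHomogeneous_X _ _
        · exact isHomogeneous_zero _ _ _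
    simpa using this
  simpa using IsHomogeneous.prod (Finset.univ : Finset (Fin m)) _ (fun _ => d) h

theorem degree_cexp {m : ℕ} (c : Fin m → Idx d n) : (cexp c).degree = m * d := by
  simp [cexp, dexp, map_sum]

theorem mem_range_of_bounded (hd : 0 < d) (hdn : d < n) (w : Idx d n) (b : PlRing F d n)
    (hb : patMap F (botIdx hdn) w b ≠ 0) : ∀ P : MatRing F d n,
    (∀ r : ℕ, patMap F (botIdx hdn) w b * P ^ r ∈ (patMap F (botIdx hdn) w).range) →
      P ∈ (patMap F (botIdx hdn) w).range := by
  classical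
  set φ := patMap F (botIdx hdn) w
  -- leading exponents lie in the cone
  have hcone : ∀ P : MatRing F d n, (∀ r : ℕ, φ b * P ^ r ∈ φ.range) → ∀ e, KLead P e → InCone w e := by
    intro P hP e he
    obtain ⟨eb, heb⟩ := exists_kLead hb
    have hr : ∀ r : ℕ, InCone w (eb + r • e) := fun r => by
      obtain ⟨f, hf⟩ := hP r
      refine exists_kLead_patMap F hd hdn w f ?_
      rw [show patMap F (botIdx hdn) w f = φ b * P ^ r from hf]
      exact kLead_mul heb (kLead_pow he r)
    refine ⟨fun t t' => ?_, fun s t hs => ?_, fun t t' htt s => ?_⟩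
    · have h0 := (hr 0).1 t t'
      have h1 := (hr 1).1 t t'
      simp only [cnt_add, cnt_smul, zero_mul, one_mul] at h0 h1
      omega
    · have h1 := (hr 1).2.1 s t hs
      simp at h1
      exact h1.2
    · by_contra hlt
      have h1 := (hr (cnt eb (s + 1) t' + 1)).2.2 t t' htt s
      simp only [cnt_add, cnt_smul] at h1
      nlinarith
  intro P
  -- induction on the rank of the top exponent
  set D := P.totalDegree
  have hfin : {e : (Fin n × Fin d) →₀ ℕ | e.degree ≤ D}.Finite := Finsupp.finite_of_degree_le D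
  suffices h : ∀ (N : ℕ) (Q : MatRing F d n), Q.totalDegree ≤ D → (∀ e, KLead Q e →
      (hfin.toFinset.filter fun e' => key e' ≤ key e).card ≤ N) →
      (∀ r : ℕ, φ b * Q ^ r ∈ φ.range) → Q ∈ φ.range from
    h hfin.toFinset.card P le_rfl fun e _ => Finset.card_filter_le _ _
  intro N
  induction N with
  | zero =>
    intro Q hQ hN _
    by_contra hne
    obtain ⟨e, he⟩ := exists_kLead (P := Q) fun h0 => hne (h0 ▸ Subalgebra.zero_mem _)
    have := hN e he
    rw [Nat.le_zero, Finset.card_eq_zero, Finset.filter_eq_empty_iff] at this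
    exact this (hfin.mem_toFinset.2 (isHomogeneous_degree_le F hQ he.1)) le_rfl
  | succ N ih =>
    intro Q hQ hN hQr
    by_cases hQ0 : Q = 0
    · rw [hQ0]; exact Subalgebra.zero_mem _
    obtain ⟨e, he⟩ := exists_kLead hQ0
    obtain ⟨c, hcw, hce⟩ := exists_chain_of_inCone hd w (hcone Q hQr e he)
    have hl := lead_chain F (v := botIdx hdn) (w := w) c.2.1 (fun k => ⟨botIdx_le hdn _, hcw k⟩)
    rw [hce] at hl
    set T := φ (chainMon F c.2.1)
    have hT : T ∈ φ.range := ⟨_, rfl⟩
    set Q' := Q - Q.coeff e • T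
    have hTdeg : T.totalDegree ≤ D := by
      refine (isHomogeneous_patMap_chain F _ w c.2.1).totalDegree_le.trans ?_
      rw [← degree_cexp, hce]
      exact isHomogeneous_degree_le F hQ he.1
    have hQ'deg : Q'.totalDegree ≤ D :=
      (totalDegree_sub _ _).trans (max_le hQ ((totalDegree_smul_le _ _).trans hTdeg))
    have hQ'e : Q'.coeff e = 0 := by simp [Q', T, φ, hl.1]
    have hQ'lt : ∀ e', Q'.coeff e' ≠ 0 → key e' < key e := by
      intro e' he'
      refine lt_of_le_of_ne ?_ fun h => he' (key_injective h ▸ hQ'e)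
      by_cases h : Q.coeff e' = 0
      · refine (kLead_of_lead hl).2 e' fun h0 => he' ?_
        change (Q - Q.coeff e • φ (chainMon F c.2.1)).coeff e' = 0
        rw [coeff_sub, coeff_smul, h, h0, smul_zero, sub_zero]
      · exact he.2 e' h
    have hQ'r : ∀ r : ℕ, φ b * Q' ^ r ∈ φ.range := by
      intro r
      rw [show Q' = - (Q.coeff e • T) + Q by simp only [Q']; ring, add_pow, Finset.mul_sum]
      refine Subalgebra.sum_mem _ fun i _ => ?_
      rw [show φ b * ((-(Q.coeff e • T)) ^ i * Q ^ (r - i) * (r.choose i : MatRing F d n)) =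
        ((-(Q.coeff e • T)) ^ i * (r.choose i : MatRing F d n)) * (φ b * Q ^ (r - i)) by ring]
      exact Subalgebra.mul_mem _ (Subalgebra.mul_mem _ (Subalgebra.pow_mem _ (Subalgebra.neg_mem _
        (Subalgebra.smul_mem _ hT _)) _) (natCast_mem _ _)) (hQr _)
    have hQ'mem : Q' ∈ φ.range := by
      refine ih Q' hQ'deg (fun e' he' => ?_) hQ'r
      have hlt := hQ'lt e' he'.1
      have h1 := hN e he
      have h2 : (hfin.toFinset.filter fun x => key x ≤ key e').card <
          (hfin.toFinset.filter fun x => key x ≤ key e).card := by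
        refine Finset.card_lt_card ⟨fun x hx => ?_, fun hsub => ?_⟩
        · simp only [Finset.mem_filter] at hx ⊢
          exact ⟨hx.1, hx.2.trans hlt.le⟩
        · have := hsub (Finset.mem_filter.2 ⟨hfin.mem_toFinset.2 (isHomogeneous_degree_le F hQ he.1), le_rfl⟩)
          exact absurd (Finset.mem_filter.1 this).2 (not_le.2 hlt)
      omega
    have := Subalgebra.add_mem _ hQ'mem (Subalgebra.smul_mem _ hT (Q.coeff e))
    simpa [Q'] using this

theorem isIntegrallyClosed_schubert (hd : 0 < d) (hdn : d < n) (w : Idx d n) :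
    IsIntegrallyClosed (PlRing F d n ⧸ schubertVanishing F d n w) := by
  classical
  set A := PlRing F d n ⧸ schubertVanishing F d n w
  haveI := schubertVanishing_isPrime F hd hdn w
  set φ := patMap F (botIdx hdn) w
  let ι : A →+* MatRing F d n := Ideal.Quotient.lift _ φ.toRingHom fun f hf => schubertVanishing_le_ker F _ w hf
  have hι : Function.Injective ι := by
    rw [injective_iff_map_eq_zero]
    intro x hx
    obtain ⟨f, rfl⟩ := Ideal.Quotient.mk_surjective x
    rw [Ideal.Quotient.eq_zero_iff_mem, schubertVanishing_eq_ker F hd hdn w]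
    exact hx
  let ψ : FractionRing A →+* FractionRing (MatRing F d n) :=
    IsFractionRing.lift (g := (algebraMap (MatRing F d n) _).comp ι) ((IsFractionRing.injective _ _).comp hι)
  have hψ : ∀ a : A, ψ (algebraMap A (FractionRing A) a) = algebraMap _ _ (ι a) :=
    fun a => IsFractionRing.lift_algebraMap _ a
  rw [isIntegrallyClosed_iff (FractionRing A)]
  intro x hx
  obtain ⟨p, hpm, hp⟩ := hx
  have hint : IsIntegral (MatRing F d n) (ψ x) := by
    refine ⟨p.map ι, hpm.map ι, ?_⟩
    rw [Polynomial.eval₂_map, ← RingHom.map_zero ψ, ← hp, Polynomial.hom_eval₂]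
    congr 1
    exact RingHom.ext fun a => (hψ a).symm
  obtain ⟨P, hP⟩ := IsIntegrallyClosed.isIntegral_iff.1 hint
  obtain ⟨a₁, a₂, ha₂, hx12⟩ := IsFractionRing.div_surjective (A := A) (K := FractionRing A) x
  -- a denominator bounded for all powers
  have hden : ∀ r : ℕ, ∃ y : A, algebraMap A (FractionRing A) (a₂ ^ p.natDegree) * x ^ r = algebraMap A _ y := by
    intro r
    induction r using Nat.strong_induction_on with
    | _ r ih =>
      rcases lt_or_ge r p.natDegree with hr | hr
      · refine ⟨a₂ ^ (p.natDegree - r) * a₁ ^ r, ?_⟩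
        have h2 : algebraMap A (FractionRing A) a₂ ≠ 0 :=
          IsFractionRing.to_map_ne_zero_of_mem_nonZeroDivisors ha₂
        rw [← hx12, map_mul, map_pow, map_pow, map_pow, div_pow, ← mul_div_assoc,
          div_eq_iff (pow_ne_zero _ h2)]
        conv_lhs => rw [show p.natDegree = p.natDegree - r + r by omega, pow_add]
        ring
      · choose! y hy using ih
        refine ⟨- ∑ i ∈ Finset.range p.natDegree, p.coeff i * y (i + (r - p.natDegree)), ?_⟩
        have hpe : x ^ p.natDegree = - ∑ i ∈ Finset.range p.natDegree, algebraMap A _ (p.coeff i) * x ^ i := by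
          rw [eq_neg_iff_add_eq_zero]
          have := hp
          rw [Polynomial.eval₂_eq_sum_range, Finset.sum_range_succ, hpm.coeff_natDegree, map_one, one_mul] at this
          rw [add_comm]; exact this
        rw [show x ^ r = x ^ p.natDegree * x ^ (r - p.natDegree) by rw [← pow_add, Nat.add_sub_cancel' hr], hpe,
          neg_mul, Finset.sum_mul, mul_neg, Finset.mul_sum, map_neg, map_sum]
        congr 1
        refine Finset.sum_congr rfl fun i hi => ?_
        rw [map_mul, ← hy (i + (r - p.natDegree)) (by have := Finset.mem_range.1 hi; omega), pow_add]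
        ring
  obtain ⟨b, hb⟩ := Ideal.Quotient.mk_surjective (a₂ ^ p.natDegree)
  have hιb : ι (a₂ ^ p.natDegree) = φ b := by rw [← hb]; rfl
  have hb0 : φ b ≠ 0 := by
    rw [← hιb, ← map_zero ι]
    exact hι.ne (pow_ne_zero _ (nonZeroDivisors.ne_zero ha₂))
  have hmem : P ∈ φ.range := mem_range_of_bounded F hd hdn w b hb0 P fun r => by
    obtain ⟨y, hy⟩ := hden r
    obtain ⟨f, rfl⟩ := Ideal.Quotient.mk_surjective y
    refine ⟨f, IsFractionRing.injective (MatRing F d n) (FractionRing (MatRing F d n)) ?_⟩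
    have h := congrArg ψ hy
    rw [map_mul, hψ, hψ, map_pow ψ, ← hP, hιb] at h
    change algebraMap _ _ (φ f) = _
    rw [map_mul, map_pow]
    exact h.symm
  obtain ⟨f, hf⟩ := hmem
  refine ⟨Ideal.Quotient.mk _ f, ψ.injective ?_⟩
  rw [hψ, ← hP]
  exact congrArg _ hf

end Groth.Agent.Grass54
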