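import Mathlib
import Groth.Prelude.Def_CAlgX
import Groth.Agent.EGA4Alg4.QuasiReg

/-!
Graded quotients of polynomial rings are free over a regular sequence of linear forms.
-/

set_option autoImplicit false
universe u

open MvPolynomial Pointwise RingTheory.Sequence

namespace Groth.Agent.Grass54

variable {K : Type u} [Field K] {σ : Type} {r : ℕ}

/-- An ideal stable under taking homogeneous components. -/
def IsHomog (J : Ideal (MvPolynomial σ K)) : Prop := ∀ f ∈ J, ∀ k, homogeneousComponent k f ∈ J

theorem homogeneousComponent_mul_linear {p : MvPolynomial σ K} (hp : p.IsHomogeneous 1) (g : MvPolynomial σ K)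
    (m : ℕ) :
    homogeneousComponent m (g * p) = if m = 0 then 0 else homogeneousComponent (m - 1) g * p := by
  classical
  induction g using MvPolynomial.induction_on' with
  | monomial e a =>
    have hh : (monomial e a : MvPolynomial σ K).IsHomogeneous e.degree := isHomogeneous_monomial _ rfl
    rw [homogeneousComponent_of_mem (hh.mul hp), homogeneousComponent_of_mem hh]
    rcases m with _ | m
    · rw [if_pos rfl, if_neg (by omega)]
    · rw [if_neg (Nat.succ_ne_zero m), Nat.succ_sub_one]
      by_cases h : m = e.degree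
      · rw [if_pos h, if_pos (by omega)]
      · rw [if_neg h, if_neg (by omega), zero_mul]
  | add a b ha hb =>
    rw [add_mul, map_add, ha, hb]
    split_ifs <;> simp [map_add, add_mul]

theorem isHomog_span_linear {J : Ideal (MvPolynomial σ K)} (hJ : IsHomog J) (P : Fin r → MvPolynomial σ K)
    (hP : ∀ i, (P i).IsHomogeneous 1) : IsHomog (J ⊔ Ideal.span (Set.range P)) := by
  intro f hf k
  obtain ⟨a, ha, b, hb, rfl⟩ := Submodule.mem_sup.1 hf
  obtain ⟨g, rfl⟩ := (Ideal.mem_span_range_iff_exists_fun).1 hb
  rw [map_add, map_sum]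
  refine add_mem (Ideal.mem_sup_left (hJ a ha k)) (Ideal.mem_sup_right (Ideal.sum_mem _ fun i _ => ?_))
  rw [homogeneousComponent_mul_linear (hP i)]
  split_ifs
  · exact zero_mem _
  · exact Ideal.mul_mem_left _ _ (Ideal.subset_span ⟨i, rfl⟩)

theorem exists_basis_monomials (I : Ideal (MvPolynomial σ K)) :
    ∃ B : Set (σ →₀ ℕ), LinearIndependent K (fun e : B => Ideal.Quotient.mk I (monomial e.1 1)) ∧
      Submodule.span K (Set.range fun e : B => Ideal.Quotient.mk I (monomial e.1 1)) = ⊤ := by
  obtain ⟨B, -, -, hspan, hli⟩ := exists_linearIndepOn_extension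
    (K := K) (v := fun e : σ →₀ ℕ => Ideal.Quotient.mk I (monomial e 1)) (linearIndepOn_empty K _)
    (Set.subset_univ _)
  refine ⟨B, hli, ?_⟩
  rw [eq_top_iff]
  rintro q -
  obtain ⟨f, rfl⟩ := Ideal.Quotient.mk_surjective q
  induction f using MvPolynomial.induction_on' with
  | monomial e a =>
    have h := hspan ⟨e, Set.mem_univ e, rfl⟩
    rw [Set.image_eq_range] at h
    have h2 := Submodule.smul_mem _ a h
    rw [show monomial e a = a • monomial e (1 : K) by rw [smul_monomial, smul_eq_mul, mul_one]]
    exact h2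
  | add p q hp hq => rw [map_add]; exact Submodule.add_mem _ hp hq

variable {J : Ideal (MvPolynomial σ K)} {P : Fin r → MvPolynomial σ K}

/-- The structure map of the parameter ring. -/
noncomputable def parMap (J : Ideal (MvPolynomial σ K)) (P : Fin r → MvPolynomial σ K) :
    MvPolynomial (Fin r) K →ₐ[K] MvPolynomial σ K ⧸ J :=
  MvPolynomial.aeval fun i => Ideal.Quotient.mk J (P i)

theorem eval_mem_pow {A : Type u} [CommRing A] [Algebra K A] (f : Fin r → A) {N : ℕ} (q : MvPolynomial (Fin r) K)
    (hq : ∀ k < N, homogeneousComponent k q = 0) : MvPolynomial.aeval f q ∈ Ideal.span (Set.range f) ^ N := by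
  rw [← sum_homogeneousComponent q, map_sum]
  refine Ideal.sum_mem _ fun k _ => ?_
  rcases lt_or_ge k N with h | h
  · rw [hq k h, map_zero]; exact zero_mem _
  · refine Ideal.pow_le_pow_right h ?_
    have hh := EGA4Alg4.eval_mem_span_pow f (P := map (algebraMap K A) (homogeneousComponent k q))
      ((homogeneousComponent_isHomogeneous k q).map _)
    rwa [eval_map, ← aeval_def] at hh

theorem free_of_weaklyRegular (hJ : IsHomog J) (hP : ∀ i, (P i).IsHomogeneous 1)
    (hreg : IsWeaklyRegular (MvPolynomial σ K ⧸ J) (List.ofFn P)) :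
    ∃ B : Set (σ →₀ ℕ),
      LinearIndependent K (fun e : B => Ideal.Quotient.mk (J ⊔ Ideal.span (Set.range P)) (monomial e.1 1)) ∧
      letI := (parMap J P).toRingHom.toAlgebra
      Nonempty (Module.Basis B (MvPolynomial (Fin r) K) (MvPolynomial σ K ⧸ J)) := by
  classical
  set I := J ⊔ Ideal.span (Set.range P)
  obtain ⟨B, hli, hsp⟩ := exists_basis_monomials I
  refine ⟨B, hli, ?_⟩
  letI := (parMap J P).toRingHom.toAlgebra
  haveI : IsScalarTower K (MvPolynomial (Fin r) K) (MvPolynomial σ K ⧸ J) :=
    IsScalarTower.of_algebraMap_eq fun x => ((parMap J P).commutes x).symm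
  let v : B → MvPolynomial σ K ⧸ J := fun e => Ideal.Quotient.mk J (monomial e.1 1)
  have hqr : CAlgX.IsQuasiRegular (fun i => Ideal.Quotient.mk J (P i)) := by
    refine EGA4Alg4.isQuasiRegular_of_isWeaklyRegular r _ ?_
    have h := (isWeaklyRegular_map_algebraMap_iff (MvPolynomial σ K ⧸ J) (MvPolynomial σ K ⧸ J) (List.ofFn P)).2 hreg
    rw [List.map_ofFn] at h
    exact h
  have hspanI : Ideal.span (Set.range fun i => Ideal.Quotient.mk J (P i)) =
      (Ideal.span (Set.range P)).map (Ideal.Quotient.mk J) := by
    rw [Ideal.map_span, ← Set.range_comp]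
    rfl
  have hLI : LinearIndependent (MvPolynomial (Fin r) K) v := by
    rw [linearIndependent_iff']
    intro s q hq
    suffices h : ∀ N, ∀ j ∈ s, homogeneousComponent N (q j) = 0 by
      intro j hj
      rw [← sum_homogeneousComponent (q j), Finset.sum_eq_zero fun N _ => h N j hj]
    intro N
    induction N using Nat.strong_induction_on with
    | _ N ih =>
    intro j hj
    set f := fun i => Ideal.Quotient.mk J (P i) with hf
    let Q : MvPolynomial (Fin r) (MvPolynomial σ K ⧸ J) :=
      ∑ x ∈ s, C (v x) * map (algebraMap K _) (homogeneousComponent N (q x))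
    have hQ : Q.IsHomogeneous N :=
      IsHomogeneous.sum _ _ _ fun x _ => ((homogeneousComponent_isHomogeneous N (q x)).map _).C_mul _
    have hev : eval f Q ∈ Ideal.span (Set.range f) ^ (N + 1) := by
      have h1 : eval f Q = ∑ x ∈ s, MvPolynomial.aeval f (homogeneousComponent N (q x)) * v x := by
        rw [map_sum]
        refine Finset.sum_congr rfl fun x _ => ?_
        rw [map_mul, eval_C, eval_map, ← aeval_def, mul_comm]
      have h2 : eval f Q = - ∑ x ∈ s, MvPolynomial.aeval f (q x - homogeneousComponent N (q x)) * v x := by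
        have h0 : ∑ x ∈ s, MvPolynomial.aeval f (q x) * v x = 0 := by
          rw [← hq]
          exact Finset.sum_congr rfl fun x _ => (Algebra.smul_def (q x) (v x)).symm
        rw [eq_neg_iff_add_eq_zero, h1, ← Finset.sum_add_distrib, ← h0]
        exact Finset.sum_congr rfl fun x _ => by rw [← add_mul, ← map_add, add_sub_cancel]
      rw [h2]
      refine neg_mem (Ideal.sum_mem _ fun x hx => Ideal.mul_mem_right _ _ (eval_mem_pow f _ fun k hk => ?_))
      rw [map_sub, homogeneousComponent_of_mem (homogeneousComponent_mem N (q x))]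
      rcases Nat.lt_succ_iff_lt_or_eq.1 hk with h | rfl
      · rw [ih k h x hx, if_neg h.ne, sub_zero]
      · rw [if_pos rfl, sub_self]
    ext d
    rw [coeff_zero]
    have hd := hqr N Q hQ hev d
    rw [hspanI] at hd
    simp only [Q, coeff_sum, coeff_C_mul, coeff_map] at hd
    have hd' : Ideal.Quotient.mk J (∑ x ∈ s, (homogeneousComponent N (q x)).coeff d • monomial x.1 1) ∈
        (Ideal.span (Set.range P)).map (Ideal.Quotient.mk J) := by
      convert hd using 1
      rw [map_sum]
      refine Finset.sum_congr rfl fun x _ => ?_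
      rw [smul_eq_C_mul, map_mul, mul_comm]
      rfl
    rw [← Ideal.mem_comap, Ideal.comap_map_of_surjective _ Ideal.Quotient.mk_surjective, ← RingHom.ker_eq_comap_bot,
      Ideal.mk_ker, sup_comm] at hd'
    have hzero : ∑ x ∈ s, (homogeneousComponent N (q x)).coeff d • Ideal.Quotient.mk I (monomial x.1 1) = 0 := by
      rw [← Ideal.Quotient.eq_zero_iff_mem, map_sum] at hd'
      rw [← hd']
      exact Finset.sum_congr rfl fun x _ => by rw [smul_eq_C_mul, map_mul, Algebra.smul_def]; rfl
    exact linearIndependent_iff'.1 hli s _ hzero j hj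
  have hT : ∀ (m : ℕ) (f : MvPolynomial σ K), f.IsHomogeneous m →
      Ideal.Quotient.mk J f ∈ Submodule.span (MvPolynomial (Fin r) K) (Set.range v) := by
    intro m
    induction m using Nat.strong_induction_on with
    | _ m ih =>
    intro f hf
    have hmem : Ideal.Quotient.mk I f ∈ Submodule.span K (Set.range fun e : B => Ideal.Quotient.mk I (monomial e.1 1)) := by
      rw [hsp]; trivial
    obtain ⟨c, hc⟩ := Finsupp.mem_span_range_iff_exists_finsupp.1 hmem
    have hdiff : f - ∑ x ∈ c.support, c x • monomial x.1 1 ∈ I := by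
      rw [← Ideal.Quotient.eq_zero_iff_mem, map_sub, sub_eq_zero, ← hc, Finsupp.sum, map_sum]
      exact Finset.sum_congr rfl fun x _ => by rw [smul_eq_C_mul (monomial x.1 1), map_mul, Algebra.smul_def]; rfl
    obtain ⟨a, ha, b, hb, hab⟩ := Submodule.mem_sup.1 hdiff
    obtain ⟨g, rfl⟩ := Ideal.mem_span_range_iff_exists_fun.1 hb
    have hcomp := congrArg (homogeneousComponent m) hab
    rw [map_sub, homogeneousComponent_of_mem hf, if_pos rfl, map_add, eq_sub_iff_add_eq] at hcomp
    rw [← hcomp, map_add, map_add, map_sum, map_sum, map_sum, Ideal.Quotient.eq_zero_iff_mem.2 (hJ a ha m), zero_add]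
    refine add_mem (Submodule.sum_mem _ fun i _ => ?_) ?_
    · rw [homogeneousComponent_mul_linear (hP i)]
      split_ifs with h0
      · rw [map_zero]; exact zero_mem _
      · rw [map_mul, mul_comm]
        have hi : Ideal.Quotient.mk J (P i) = algebraMap (MvPolynomial (Fin r) K) (MvPolynomial σ K ⧸ J) (X i) :=
          (aeval_X (fun i => Ideal.Quotient.mk J (P i)) i).symm
        rw [hi, ← Algebra.smul_def]
        exact Submodule.smul_mem _ _ (ih (m - 1) (by omega) _ (homogeneousComponent_isHomogeneous _ _))
    · rw [map_sum]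
      refine Submodule.sum_mem _ fun x _ => ?_
      rw [map_smul, homogeneousComponent_of_mem (show (monomial x.1 (1 : K)) ∈ homogeneousSubmodule σ K x.1.degree
        from isHomogeneous_monomial _ rfl)]
      split_ifs
      · rw [smul_eq_C_mul, map_mul]
        have hC : Ideal.Quotient.mk J (C (c x)) =
            algebraMap (MvPolynomial (Fin r) K) (MvPolynomial σ K ⧸ J) (C (c x)) := ((parMap J P).commutes (c x)).symm
        rw [hC, ← Algebra.smul_def]
        exact Submodule.smul_mem _ _ (Submodule.subset_span ⟨x, rfl⟩)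
      · rw [smul_zero, map_zero]; exact zero_mem _
  refine ⟨Module.Basis.mk hLI ?_⟩
  rintro q -
  obtain ⟨f, rfl⟩ := Ideal.Quotient.mk_surjective q
  rw [← sum_homogeneousComponent f, map_sum]
  exact Submodule.sum_mem _ fun k _ => hT k _ (homogeneousComponent_isHomogeneous k f)

theorem flat_parMap (hJ : IsHomog J) (hP : ∀ i, (P i).IsHomogeneous 1)
    (hreg : IsWeaklyRegular (MvPolynomial σ K ⧸ J) (List.ofFn P)) : (parMap J P).toRingHom.Flat := by
  obtain ⟨B, -, ⟨b⟩⟩ := free_of_weaklyRegular hJ hP hreg
  algebraize [(parMap J P).toRingHom]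
  haveI := Module.Free.of_basis b
  exact (inferInstance : Module.Flat (MvPolynomial (Fin r) K) (MvPolynomial σ K ⧸ J))

theorem finite_parMap (hJ : IsHomog J) (hP : ∀ i, (P i).IsHomogeneous 1)
    (hreg : IsWeaklyRegular (MvPolynomial σ K ⧸ J) (List.ofFn P))
    [Module.Finite K (MvPolynomial σ K ⧸ (J ⊔ Ideal.span (Set.range P)))] : (parMap J P).toRingHom.Finite := by
  obtain ⟨B, hli, ⟨b⟩⟩ := free_of_weaklyRegular hJ hP hreg
  haveI : Finite B := hli.finite
  algebraize [(parMap J P).toRingHom]
  exact (Module.Finite.of_basis b : Module.Finite (MvPolynomial (Fin r) K) (MvPolynomial σ K ⧸ J))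

end Groth.Agent.Grass54
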