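import Mathlib
import Groth.Agent.Grass54.GradedFree
import Groth.Agent.CAlg1.CMPoly

/-!
Cohen–Macaulayness from freeness over a parameter ring.
-/

set_option autoImplicit false
universe u

open MvPolynomial Pointwise RingTheory.Sequence
open scoped TensorProduct

namespace Groth.Agent.Grass54

theorem cm_of_artinian (B : Type u) [CommRing B] [IsArtinianRing B] : LocCoh.IsCohenMacaulayRing B where
  isCohenMacaulayLocalRing_localization p _ := by
    rw [CAlg1.cmLocal_iff]
    refine le_trans ?_ (WithBot.coe_le_coe.2 zero_le)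
    exact Ring.krullDimLE_iff.mp inferInstance

theorem cm_of_flat_finite {R S : Type u} [CommRing R] [CommRing S] [LocCoh.IsCohenMacaulayRing R]
    [Algebra R S] [Module.Flat R S] [Module.Finite R S] : LocCoh.IsCohenMacaulayRing S := by
  haveI : IsNoetherianRing S := IsNoetherianRing.of_finite R S
  refine CAlg1.cm_of_flat_of_fibres (R := R) fun p _ => ?_
  haveI : IsArtinianRing (p.Fiber S) := IsArtinianRing.of_finite p.ResidueField _
  exact cm_of_artinian _

attribute [local instance] MvPolynomial.gradedAlgebra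

variable {K : Type u} [Field K] {σ : Type}

theorem isHomog_span {G : Set (MvPolynomial σ K)} (h : ∀ g ∈ G, ∃ k, g.IsHomogeneous k) :
    IsHomog (Ideal.span G) := fun _ hf k =>
  homogeneousComponent_mem_of_mem
    (Ideal.homogeneous_span (homogeneousSubmodule σ K) G fun g hg => h g hg) hf k

theorem isHomog_iInf {ι : Sort*} {J : ι → Ideal (MvPolynomial σ K)} (h : ∀ i, IsHomog (J i)) :
    IsHomog (⨅ i, J i) := fun f hf k =>
  Ideal.mem_iInf.2 fun i => h i f (Ideal.mem_iInf.1 hf i) k

theorem isHomog_sup {I J : Ideal (MvPolynomial σ K)} (hI : IsHomog I) (hJ : IsHomog J) : IsHomog (I ⊔ J) := by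
  intro f hf k
  obtain ⟨a, ha, b, hb, rfl⟩ := Submodule.mem_sup.1 hf
  rw [map_add]
  exact add_mem (Ideal.mem_sup_left (hI a ha k)) (Ideal.mem_sup_right (hJ b hb k))

theorem isWeaklyRegular_X_comp {r : ℕ} (e : Fin r → Fin r) (he : Function.Injective e) :
    IsWeaklyRegular (MvPolynomial (Fin r) K) (List.ofFn fun i => (X (e i) : MvPolynomial (Fin r) K)) := by
  refine ⟨fun i hi => ?_⟩
  have hn : i < r := by simpa using hi
  have hspan : (Ideal.ofList (List.take i (List.ofFn fun i => (X (e i) : MvPolynomial (Fin r) K))) • ⊤ :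
      Submodule (MvPolynomial (Fin r) K) (MvPolynomial (Fin r) K)) =
      Ideal.span (X '' (e '' {j | j.1 < i})) := by
    rw [smul_eq_mul, Ideal.mul_top, Ideal.ofList, Set.image_image]
    congr 1
    ext y
    rw [Set.mem_ofPred_eq, List.mem_take_iff_getElem]
    constructor
    · rintro ⟨j, hj, rfl⟩
      have hj' : j < r ∧ j < i := by simp at hj; omega
      exact ⟨⟨j, hj'.1⟩, hj'.2, by simp⟩
    · rintro ⟨j, hj, rfl⟩
      exact ⟨j.1, by simp; exact hj, by simp⟩
  rw [List.getElem_ofFn, hspan]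
  refine IsSMulRegular.of_right_eq_zero_of_smul fun y hy => ?_
  obtain ⟨x, rfl⟩ := Submodule.Quotient.mk_surjective _ y
  rw [← Submodule.Quotient.mk_smul, Submodule.Quotient.mk_eq_zero, smul_eq_mul, mul_comm, mem_ideal_span_X_image] at hy
  rw [Submodule.Quotient.mk_eq_zero, mem_ideal_span_X_image]
  intro m hm
  obtain ⟨j, hj, hne⟩ := hy (m + Finsupp.single (e ⟨i, hn⟩) 1) (by
    rw [mem_support_iff, coeff_mul_X]
    exact mem_support_iff.1 hm)
  refine ⟨j, hj, ?_⟩
  have hji : j ≠ e ⟨i, hn⟩ := by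
    obtain ⟨j', hj', rfl⟩ := hj
    exact fun h => (he h ▸ (lt_irrefl i) : ¬ (j'.1 < i)) hj'
  simpa [Finsupp.single_eq_of_ne hji] using hne

theorem weaklyRegular_perm {r : ℕ} {J : Ideal (MvPolynomial σ K)} {P : Fin r → MvPolynomial σ K}
    (hJ : IsHomog J) (hP : ∀ i, (P i).IsHomogeneous 1)
    (hreg : IsWeaklyRegular (MvPolynomial σ K ⧸ J) (List.ofFn P)) (e : Equiv.Perm (Fin r)) :
    IsWeaklyRegular (MvPolynomial σ K ⧸ J) (List.ofFn fun i => P (e i)) := by
  have hflat := flat_parMap hJ hP hreg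
  algebraize [(parMap J P).toRingHom]
  have h := IsWeaklyRegular.of_flat (S := MvPolynomial σ K ⧸ J) (isWeaklyRegular_X_comp (K := K) e e.injective)
  rw [List.map_ofFn] at h
  refine (isWeaklyRegular_map_algebraMap_iff (MvPolynomial σ K ⧸ J) (MvPolynomial σ K ⧸ J) _).1 ?_
  rw [List.map_ofFn]
  have he : ((algebraMap (MvPolynomial σ K) (MvPolynomial σ K ⧸ J)) ∘ fun i => P (e i)) =
      ((algebraMap (MvPolynomial (Fin r) K) (MvPolynomial σ K ⧸ J)) ∘ fun i => X (e i)) :=
    funext fun i => (aeval_X (fun i => Ideal.Quotient.mk J (P i)) (e i)).symm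
  rw [he]
  exact h

theorem cm_of_parameters {r : ℕ} {J : Ideal (MvPolynomial σ K)} {P : Fin r → MvPolynomial σ K}
    (hJ : IsHomog J) (hP : ∀ i, (P i).IsHomogeneous 1)
    (hreg : IsWeaklyRegular (MvPolynomial σ K ⧸ J) (List.ofFn P))
    (hfin : (parMap J P).toRingHom.Finite) : LocCoh.IsCohenMacaulayRing (MvPolynomial σ K ⧸ J) := by
  have hflat := flat_parMap hJ hP hreg
  algebraize [(parMap J P).toRingHom]
  haveI : LocCoh.IsCohenMacaulayRing K := CAlg1.cm_of_pid K
  haveI := CAlg1.cm_mvPolynomial (R := K) r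
  exact cm_of_flat_finite (R := MvPolynomial (Fin r) K)

end Groth.Agent.Grass54
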