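import Mathlib
import Groth.Agent.LC16.SopRegular

/-!
Regular sequences and the Mayer–Vietoris sequence.
-/

set_option autoImplicit false
universe u

open RingTheory.Sequence Pointwise

namespace Groth.Agent.Grass54

variable {R : Type u} [CommRing R]

theorem mk_eq_zero_iff {M : Type u} [AddCommGroup M] [Module R M] (y : R) (m : M) :
    (Submodule.Quotient.mk m : QuotSMulTop y M) = 0 ↔ ∃ m', y • m' = m := by
  rw [Submodule.Quotient.mk_eq_zero, Submodule.mem_smul_pointwise_iff_exists]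
  simp

theorem weaklyRegular_pullback (x : R) : ∀ (rs : List R)
    {M P Q N : Type u} [AddCommGroup M] [Module R M] [AddCommGroup P] [Module R P]
    [AddCommGroup Q] [Module R Q] [AddCommGroup N] [Module R N]
    (i1 : M →ₗ[R] P) (i2 : M →ₗ[R] Q) (p1 : P →ₗ[R] N) (p2 : Q →ₗ[R] N),
    (∀ m, i1 m = 0 → i2 m = 0 → m = 0) →
    (∀ m, p1 (i1 m) + p2 (i2 m) = 0) →
    (∀ a b, p1 a + p2 b = 0 → ∃ m, i1 m = a ∧ i2 m = b) →
    Function.Surjective p1 →
    IsWeaklyRegular P (rs ++ [x]) → IsWeaklyRegular Q (rs ++ [x]) → IsWeaklyRegular N rs →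
    IsWeaklyRegular M (rs ++ [x]) := by
  intro rs
  induction rs with
  | nil =>
    intro M P Q N _ _ _ _ _ _ _ _ i1 i2 p1 p2 hinj hzero hex hsurj hP hQ hN
    rw [List.nil_append, isWeaklyRegular_singleton_iff] at hP hQ ⊢
    refine IsSMulRegular.of_right_eq_zero_of_smul fun m hm => hinj m ?_ ?_
    · exact hP.right_eq_zero_of_smul (by rw [← map_smul, hm, map_zero])
    · exact hQ.right_eq_zero_of_smul (by rw [← map_smul, hm, map_zero])
  | cons y ys ih =>
    intro M P Q N _ _ _ _ _ _ _ _ i1 i2 p1 p2 hinj hzero hex hsurj hP hQ hN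
    rw [List.cons_append, isWeaklyRegular_cons_iff] at hP hQ ⊢
    rw [isWeaklyRegular_cons_iff] at hN
    refine ⟨IsSMulRegular.of_right_eq_zero_of_smul fun m hm => hinj m
      (hP.1.right_eq_zero_of_smul (by rw [← map_smul, hm, map_zero]))
      (hQ.1.right_eq_zero_of_smul (by rw [← map_smul, hm, map_zero])), ?_⟩
    refine ih (QuotSMulTop.map y i1) (QuotSMulTop.map y i2) (QuotSMulTop.map y p1)
      (QuotSMulTop.map y p2) ?_ ?_ ?_ ?_ hP.2 hQ.2 hN.2
    · intro mb
      obtain ⟨m, rfl⟩ := Submodule.Quotient.mk_surjective _ mb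
      simp only [QuotSMulTop.map_apply_mk, mk_eq_zero_iff]
      rintro ⟨a, ha⟩ ⟨b, hb⟩
      have h0 : p1 a + p2 b = 0 := hN.1.right_eq_zero_of_smul (by
        rw [smul_add, ← map_smul, ← map_smul, ha, hb, hzero])
      obtain ⟨m', ha', hb'⟩ := hex a b h0
      refine ⟨m', sub_eq_zero.1 (hinj _ ?_ ?_)⟩
      · rw [map_sub, map_smul, ha', ha, sub_self]
      · rw [map_sub, map_smul, hb', hb, sub_self]
    · intro mb
      obtain ⟨m, rfl⟩ := Submodule.Quotient.mk_surjective _ mb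
      simp only [QuotSMulTop.map_apply_mk, ← Submodule.Quotient.mk_add, hzero, Submodule.Quotient.mk_zero]
    · intro ab bb
      obtain ⟨a, rfl⟩ := Submodule.Quotient.mk_surjective _ ab
      obtain ⟨b, rfl⟩ := Submodule.Quotient.mk_surjective _ bb
      simp only [QuotSMulTop.map_apply_mk, ← Submodule.Quotient.mk_add, mk_eq_zero_iff]
      rintro ⟨c, hc⟩
      obtain ⟨a', rfl⟩ := hsurj c
      obtain ⟨m, hm1, hm2⟩ := hex (a - y • a') b (by rw [map_sub, map_smul, hc]; abel)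
      refine ⟨Submodule.Quotient.mk m, ?_, ?_⟩
      · rw [QuotSMulTop.map_apply_mk, hm1, Submodule.Quotient.mk_sub, sub_eq_self, mk_eq_zero_iff]
        exact ⟨a', rfl⟩
      · rw [QuotSMulTop.map_apply_mk, hm2]
    · intro nb
      obtain ⟨n, rfl⟩ := Submodule.Quotient.mk_surjective _ nb
      obtain ⟨a, rfl⟩ := hsurj n
      exact ⟨Submodule.Quotient.mk a, QuotSMulTop.map_apply_mk y p1 a⟩

theorem weaklyRegular_inf (I J : Ideal R) (rs : List R) (x : R)
    (hI : IsWeaklyRegular (R ⧸ I) (rs ++ [x])) (hJ : IsWeaklyRegular (R ⧸ J) (rs ++ [x]))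
    (hIJ : IsWeaklyRegular (R ⧸ (I ⊔ J)) rs) : IsWeaklyRegular (R ⧸ (I ⊓ J)) (rs ++ [x]) := by
  refine weaklyRegular_pullback x rs
    (Submodule.mapQ (I ⊓ J) I LinearMap.id inf_le_left)
    (Submodule.mapQ (I ⊓ J) J LinearMap.id inf_le_right)
    (Submodule.mapQ I (I ⊔ J) LinearMap.id le_sup_left)
    (- Submodule.mapQ J (I ⊔ J) LinearMap.id le_sup_right) ?_ ?_ ?_ ?_ hI hJ hIJ
  · intro m
    obtain ⟨r, rfl⟩ := Submodule.Quotient.mk_surjective _ m
    rw [Submodule.mapQ_apply, Submodule.mapQ_apply, Submodule.Quotient.mk_eq_zero,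
      Submodule.Quotient.mk_eq_zero, Submodule.Quotient.mk_eq_zero]
    exact fun h1 h2 => ⟨h1, h2⟩
  · intro m
    obtain ⟨r, rfl⟩ := Submodule.Quotient.mk_surjective _ m
    rw [LinearMap.neg_apply, Submodule.mapQ_apply, Submodule.mapQ_apply, Submodule.mapQ_apply,
      Submodule.mapQ_apply]
    simp
  · intro a b
    obtain ⟨a, rfl⟩ := Submodule.Quotient.mk_surjective _ a
    obtain ⟨b, rfl⟩ := Submodule.Quotient.mk_surjective _ b
    simp only [LinearMap.neg_apply, Submodule.mapQ_apply, LinearMap.id_coe, id_eq, ← sub_eq_add_neg,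
      ← Submodule.Quotient.mk_sub, Submodule.Quotient.mk_eq_zero, Submodule.mem_sup]
    rintro ⟨i, hi, j, hj, hij⟩
    refine ⟨Submodule.Quotient.mk (a - i), ?_, ?_⟩
    · rw [Submodule.mapQ_apply, LinearMap.id_apply, Submodule.Quotient.eq]
      simpa using hi
    · rw [Submodule.mapQ_apply, LinearMap.id_apply, Submodule.Quotient.eq]
      have : a - i - b = j := by rw [sub_right_comm, ← hij]; abel
      rwa [this]
  · intro c
    obtain ⟨r, rfl⟩ := Submodule.Quotient.mk_surjective _ c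
    exact ⟨Submodule.Quotient.mk r, rfl⟩

theorem regular_inf [IsNoetherianRing R] [IsLocalRing R] (I J : Ideal R) (d : ℕ) (hd : 0 < d)
    (f : Fin d → R) (hf : ∀ k, f k ∈ IsLocalRing.maximalIdeal R)
    (hI : IsRegular (R ⧸ I) (List.ofFn f)) (hJ : IsRegular (R ⧸ J) (List.ofFn f))
    (hIJ : IsRegular (R ⧸ (I ⊔ J)) ((List.ofFn f).take (d - 1))) :
    IsRegular (R ⧸ (I ⊓ J)) (List.ofFn f) := by
  obtain ⟨e, rfl⟩ : ∃ e, d = e + 1 := ⟨d - 1, by omega⟩
  obtain ⟨x, hx⟩ : ∃ x, (List.ofFn f).drop e = [x] := by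
    refine ⟨f (Fin.last e), ?_⟩
    rw [List.ofFn_succ', List.concat_eq_append, List.drop_left' (by simp)]
  have hsplit : (List.ofFn f).take e ++ [x] = List.ofFn f := by rw [← hx, List.take_append_drop]
  rw [Nat.add_sub_cancel] at hIJ
  have hw : IsWeaklyRegular (R ⧸ (I ⊓ J)) (List.ofFn f) := by
    rw [← hsplit]
    exact weaklyRegular_inf I J _ x (hsplit.symm ▸ hI.toIsWeaklyRegular)
      (hsplit.symm ▸ hJ.toIsWeaklyRegular) hIJ.toIsWeaklyRegular
  have hne : I ⊓ J ≠ ⊤ := by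
    intro h
    refine hI.top_ne_smul (eq_comm.1 (eq_top_iff.2 ?_))
    intro z _
    obtain ⟨r, rfl⟩ := Submodule.Quotient.mk_surjective _ z
    have : r ∈ I := (Submodule.mem_inf.1 (h.symm ▸ Submodule.mem_top : r ∈ I ⊓ J)).1
    rw [(Submodule.Quotient.mk_eq_zero I).2 this]
    exact zero_mem _
  have : Nontrivial (R ⧸ (I ⊓ J)) := Ideal.Quotient.nontrivial_iff.2 hne
  refine LC16.isRegular_of_weakly hw fun r hr => ?_
  obtain ⟨k, rfl⟩ := (List.mem_ofFn' f r).1 hr
  exact hf k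

end Groth.Agent.Grass54
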