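import Mathlib
import Groth.Agent.Grass54.Schubert

/-!
The straightening relation of a skew pair.
-/

set_option autoImplicit false
universe u

open MvPolynomial W4bk4grassmannian Finset

namespace Groth.Agent.Grass54

variable {d n : ℕ}

/-- A chain of length two. -/
def pairStd (α β : Idx d n) (h : β ≤ α) : Std d n :=
  ⟨2, ![α, β], fun x y hxy => by
    fin_cases x <;> fin_cases y <;> first | exact le_rfl | simpa using h | exact absurd hxy (by decide)⟩

theorem chainMon_pairStd (K : Type u) [CommRing K] (α β : Idx d n) (h : β ≤ α) :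
    chainMon K (pairStd α β h).2.1 = X α * X β := by
  change ∏ k : Fin 2, (X (![α, β] k) : PlRing K d n) = _
  rw [Fin.prod_univ_two]
  rfl

theorem forall_pairStd {α β : Idx d n} (h : β ≤ α) (P : Idx d n → Prop) :
    (∀ k, P ((pairStd α β h).2.1 k)) ↔ P α ∧ P β := Fin.forall_fin_two

theorem cexp_pairStd {α β : Idx d n} (h : β ≤ α) : cexp (pairStd α β h).2.1 = dexp α.1 + dexp β.1 :=
  Fin.sum_univ_two (fun k : Fin 2 => dexp (![α, β] k).1)

theorem wsum_sup_add_wsum_inf (τ φ : Idx d n) :
    wsum (W4bk4grassmannian.sup τ φ) + wsum (W4bk4grassmannian.inf τ φ) = wsum τ + wsum φ := by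
  rw [wsum, wsum, wsum, wsum, ← Finset.sum_add_distrib, ← Finset.sum_add_distrib]
  refine Finset.sum_congr rfl fun t _ => ?_
  simp only [W4bk4grassmannian.sup, W4bk4grassmannian.inf]
  rcases le_total (τ.1 t) (φ.1 t) with h | h
  · rw [max_eq_right h, min_eq_left h, add_comm]
  · rw [max_eq_left h, min_eq_right h]

theorem dexp_sup_add_dexp_inf (τ φ : Idx d n) :
    dexp (W4bk4grassmannian.sup τ φ).1 + dexp (W4bk4grassmannian.inf τ φ).1 = dexp τ.1 + dexp φ.1 := by
  rw [dexp, dexp, dexp, dexp, ← Finset.sum_add_distrib, ← Finset.sum_add_distrib]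
  refine Finset.sum_congr rfl fun t _ => ?_
  simp only [W4bk4grassmannian.sup, W4bk4grassmannian.inf]
  rcases le_total (τ.1 t) (φ.1 t) with h | h
  · rw [max_eq_right h, min_eq_left h, add_comm]
  · rw [max_eq_left h, min_eq_right h]

theorem exists_skew (F : Type u) [Field F] [Infinite F] (hd : 0 < d) (τ φ : Idx d n) :
    ∃ g ∈ Submodule.span F {f : PlRing F d n | ∃ α β : Idx d n,
        β ≤ α ∧ W4bk4grassmannian.sup τ φ < α ∧ β < W4bk4grassmannian.inf τ φ ∧
          wsum α + wsum β = wsum τ + wsum φ ∧ f = X α * X β},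
      X τ * X φ - X (W4bk4grassmannian.sup τ φ) * X (W4bk4grassmannian.inf τ φ) - g ∈
        plIdealTop (d := d) (n := n) F := by
  classical
  set M := W4bk4grassmannian.sup τ φ with hM
  set m := W4bk4grassmannian.inf τ φ with hm
  have hmM : m ≤ M := fun t => (min_le_left _ _).trans (le_max_left _ _)
  set c₀ := pairStd M m hmM with hc₀
  -- expansion
  have hs : mon F ({τ, φ} : Multiset (Idx d n)) = X τ * X φ := by simp [mon]
  obtain ⟨p, hp, q, hq, hpq⟩ := Submodule.mem_sup.1 (straighten F ({τ, φ} : Multiset (Idx d n)))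
  have hS : stdSpan (d := d) (n := n) F (Multiset.card ({τ, φ} : Multiset (Idx d n))) (tot {τ, φ}) (pot {τ, φ}) ≤
      Submodule.span F ((fun c : Std d n => chainMon F c.2.1) ''
        {c | ∃ α β, ∃ h : β ≤ α, c = pairStd α β h ∧ wsum α + wsum β = wsum τ + wsum φ}) := by
    rw [show Multiset.card ({τ, φ} : Multiset (Idx d n)) = 2 from rfl]
    refine Submodule.span_mono ?_
    rintro _ ⟨c, hc, htot, -, rfl⟩
    refine ⟨⟨2, c, hc⟩, ⟨c 0, c 1, hc (by decide), ?_, ?_⟩, rfl⟩
    · refine Sigma.ext rfl (heq_of_eq (Subtype.ext (funext fun k => ?_)))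
      fin_cases k <;> rfl
    · simpa [tot, Fin.univ_succ] using htot
  obtain ⟨a, hsupp, rfl⟩ := (Finsupp.mem_span_image_iff_linearCombination F).1 (hS hq)
  rw [Finsupp.mem_supported] at hsupp
  have hdec : X τ * X φ - Finsupp.linearCombination F (fun c : Std d n => chainMon F c.2.1) a ∈
      plIdealTop (d := d) (n := n) F := by
    rw [← hs, ← hpq]; simpa using hp
  -- every chain of the support surrounds the pair
  have hker : ∀ v w : Idx d n, patMap F v w (Finsupp.linearCombination F (fun c : Std d n => chainMon F c.2.1) a) =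
      patMap F v w (X τ * X φ) := fun v w =>
    (sub_eq_zero.1 (by rw [← map_sub]; exact patMap_plIdealTop F v w hdec)).symm
  have hsur : ∀ c ∈ a.support, ∃ α β, ∃ h : β ≤ α, c = pairStd α β h ∧
      wsum α + wsum β = wsum τ + wsum φ ∧ M ≤ α ∧ β ≤ m := by
    intro c hc
    obtain ⟨α, β, h, rfl, hw⟩ := hsupp hc
    refine ⟨α, β, h, rfl, hw, ?_⟩
    by_contra hcon
    refine Finsupp.mem_support_iff.1 hc (coeff_eq_zero_of_patMap F hd β α a ?_ _ ?_)
    · rw [hker, map_mul]
      have hout : ¬ ((β ≤ τ ∧ τ ≤ α) ∧ (β ≤ φ ∧ φ ≤ α)) := fun hh =>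
        hcon ⟨fun t => max_le (hh.1.2 t) (hh.2.2 t), fun t => le_min (hh.1.1 t) (hh.2.1 t)⟩
      by_cases hτ : β ≤ τ ∧ τ ≤ α
      · by_cases h1 : β ≤ φ
        · rw [patMap_eq_zero_of_not_le F fun h2 => hout ⟨hτ, h1, h2⟩, mul_zero]
        · rw [patMap_eq_zero_of_not_ge F h1, mul_zero]
      · by_cases h1 : β ≤ τ
        · rw [patMap_eq_zero_of_not_le F fun h2 => hτ ⟨h1, h2⟩, zero_mul]
        · rw [patMap_eq_zero_of_not_ge F h1, zero_mul]
    · exact (forall_pairStd h fun x => β ≤ x ∧ x ≤ α).2 ⟨⟨h, le_rfl⟩, le_rfl, h⟩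
  have hdich : ∀ c ∈ a.support, c = c₀ ∨ ∃ α β, ∃ h : β ≤ α, c = pairStd α β h ∧
      wsum α + wsum β = wsum τ + wsum φ ∧ M < α ∧ β < m := by
    intro c hc
    obtain ⟨α, β, h, rfl, hw, hα, hβ⟩ := hsur c hc
    have hw' := wsum_sup_add_wsum_inf τ φ
    rw [← hM, ← hm] at hw'
    rcases hα.eq_or_lt with rfl | hα'
    · left
      have : β = m := eq_of_le_of_wsum_le hβ (by omega)
      subst this; rfl
    rcases hβ.eq_or_lt with rfl | hβ'
    · left
      have : M = α := eq_of_le_of_wsum_le hα (by omega)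
      subst this; rfl
    exact Or.inr ⟨α, β, h, rfl, hw, hα', hβ'⟩
  -- the leading coefficient
  have ha₀ : a c₀ = 1 := by
    have h := congrArg (fun P : MatRing F d n => P.coeff (dexp τ.1 + dexp φ.1)) (hker m M)
    simp only [map_mul, Finsupp.linearCombination_apply, Finsupp.sum, map_sum, map_smul, coeff_sum, coeff_smul,
      smul_eq_mul] at h
    rw [(lead_mul F (lead_patMap F (fun t => min_le_left _ _) (fun t => le_max_left _ _))
      (lead_patMap F (fun t => min_le_right _ _) (fun t => le_max_right _ _))).1] at h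
    rw [Finset.sum_eq_single c₀] at h
    · have he : cexp c₀.2.1 = dexp τ.1 + dexp φ.1 := by
        rw [hc₀, cexp_pairStd]
        exact dexp_sup_add_dexp_inf τ φ
      have hl := (lead_chain F (v := m) (w := M) c₀.2.1
        ((forall_pairStd hmM fun x => m ≤ x ∧ x ≤ M).2 ⟨⟨hmM, le_rfl⟩, le_rfl, hmM⟩)).1
      rw [he] at hl
      rwa [hl, mul_one] at h
    · intro c hc hne
      rcases hdich c hc with rfl | ⟨α, β, h', rfl, -, hα, -⟩
      · exact absurd rfl hne
      rw [patMap_chain_eq_zero F _ (fun hh => ?_), coeff_zero, mul_zero]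
      exact absurd ((forall_pairStd h' fun x => m ≤ x ∧ x ≤ M).1 hh).1.2 (not_le_of_gt hα)
    · intro hc
      rw [Finsupp.notMem_support_iff.1 hc, zero_mul]
  refine ⟨Finsupp.linearCombination F (fun c : Std d n => chainMon F c.2.1) (a.erase c₀), ?_, ?_⟩
  · rw [Finsupp.linearCombination_apply]
    refine Submodule.sum_mem _ fun c hc => Submodule.smul_mem _ _ ?_
    rw [Finsupp.support_erase, Finset.mem_erase] at hc
    rcases hdich c hc.2 with rfl | ⟨α, β, h, rfl, hw, hα, hβ⟩
    · exact absurd rfl hc.1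
    exact Submodule.subset_span ⟨α, β, h, hα, hβ, hw, chainMon_pairStd F α β h⟩
  · have he := congrArg (Finsupp.linearCombination F fun c : Std d n => chainMon F c.2.1) (Finsupp.single_add_erase c₀ a)
    rw [map_add, Finsupp.linearCombination_single, ha₀, one_smul, hc₀, chainMon_pairStd, ← hc₀] at he
    rwa [← he, ← sub_sub] at hdec

end Groth.Agent.Grass54
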