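import Mathlib
import Groth.Agent.Grass54.Dimension
import Groth.Agent.Grass54.MV
import Groth.Agent.Grass54.CMFree
import Groth.Agent.Grass54.SkewPair

/-!
Schubert varieties are arithmetically Cohen–Macaulay.
-/

set_option autoImplicit false
universe u

open MvPolynomial W4bk4grassmannian Finset Pointwise RingTheory.Sequence

namespace Groth.Agent.Grass54

variable {d n : ℕ} (F : Type u) [Field F] [Infinite F]

theorem isHomogeneous_levelSum (k : ℕ) : (levelSum (d := d) (n := n) F k).IsHomogeneous 1 :=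
  IsHomogeneous.sum _ _ _ fun θ _ => isHomogeneous_X _ _

omit [Infinite F] in
theorem isHomogeneous_shuffleRel (i j : Idx d n) (r : Fin d) : (shuffleRel F i j r).IsHomogeneous 2 := by
  have hcoord : ∀ a : Fin d → Fin n, (coord F d n a).IsHomogeneous 1 := fun a => by
    unfold coord
    split_ifs
    · rw [show ((-1 : PlRing F d n) ^ invCount d n a) = C ((-1 : F) ^ invCount d n a) by simp]
      exact (isHomogeneous_X _ _).C_mul _
    · exact isHomogeneous_zero _ _ _
  refine IsHomogeneous.sum _ _ _ fun A _ => ?_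
  unfold shuffleTerm
  split_ifs with hA
  · rw [show ((-1 : PlRing F d n) ^ shuffleSign r A) = C ((-1 : F) ^ shuffleSign r A) by simp, mul_assoc]
    exact ((hcoord _).mul (hcoord _)).C_mul _
  · exact isHomogeneous_zero _ _ _

theorem isHomog_schubert (hd : 0 < d) (hdn : d < n) (τ : Idx d n) : IsHomog (schubertVanishing F d n τ) := by
  rw [← plIdeal_eq F hd hdn τ, plIdeal]
  refine isHomog_span ?_
  rintro g (⟨i, j, r, -, rfl⟩ | ⟨φ, -, rfl⟩)
  · exact ⟨2, isHomogeneous_shuffleRel F i j r⟩
  · exact ⟨1, isHomogeneous_X _ _⟩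

theorem iInf_schubert_sup (hd : 0 < d) (hdn : d < n) (φ : Idx d n) (T : Finset (Idx d n)) :
    schubertVanishing F d n φ ⊔ (⨅ ψ ∈ T, schubertVanishing F d n ψ) =
      ⨅ ψ ∈ T.image (W4bk4grassmannian.inf φ), schubertVanishing F d n ψ := by
  classical
  refine le_antisymm (le_iInf₂ fun x hx => ?_) fun f hf => ?_
  · obtain ⟨ψ, hψ, rfl⟩ := Finset.mem_image.1 hx
    exact sup_le (schubertVanishing_antitone F fun t => min_le_left _ _)
      ((iInf₂_le ψ hψ).trans (schubertVanishing_antitone F fun t => min_le_right _ _))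
  · simp only [Ideal.mem_iInf] at hf
    refine mem_of_std F hd hdn (fun ψ : T => W4bk4grassmannian.inf φ ψ.1)
      (fun ψ => hf _ (Finset.mem_image_of_mem _ ψ.2)) _
      ((plIdealTop_le_schubertVanishing F φ).trans le_sup_left) fun c hc => ?_
    by_cases h1 : ∀ k, c.2.1 k ≤ φ
    · refine Ideal.mem_sup_right ?_
      simp only [Ideal.mem_iInf]
      intro ψ hψ
      exact chain_mem_schubertVanishing F ψ c fun h2 => hc ⟨ψ, hψ⟩ fun k t => le_min (h1 k t) (h2 k t)
    · exact Ideal.mem_sup_left (chain_mem_schubertVanishing F φ c h1)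

theorem inf_mem_divisors {w φ ψ : Idx d n} (hφ : φ ∈ divisors w) (hψ : ψ ∈ divisors w) (hne : φ ≠ ψ) :
    W4bk4grassmannian.inf φ ψ ∈ divisors φ := by
  have h1 := codeg_add φ
  have h2 := codeg_add ψ
  have h3 := codeg_add w
  have h4 := codeg_add (W4bk4grassmannian.inf φ ψ)
  have h5 := wsum_sup_add_wsum_inf φ ψ
  have e1 := hφ.2
  have e2 := hψ.2
  have hsupw : W4bk4grassmannian.sup φ ψ ≤ w := fun t => max_le (hφ.1.le t) (hψ.1.le t)
  have hlt : φ < W4bk4grassmannian.sup φ ψ := by
    refine lt_of_le_of_ne (fun t => le_max_left _ _) fun e => hne ?_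
    refine (eq_of_le_of_wsum_le (θ := ψ) (θ' := φ) (fun t => ?_) (by omega)).symm
    rw [e]; exact le_max_right _ _
  have h6 := wsum_strictMono hlt
  have h7 : wsum (W4bk4grassmannian.sup φ ψ) ≤ wsum w := Finset.sum_le_sum fun t _ => hsupw t
  exact ⟨lt_of_le_of_ne (fun t => min_le_left _ _) fun e => by rw [e] at h5; omega, by omega⟩

/-- The list of level sums below `k`. -/
noncomputable def levelList (k : ℕ) : List (PlRing F d n) := List.ofFn fun i : Fin k => levelSum F i.val

omit [Infinite F] in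
theorem levelList_succ (k : ℕ) :
    levelList (d := d) (n := n) F (k + 1) = levelList F k ++ [levelSum F k] := by
  rw [levelList, levelList, List.ofFn_succ', List.concat_eq_append]
  rfl

theorem levelSum_sub_X_mem (w : Idx d n) :
    levelSum F (codeg w) - X w ∈ schubertVanishing F d n w := by
  classical
  rw [levelSum, ← Finset.add_sum_erase _ _ (show w ∈ Finset.univ.filter (fun θ : Idx d n => codeg θ = codeg w) by simp),
    add_sub_cancel_left]
  refine Ideal.sum_mem _ fun θ hθ => X_mem_schubertVanishing F fun hle => ?_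
  obtain ⟨hne, hθ⟩ := Finset.mem_erase.1 hθ
  exact hne (eq_of_le_of_wsum_le hle (wsum_eq_iff.2 (Finset.mem_filter.1 hθ).2).ge)

theorem isSMulRegular_levelSum (hd : 0 < d) (hdn : d < n) (w : Idx d n) :
    IsSMulRegular (PlRing F d n ⧸ schubertVanishing F d n w) (levelSum (d := d) (n := n) F (codeg w)) := by
  refine IsSMulRegular.of_right_eq_zero_of_smul fun y hy => ?_
  obtain ⟨f, rfl⟩ := Ideal.Quotient.mk_surjective y
  have hy' : levelSum F (codeg w) * f ∈ schubertVanishing F d n w :=
    Ideal.Quotient.eq_zero_iff_mem.1 hy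
  refine Ideal.Quotient.eq_zero_iff_mem.2 (((schubertVanishing_isPrime F hd hdn w).mem_or_mem hy').resolve_left ?_)
  intro h
  refine X_notMem_schubertVanishing F hdn (le_refl w) ?_
  have := sub_mem h (levelSum_sub_X_mem F w)
  simpa using this

omit [Infinite F] in
theorem weaklyRegular_quotSMulTop (J : Ideal (PlRing F d n)) (x : PlRing F d n) (rs : List (PlRing F d n))
    (h : IsWeaklyRegular (PlRing F d n ⧸ (J ⊔ Ideal.span {x})) rs) :
    IsWeaklyRegular (QuotSMulTop x (PlRing F d n ⧸ J)) rs := by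
  let g : (PlRing F d n ⧸ J) →ₗ[PlRing F d n] PlRing F d n ⧸ (J ⊔ Ideal.span {x}) :=
    Submodule.mapQ J (J ⊔ Ideal.span {x}) LinearMap.id le_sup_left
  have hle : (x • ⊤ : Submodule (PlRing F d n) (PlRing F d n ⧸ J)) ≤ LinearMap.ker g := by
    rintro _ ⟨z, -, rfl⟩
    obtain ⟨f, rfl⟩ := Submodule.Quotient.mk_surjective _ z
    rw [LinearMap.mem_ker, DistribSMul.toLinearMap_apply, ← Submodule.Quotient.mk_smul, Submodule.mapQ_apply,
      LinearMap.id_apply, Submodule.Quotient.mk_eq_zero, smul_eq_mul]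
    exact Ideal.mem_sup_right (Ideal.mul_mem_right _ _ (Ideal.subset_span rfl))
  have hbij : Function.Bijective ((x • ⊤ : Submodule (PlRing F d n) (PlRing F d n ⧸ J)).liftQ g hle) := by
    constructor
    · rw [injective_iff_map_eq_zero]
      intro z hz
      obtain ⟨y, rfl⟩ := Submodule.Quotient.mk_surjective _ z
      obtain ⟨f, rfl⟩ := Submodule.Quotient.mk_surjective _ y
      rw [Submodule.liftQ_apply, Submodule.mapQ_apply, LinearMap.id_apply, Submodule.Quotient.mk_eq_zero] at hz
      obtain ⟨a, ha, b, hb, rfl⟩ := Submodule.mem_sup.1 hz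
      obtain ⟨c, rfl⟩ := Ideal.mem_span_singleton'.1 hb
      rw [mk_eq_zero_iff]
      refine ⟨Submodule.Quotient.mk c, ?_⟩
      rw [← Submodule.Quotient.mk_smul, Submodule.Quotient.eq, smul_eq_mul]
      convert neg_mem ha using 1
      ring
    · intro z
      obtain ⟨f, rfl⟩ := Submodule.Quotient.mk_surjective _ z
      exact ⟨Submodule.Quotient.mk (Submodule.Quotient.mk f), rfl⟩
  exact (LinearEquiv.isWeaklyRegular_congr (LinearEquiv.ofBijective _ hbij) rs).2 h

theorem regular_union_of (hd : 0 < d) (hdn : d < n) (k : ℕ)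
    (hA : ∀ w : Idx d n, codeg w = k → IsWeaklyRegular (PlRing F d n ⧸ schubertVanishing F d n w) (levelList (d := d) (n := n) F (k + 1)))
    (hU : ∀ j, j + 1 = k → ∀ w : Idx d n, codeg w = j + 1 → ∀ T : Finset (Idx d n), T.Nonempty →
      (∀ φ ∈ T, φ ∈ divisors w) →
      IsWeaklyRegular (PlRing F d n ⧸ ⨅ φ ∈ T, schubertVanishing F d n φ) (levelList (d := d) (n := n) F (j + 1)))
    (w : Idx d n) (hw : codeg w = k + 1) (T : Finset (Idx d n)) (hT : T.Nonempty) (hdiv : ∀ φ ∈ T, φ ∈ divisors w) :
    IsWeaklyRegular (PlRing F d n ⧸ ⨅ φ ∈ T, schubertVanishing F d n φ) (levelList (d := d) (n := n) F (k + 1)) := by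
  classical
  have hcd : ∀ φ ∈ divisors w, codeg φ = k := fun φ hφ => by have := hφ.2; omega
  induction hT using Finset.Nonempty.cons_induction with
  | singleton φ =>
    rw [Finset.iInf_singleton]
    exact hA φ (hcd φ (hdiv φ (Finset.mem_singleton_self φ)))
  | cons φ s hφs hs ih =>
    rw [Finset.cons_eq_insert, Finset.iInf_insert, levelList_succ]
    have hφ := hdiv φ (Finset.mem_cons_self φ s)
    have hs' : ∀ ψ ∈ s, ψ ∈ divisors w := fun ψ hψ => hdiv ψ (Finset.mem_cons_of_mem hψ)
    refine weaklyRegular_inf _ _ _ _ ?_ ?_ ?_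
    · rw [← levelList_succ]; exact hA φ (hcd φ hφ)
    · rw [← levelList_succ]; exact ih hs'
    · obtain ⟨ψ, hψ⟩ := hs
      have hne : φ ≠ ψ := fun e => hφs (e ▸ hψ)
      obtain ⟨j, rfl⟩ : ∃ j, k = j + 1 := by
        refine ⟨k - 1, ?_⟩
        by_contra hk
        have hk0 : k = 0 := by omega
        exact hne (((codeg_eq_zero_iff hdn).1 (by rw [hcd φ hφ, hk0])).trans
          ((codeg_eq_zero_iff hdn).1 (by rw [hcd ψ (hs' ψ hψ), hk0])).symm)
      rw [iInf_schubert_sup F hd hdn φ s]
      refine hU j rfl φ (hcd φ hφ) _ ⟨_, Finset.mem_image_of_mem _ hψ⟩ fun x hx => ?_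
      obtain ⟨y, hy, rfl⟩ := Finset.mem_image.1 hx
      exact inf_mem_divisors hφ (hs' y hy) fun e => hφs (e ▸ hy)

theorem regular_schubert_succ (hd : 0 < d) (hdn : d < n) (k : ℕ) (w : Idx d n) (hw : codeg w = k + 1)
    (hU : ∀ T : Finset (Idx d n), T.Nonempty → (∀ φ ∈ T, φ ∈ divisors w) →
      IsWeaklyRegular (PlRing F d n ⧸ ⨅ φ ∈ T, schubertVanishing F d n φ) (levelList (d := d) (n := n) F (k + 1))) :
    IsWeaklyRegular (PlRing F d n ⧸ schubertVanishing F d n w) (levelList (d := d) (n := n) F (k + 2)) := by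
  classical
  have hlt : botIdx hdn < w := lt_of_le_of_ne (botIdx_le hdn w) fun h => by
    rw [← h, codeg_botIdx] at hw; exact Nat.succ_ne_zero _ hw.symm
  obtain ⟨φ₀, hφ₀, -⟩ := Groth.Agent.S11268.result d n _ w hlt
  set T := Finset.univ.filter (fun φ : Idx d n => φ ∈ divisors w)
  have hT : (⨅ φ ∈ T, schubertVanishing F d n φ) = ⨅ φ ∈ divisors w, schubertVanishing F d n φ := by
    simp [T]
  set P' : Fin (k + 2) → PlRing F d n := Fin.cons (levelSum F (k + 1)) (fun i : Fin (k + 1) => levelSum F i.val)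
  have hP' : ∀ i, (P' i).IsHomogeneous 1 := fun i => by
    induction i using Fin.cases with
    | zero => exact isHomogeneous_levelSum F _
    | succ i => exact isHomogeneous_levelSum F _
  have hreg : IsWeaklyRegular (PlRing F d n ⧸ schubertVanishing F d n w) (List.ofFn P') := by
    rw [List.ofFn_cons, isWeaklyRegular_cons_iff]
    refine ⟨hw ▸ isSMulRegular_levelSum F hd hdn w, weaklyRegular_quotSMulTop F _ _ _ ?_⟩
    have hJ : schubertVanishing F d n w ⊔ Ideal.span {levelSum F (k + 1)} =
        schubertVanishing F d n w ⊔ Ideal.span {X w} := by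
      have hm := levelSum_sub_X_mem F w
      rw [hw] at hm
      refine le_antisymm (sup_le le_sup_left ?_) (sup_le le_sup_left ?_)
      · rw [Ideal.span_le, Set.singleton_subset_iff]
        simpa using add_mem (Ideal.mem_sup_left (T := Ideal.span {X w}) hm) (Ideal.mem_sup_right (Ideal.subset_span rfl))
      · rw [Ideal.span_le, Set.singleton_subset_iff]
        simpa using sub_mem (Ideal.mem_sup_right (S := schubertVanishing F d n w)
          (Ideal.subset_span (Set.mem_singleton (levelSum F (k + 1))))) (Ideal.mem_sup_left hm)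
    rw [hJ, sup_span_top_eq_iInf F hd hdn w ⟨φ₀, hφ₀.1⟩, ← hT]
    exact hU T ⟨φ₀, by simp [T, hφ₀]⟩ fun φ hφ => (Finset.mem_filter.1 hφ).2
  have h := weaklyRegular_perm (isHomog_schubert F hd hdn w) hP' hreg (finRotate (k + 2))
  rw [levelList]
  convert h using 2
  funext i
  induction i using Fin.lastCases with
  | last => simp [P', finRotate_last]
  | cast i =>
    rw [show finRotate (k + 2) i.castSucc = i.succ by
      rw [finRotate_succ_apply]; exact Fin.coeSucc_eq_succ]
    simp [P']

theorem regular_schubert_and_union (hd : 0 < d) (hdn : d < n) : ∀ k,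
    (∀ w : Idx d n, codeg w = k →
      IsWeaklyRegular (PlRing F d n ⧸ schubertVanishing F d n w) (levelList (d := d) (n := n) F (k + 1))) ∧
    (∀ w : Idx d n, codeg w = k + 1 → ∀ T : Finset (Idx d n), T.Nonempty → (∀ φ ∈ T, φ ∈ divisors w) →
      IsWeaklyRegular (PlRing F d n ⧸ ⨅ φ ∈ T, schubertVanishing F d n φ) (levelList (d := d) (n := n) F (k + 1))) := by
  intro k
  induction k with
  | zero =>
    have hA : ∀ w : Idx d n, codeg w = 0 →
        IsWeaklyRegular (PlRing F d n ⧸ schubertVanishing F d n w) (levelList (d := d) (n := n) F 1) := fun w hw => by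
      rw [levelList_succ, levelList, List.ofFn_zero, List.nil_append, isWeaklyRegular_singleton_iff]
      exact hw ▸ isSMulRegular_levelSum F hd hdn w
    exact ⟨hA, regular_union_of F hd hdn 0 hA fun j hj => absurd hj (Nat.succ_ne_zero j)⟩
  | succ k ih =>
    have hA : ∀ w : Idx d n, codeg w = k + 1 →
        IsWeaklyRegular (PlRing F d n ⧸ schubertVanishing F d n w) (levelList (d := d) (n := n) F (k + 2)) :=
      fun w hw => regular_schubert_succ F hd hdn k w hw (ih.2 w hw)
    refine ⟨hA, regular_union_of F hd hdn (k + 1) hA fun j hj => ?_⟩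
    obtain rfl : j = k := by omega
    exact ih.2

theorem cm_schubert (hd : 0 < d) (hdn : d < n) (w : Idx d n) :
    LocCoh.IsCohenMacaulayRing (PlRing F d n ⧸ schubertVanishing F d n w) :=
  cm_of_parameters (isHomog_schubert F hd hdn w) (fun i : Fin (codeg w + 1) => isHomogeneous_levelSum F i.val)
    ((regular_schubert_and_union F hd hdn (codeg w)).1 w rfl) (levelMap_finite F hdn w)

theorem cm_union (hd : 0 < d) (hdn : d < n) (w : Idx d n) (T : Finset (Idx d n)) (hT : T.Nonempty)
    (hdiv : ∀ φ ∈ T, φ ∈ divisors w) :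
    LocCoh.IsCohenMacaulayRing (PlRing F d n ⧸ ⨅ φ ∈ T, schubertVanishing F d n φ) := by
  classical
  obtain ⟨φ₀, hφ₀⟩ := hT
  have hw : codeg w = codeg φ₀ + 1 := (hdiv φ₀ hφ₀).2.symm
  set k := codeg φ₀
  set J := ⨅ φ ∈ T, schubertVanishing F d n φ
  refine cm_of_parameters (r := k + 1) (P := fun i => levelSum F i.val)
    (isHomog_iInf fun φ => isHomog_iInf fun _ => isHomog_schubert F hd hdn φ)
    (fun i => isHomogeneous_levelSum F i.val)
    ((regular_schubert_and_union F hd hdn k).2 w hw T ⟨φ₀, hφ₀⟩ hdiv) ?_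
  have hle : schubertVanishing F d n w ≤ J :=
    le_iInf₂ fun φ hφ => schubertVanishing_antitone F (hdiv φ hφ).1.le
  let kill : MvPolynomial (Fin (codeg w + 1)) F →ₐ[F] MvPolynomial (Fin (k + 1)) F :=
    MvPolynomial.aeval fun i => if h : i.val < k + 1 then X ⟨i.val, h⟩ else 0
  have hc : (parMap J (fun i : Fin (k + 1) => levelSum F i.val)).comp kill =
      (Ideal.Quotient.factorₐ F hle).comp (levelMap F w) := by
    refine MvPolynomial.algHom_ext fun i => ?_
    simp only [AlgHom.comp_apply, kill, parMap, levelMap, aeval_X]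
    rw [show (Ideal.Quotient.factorₐ F hle) (Ideal.Quotient.mk _ (levelSum F i.val)) =
      Ideal.Quotient.mk J (levelSum F i.val) from rfl]
    split_ifs with h
    · rw [aeval_X]
    · rw [map_zero, eq_comm, Ideal.Quotient.eq_zero_iff_mem]
      simp only [J, Ideal.mem_iInf]
      intro φ hφ
      refine Ideal.sum_mem _ fun θ hθ => X_mem_schubertVanishing F fun hle' => ?_
      have := codeg_mono hle'
      have := (hdiv φ hφ).2
      have := (Finset.mem_filter.1 hθ).2
      omega
  refine RingHom.Finite.of_comp_finite (f := kill.toRingHom) ?_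
  change (((parMap J (fun i : Fin (k + 1) => levelSum F i.val)).comp kill).toRingHom).Finite
  rw [hc]
  exact (RingHom.Finite.of_surjective _ (Ideal.Quotient.factor_surjective hle)).comp (levelMap_finite F hdn w)

end Groth.Agent.Grass54
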