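import Mathlib
import Groth.Agent.Grass54.Cell
import Groth.Agent.Grass54.Normal
import Groth.Agent.Grass54.CMQuot
import Groth.Agent.Grass54.Dimension
import Groth.Agent.Grass54.SchubertCM
import Groth.Agent.Grass54.Shuffle

/-!
The opposite big cell of a Schubert variety: homogenisation, the determinantal rings as dehomogenisations.
-/

set_option autoImplicit false
universe u

open MvPolynomial W4bk4grassmannian Finset

namespace Groth.Agent.Grass54

variable (F : Type u) [Field F] {n m : ℕ}

theorem eval_smul_of_isHomogeneous {σ : Type*} {f : MvPolynomial σ F} {D : ℕ} (hf : f.IsHomogeneous D)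
    (c : F) (x : σ → F) : MvPolynomial.eval (fun i => c * x i) f = c ^ D * MvPolynomial.eval x f := by
  rw [MvPolynomial.eval_eq, MvPolynomial.eval_eq, Finset.mul_sum]
  refine Finset.sum_congr rfl fun e he => ?_
  have hd : e.degree = D := by
    by_contra h
    exact MvPolynomial.mem_support_iff.1 he (hf.coeff_eq_zero h)
  simp_rw [mul_pow]
  rw [Finset.prod_mul_distrib, Finset.prod_pow_eq_pow_sum, ← Finsupp.degree_apply, hd]
  ring

/-- The restriction of the Plücker coordinates to the opposite big cell. -/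
noncomputable def cellEv (K : Type u) [CommRing K] (n m : ℕ) : PlRing K n (n + m) →ₐ[K] CellRing K n m :=
  MvPolynomial.aeval fun θ => cellMinor K n m θ

theorem cellEv_X (θ : Idx n (n + m)) : cellEv F n m (X θ) = cellMinor F n m θ := aeval_X _ _

theorem cellEv_plIdealTop {f : PlRing F n (n + m)} (hf : f ∈ plIdealTop (d := n) (n := n + m) F) :
    cellEv F n m f = 0 := by
  have hle : plIdealTop (d := n) (n := n + m) F ≤ RingHom.ker (cellEv F n m).toRingHom := by
    rw [plIdealTop, Ideal.span_le]
    rintro _ ⟨i, j, r, -, rfl⟩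
    exact aeval_shuffleRel (cellMatrix F n m) i j r
  exact hle hf

theorem cellEv_bot (hdn : n < n + m) : cellEv F n m (X (botIdx hdn)) = 1 := by
  rw [cellEv_X, cellMinor]
  convert Matrix.det_one (n := Fin n) (R := CellRing F n m) using 2
  ext i j
  have hi : (botIdx hdn).1 i = Fin.castAdd m i := Fin.ext rfl
  rw [Matrix.submatrix_apply, hi, id, cell_top, Matrix.one_apply]

theorem cellEv_surjective : Function.Surjective (cellEv F n m) := by
  rw [← AlgHom.range_eq_top, eq_top_iff, ← MvPolynomial.adjoin_range_X, Algebra.adjoin_le_iff]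
  rintro _ ⟨⟨i, j⟩, rfl⟩
  refine ⟨coord F n (n + m) (Function.update (Fin.castAdd m) j (Fin.natAdd n i)), ?_⟩
  change MvPolynomial.aeval (fun θ : Idx n (n + m) => ((cellMatrix F n m).submatrix θ.1 id).det) _ = _
  rw [aeval_coord]
  have h : (cellMatrix F n m).submatrix (Function.update (Fin.castAdd m) j (Fin.natAdd n i)) id =
      (1 : Matrix (Fin n) (Fin n) (CellRing F n m)).updateRow j (genMatrix F m n i) := by
    ext a b
    by_cases ha : a = j
    · subst ha
      rw [Matrix.submatrix_apply, Function.update_self, Matrix.updateRow_self, id, cell_bot]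
    · rw [Matrix.submatrix_apply, Function.update_of_ne ha, Matrix.updateRow_ne ha, id, cell_top,
        Matrix.one_apply]
  have h2 : genMatrix F m n i = ∑ k, (X (i, k) : CellRing F n m) • (1 : Matrix (Fin n) (Fin n) (CellRing F n m)) k := by
    funext b
    simp [genMatrix, Finset.sum_apply, Matrix.one_apply]
  rw [h, h2, Matrix.det_updateRow_sum, Matrix.det_one, smul_eq_mul, mul_one]

theorem exists_homog_lift (hdn : n < n + m) (a : CellRing F n m) :
    ∃ D, ∀ D', D ≤ D' → ∃ G : PlRing F n (n + m), G.IsHomogeneous D' ∧ cellEv F n m G = a := by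
  obtain ⟨f, rfl⟩ := cellEv_surjective F a
  refine ⟨f.totalDegree, fun D' hD => ⟨∑ k ∈ Finset.range (f.totalDegree + 1),
    X (botIdx hdn) ^ (D' - k) * homogeneousComponent k f, ?_, ?_⟩⟩
  · refine MvPolynomial.IsHomogeneous.sum _ _ _ fun k hk => ?_
    have hk' : k ≤ D' := (Nat.lt_succ_iff.1 (Finset.mem_range.1 hk)).trans hD
    have h := ((isHomogeneous_X F (botIdx hdn)).pow (D' - k)).mul (homogeneousComponent_isHomogeneous k f)
    rwa [one_mul, Nat.sub_add_cancel hk'] at h
  · simp only [map_sum, map_mul, map_pow, cellEv_bot, one_pow, one_mul]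
    rw [← map_sum, sum_homogeneousComponent]

/-- The ideal of the opposite cell of `X(w)`. -/
noncomputable def cellIdeal (w : Idx n (n + m)) : Ideal (CellRing F n m) :=
  (schubertVanishing F n (n + m) w).map (cellEv F n m)

variable [Infinite F]

theorem mem_of_vanish_cell (hn : 0 < n) (hdn : n < n + m) (w : Idx n (n + m)) {f : PlRing F n (n + m)} {D : ℕ}
    (hf : f.IsHomogeneous D) (hev : ∀ z : Fin m × Fin n → F,
      (∀ g ∈ cellIdeal F w, MvPolynomial.eval z g = 0) → MvPolynomial.eval z (cellEv F n m f) = 0) :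
    f ∈ schubertVanishing F n (n + m) w := by
  have hmul : X (botIdx hdn) * f ∈ schubertVanishing F n (n + m) w := by
    refine (mem_schubertVanishing F).2 fun A hA => ?_
    rw [map_mul, evalMinors, aeval_X]
    by_cases hU : (A.submatrix (botIdx hdn).1 id).det = 0
    · rw [hU, zero_mul]
    set U := A.submatrix (botIdx hdn).1 id with hUdef
    set A' := A * U⁻¹ with hA'def
    have hsub : ∀ φ : Idx n (n + m), A'.submatrix φ.1 id = A.submatrix φ.1 id * U⁻¹ := fun φ => by
      ext a b; simp [hA'def, Matrix.mul_apply]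
    have hdet : ∀ φ : Idx n (n + m), (A'.submatrix φ.1 id).det = U.det⁻¹ * (A.submatrix φ.1 id).det := fun φ => by
      rw [hsub, Matrix.det_mul, Matrix.det_nonsing_inv, Ring.inverse_eq_inv']; ring
    let z : Fin m × Fin n → F := fun p => A' (Fin.natAdd n p.1) p.2
    have hcell : (cellMatrix F n m).map (MvPolynomial.eval z) = A' := by
      ext a b
      rw [Matrix.map_apply]
      induction a using Fin.addCases with
      | left a =>
        have h1 : A'.submatrix (botIdx hdn).1 id = 1 := by
          rw [hsub]; exact Matrix.mul_nonsing_inv U (isUnit_iff_ne_zero.2 hU)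
        have h2 := congrFun (congrFun h1 a) b
        rw [Matrix.submatrix_apply, show (botIdx hdn).1 a = Fin.castAdd m a from Fin.ext rfl, id,
          Matrix.one_apply] at h2
        rw [cell_top, apply_ite (MvPolynomial.eval z), map_one, map_zero, h2]
      | right a => rw [cell_bot, genMatrix, Matrix.of_apply, eval_X]
    have hfac : ∀ h : PlRing F n (n + m), evalMinors F n (n + m) A' h = MvPolynomial.eval z (cellEv F n m h) := by
      intro h
      have : evalMinors F n (n + m) A' = (MvPolynomial.aeval z).comp (cellEv F n m) := by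
        refine MvPolynomial.algHom_ext fun φ => ?_
        rw [AlgHom.comp_apply, cellEv_X, evalMinors, aeval_X, ← hcell, cellMinor, AlgHom.map_det]
        rfl
      exact DFunLike.congr_fun this h
    have hA' : ∀ φ : Idx n (n + m), ¬ φ ≤ w → (A'.submatrix φ.1 id).det = 0 := fun φ hφ => by
      rw [hdet, hA φ hφ, mul_zero]
    have h0 : evalMinors F n (n + m) A' f = 0 := by
      rw [hfac]
      refine hev z fun g hg => ?_
      obtain ⟨g', hg', rfl⟩ := (Ideal.mem_map_iff_of_surjective _ (cellEv_surjective F)).1 hg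
      rw [← hfac]; exact (mem_schubertVanishing F).1 hg' A' hA'
    have hscale : evalMinors F n (n + m) A' f = U.det⁻¹ ^ D * evalMinors F n (n + m) A f := by
      simp only [evalMinors, hdet]
      exact eval_smul_of_isHomogeneous F hf _ _
    rw [h0] at hscale
    rcases mul_eq_zero.1 hscale.symm with h | h
    · exact absurd (pow_eq_zero_iff'.1 h).1 (inv_ne_zero hU)
    · rw [evalMinors] at h; rw [h, mul_zero]
  rcases (schubertVanishing_isPrime F hn hdn w).mem_or_mem hmul with h | h
  · exact absurd h (X_notMem_schubertVanishing F hdn (botIdx_le hdn w))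
  · exact h

theorem mem_of_cellEv_mem (hn : 0 < n) (hdn : n < n + m) (w : Idx n (n + m)) {f : PlRing F n (n + m)} {D : ℕ}
    (hf : f.IsHomogeneous D) (hev : cellEv F n m f ∈ cellIdeal F w) :
    f ∈ schubertVanishing F n (n + m) w :=
  mem_of_vanish_cell F hn hdn w hf fun _ hz => hz _ hev

theorem mem_cellIdeal_of_vanish (hn : 0 < n) (hdn : n < n + m) (w : Idx n (n + m)) {a : CellRing F n m}
    (ha : ∀ z : Fin m × Fin n → F, (∀ g ∈ cellIdeal F w, MvPolynomial.eval z g = 0) → MvPolynomial.eval z a = 0) :
    a ∈ cellIdeal F w := by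
  obtain ⟨D, hD⟩ := exists_homog_lift F hdn a
  obtain ⟨G, hG, rfl⟩ := hD D le_rfl
  exact Ideal.mem_map_of_mem _ (mem_of_vanish_cell F hn hdn w hG ha)

theorem cellIdeal_isPrime (hn : 0 < n) (hdn : n < n + m) (w : Idx n (n + m)) : (cellIdeal F w).IsPrime := by
  refine Ideal.isPrime_iff.2 ⟨fun h => ?_, fun {a b} hab => ?_⟩
  · exact X_notMem_schubertVanishing F hdn (botIdx_le hdn w) (mem_of_cellEv_mem F hn hdn w
      (isHomogeneous_X F _) (by rw [h]; exact Submodule.mem_top))
  · obtain ⟨D, hD⟩ := exists_homog_lift F hdn a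
    obtain ⟨E, hE⟩ := exists_homog_lift F hdn b
    obtain ⟨A, hA, rfl⟩ := hD D le_rfl
    obtain ⟨B, hB, rfl⟩ := hE E le_rfl
    rcases (schubertVanishing_isPrime F hn hdn w).mem_or_mem
      (mem_of_cellEv_mem F hn hdn w (hA.mul hB) (by rw [map_mul]; exact hab)) with h | h
    · exact Or.inl (Ideal.mem_map_of_mem _ h)
    · exact Or.inr (Ideal.mem_map_of_mem _ h)

/-- Dehomogenisation. -/
noncomputable def deHom (w : Idx n (n + m)) :
    PlRing F n (n + m) ⧸ schubertVanishing F n (n + m) w →+* CellRing F n m ⧸ cellIdeal F w :=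
  Ideal.Quotient.lift _ ((Ideal.Quotient.mk (cellIdeal F w)).comp (cellEv F n m).toRingHom) fun f hf =>
    Ideal.Quotient.eq_zero_iff_mem.2 (Ideal.mem_map_of_mem _ hf)

omit [Infinite F] in
theorem deHom_mk (w : Idx n (n + m)) (f : PlRing F n (n + m)) :
    deHom F w (Ideal.Quotient.mk _ f) = Ideal.Quotient.mk (cellIdeal F w) (cellEv F n m f) :=
  Ideal.Quotient.lift_mk _ _ _

omit [Infinite F] in
theorem deHom_surjective (w : Idx n (n + m)) : Function.Surjective (deHom F w) :=
  Ideal.Quotient.lift_surjective_of_surjective _ _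
    (Ideal.Quotient.mk_surjective.comp (cellEv_surjective F))

theorem ker_deHom (hn : 0 < n) (hdn : n < n + m) (w : Idx n (n + m)) :
    RingHom.ker (deHom F w) =
      Ideal.span {Ideal.Quotient.mk (schubertVanishing F n (n + m) w) (X (botIdx hdn)) - 1} := by
  refine le_antisymm (fun q hq => ?_) ?_
  · obtain ⟨f, rfl⟩ := Ideal.Quotient.mk_surjective q
    rw [RingHom.mem_ker, deHom_mk, Ideal.Quotient.eq_zero_iff_mem] at hq
    set π := Ideal.Quotient.mk (schubertVanishing F n (n + m) w)
    set D := f.totalDegree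
    let G : PlRing F n (n + m) := ∑ k ∈ Finset.range (D + 1), X (botIdx hdn) ^ (D - k) * homogeneousComponent k f
    have hG : G.IsHomogeneous D := by
      refine MvPolynomial.IsHomogeneous.sum _ _ _ fun k hk => ?_
      have h := ((isHomogeneous_X F (botIdx hdn)).pow (D - k)).mul (homogeneousComponent_isHomogeneous k f)
      rwa [one_mul, Nat.sub_add_cancel (Nat.lt_succ_iff.1 (Finset.mem_range.1 hk))] at h
    have hGev : cellEv F n m G = cellEv F n m f := by
      simp only [G, map_sum, map_mul, map_pow, cellEv_bot, one_pow, one_mul]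
      rw [← map_sum, sum_homogeneousComponent]
    have hG0 : π G = 0 :=
      Ideal.Quotient.eq_zero_iff_mem.2 (mem_of_cellEv_mem F hn hdn w hG (by rw [hGev]; exact hq))
    have hfG : π f = ∑ k ∈ Finset.range (D + 1),
        (1 - π (X (botIdx hdn)) ^ (D - k)) * π (homogeneousComponent k f) := by
      have h1 : ∑ k ∈ Finset.range (D + 1), π (homogeneousComponent k f) = π f := by
        rw [← map_sum, sum_homogeneousComponent]
      have h2 : ∑ k ∈ Finset.range (D + 1), π (X (botIdx hdn)) ^ (D - k) * π (homogeneousComponent k f) = 0 := by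
        rw [← hG0]; simp [G]
      simp_rw [sub_mul, one_mul]
      rw [Finset.sum_sub_distrib, h1, h2, sub_zero]
    rw [hfG]
    refine Ideal.sum_mem _ fun k _ => Ideal.mul_mem_right _ _ (Ideal.mem_span_singleton.2 ?_)
    obtain ⟨c, hc⟩ := sub_one_dvd_pow_sub_one (π (X (botIdx hdn))) (D - k)
    exact ⟨-c, by linear_combination -hc⟩
  · rw [Ideal.span_le, Set.singleton_subset_iff, SetLike.mem_coe, RingHom.mem_ker, map_sub, deHom_mk,
      cellEv_bot, map_one, map_one, sub_self]

theorem schubert_bot_ne_one (hn : 0 < n) (hdn : n < n + m) (w : Idx n (n + m)) :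
    Ideal.Quotient.mk (schubertVanishing F n (n + m) w) (X (botIdx hdn)) - 1 ≠ 0 := by
  rw [← map_one (Ideal.Quotient.mk (schubertVanishing F n (n + m) w)), ← map_sub]
  intro h
  have := mem_schubertVanishing_constantCoeff F hn w (Ideal.Quotient.eq_zero_iff_mem.1 h)
  simp at this

theorem cm_cell (hn : 0 < n) (hdn : n < n + m) (w : Idx n (n + m)) :
    LocCoh.IsCohenMacaulayRing (CellRing F n m ⧸ cellIdeal F w) := by
  haveI := schubertVanishing_isPrime F hn hdn w
  haveI := cm_schubert F hn hdn w
  set x := Ideal.Quotient.mk (schubertVanishing F n (n + m) w) (X (botIdx hdn)) - 1 with hx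
  have hreg : IsSMulRegular (PlRing F n (n + m) ⧸ schubertVanishing F n (n + m) w) x :=
    IsSMulRegular.of_ne_zero (schubert_bot_ne_one F hn hdn w)
  refine CAlg1.cmRing_of_ringEquiv ?_ (cm_quotient_of_regular x hreg)
  exact (Ideal.quotEquivOfEq (ker_deHom F hn hdn w).symm).trans
    (RingHom.quotientKerEquivOfSurjective (deHom_surjective F w))

theorem ringKrullDim_cell_le (hn : 0 < n) (hdn : n < n + m) (w : Idx n (n + m)) :
    ringKrullDim (CellRing F n m ⧸ cellIdeal F w) ≤ ((codeg w : ℕ) : WithBot ℕ∞) := by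
  haveI := schubertVanishing_isPrime F hn hdn w
  have hx : Ideal.Quotient.mk (schubertVanishing F n (n + m) w) (X (botIdx hdn)) - 1 ∈ RingHom.ker (deHom F w) := by
    rw [ker_deHom F hn hdn w]; exact Ideal.mem_span_singleton_self _
  have h := ringKrullDim_succ_le_of_surjective (deHom F w) (deHom_surjective F w)
    (mem_nonZeroDivisors_of_ne_zero (schubert_bot_ne_one F hn hdn w)) (RingHom.mem_ker.1 hx)
  rw [ringKrullDim_schubert F hn hdn w, Nat.cast_add, Nat.cast_one] at h
  generalize ringKrullDim (CellRing F n m ⧸ cellIdeal F w) = x at h ⊢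
  induction x using WithBot.recBotCoe with
  | bot => exact bot_le
  | coe y =>
    norm_cast at h ⊢
    rwa [ENat.coe_add, Nat.cast_one, ENat.add_le_add_iff_right (by simp)] at h

theorem le_ringKrullDim_cell (hn : 0 < n) (hdn : n < n + m) (w : Idx n (n + m)) :
    ((codeg w : ℕ) : WithBot ℕ∞) ≤ ringKrullDim (CellRing F n m ⧸ cellIdeal F w) := by
  induction hk : codeg w generalizing w with
  | zero =>
    haveI := cellIdeal_isPrime F hn hdn w
    simpa using ringKrullDim_nonneg_of_nontrivial
  | succ k ih =>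
    have hlt : botIdx hdn < w := lt_of_le_of_ne (botIdx_le hdn w) fun h => by
      rw [← h, codeg_botIdx] at hk; exact Nat.succ_ne_zero _ hk.symm
    obtain ⟨φ, hφ, -⟩ := Groth.Agent.S11268.result n (n + m) _ w hlt
    haveI := cellIdeal_isPrime F hn hdn w
    have hne : Ideal.Quotient.mk (cellIdeal F w) (cellEv F n m (X w)) ≠ 0 := fun h =>
      X_notMem_schubertVanishing F hdn le_rfl
        (mem_of_cellEv_mem F hn hdn w (isHomogeneous_X F w) (Ideal.Quotient.eq_zero_iff_mem.1 h))
    have hle : cellIdeal F w ≤ cellIdeal F φ := Ideal.map_mono (schubertVanishing_antitone F hφ.1.le)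
    have h := ringKrullDim_succ_le_of_surjective (Ideal.Quotient.factor hle) (Ideal.Quotient.factor_surjective hle)
      (mem_nonZeroDivisors_of_ne_zero hne)
      (by rw [Ideal.Quotient.factor_mk]
          exact Ideal.Quotient.eq_zero_iff_mem.2
            (Ideal.mem_map_of_mem _ (X_mem_schubertVanishing F (not_le_of_gt hφ.1))))
    refine le_trans ?_ h
    push_cast
    gcongr
    exact ih φ (by have := hφ.2; omega)

theorem ringKrullDim_cell (hn : 0 < n) (hdn : n < n + m) (w : Idx n (n + m)) :
    ringKrullDim (CellRing F n m ⧸ cellIdeal F w) = ((codeg w : ℕ) : WithBot ℕ∞) :=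
  le_antisymm (ringKrullDim_cell_le F hn hdn w) (le_ringKrullDim_cell F hn hdn w)

theorem isIntegrallyClosed_cell (hn : 0 < n) (hdn : n < n + m) (w : Idx n (n + m)) :
    IsIntegrallyClosed (CellRing F n m ⧸ cellIdeal F w) := by
  haveI := cellIdeal_isPrime F hn hdn w
  haveI := schubertVanishing_isPrime F hn hdn w
  haveI hA : IsIntegrallyClosed (PlRing F n (n + m) ⧸ schubertVanishing F n (n + m) w) :=
    isIntegrallyClosed_schubert F hn hdn w
  set J := schubertVanishing F n (n + m) w
  set S := CellRing F n m ⧸ cellIdeal F w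
  set L := FractionRing S
  refine (isIntegrallyClosed_iff L).2 fun {z} ⟨p, hp, hpz⟩ => ?_
  obtain ⟨a, b, hb, hab⟩ := IsFractionRing.div_surjective S z
  have hb0 : (algebraMap S L) b ≠ 0 := IsFractionRing.to_map_ne_zero_of_mem_nonZeroDivisors hb
  have hza : z * algebraMap S L b = algebraMap S L a := by rw [← hab, div_mul_cancel₀ _ hb0]
  set k := p.natDegree
  have hrel : a ^ k + ∑ i ∈ Finset.range k, p.coeff i * a ^ i * b ^ (k - i) = 0 := by
    refine IsFractionRing.injective S L ?_
    rw [map_zero, map_add, map_sum, map_pow, ← hza]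
    have h0 : z ^ k + ∑ i ∈ Finset.range k, algebraMap S L (p.coeff i) * z ^ i = 0 := by
      rw [← hpz]
      conv_rhs => rw [hp.as_sum]
      simp [Polynomial.eval₂_finsetSum]
      rfl
    calc (z * algebraMap S L b) ^ k + ∑ i ∈ Finset.range k,
          algebraMap S L (p.coeff i * a ^ i * b ^ (k - i))
        = (z ^ k + ∑ i ∈ Finset.range k, algebraMap S L (p.coeff i) * z ^ i) * algebraMap S L b ^ k := by
          rw [add_mul, mul_pow, Finset.sum_mul]
          refine congrArg _ (Finset.sum_congr rfl fun i hi => ?_)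
          rw [map_mul, map_mul, map_pow, map_pow, ← hza, mul_pow]
          conv_rhs => rw [← Nat.add_sub_cancel' (Finset.mem_range.1 hi).le, pow_add]
          ring
      _ = 0 := by rw [h0, zero_mul]
  obtain ⟨a₀, rfl⟩ := Ideal.Quotient.mk_surjective a
  obtain ⟨b₀, rfl⟩ := Ideal.Quotient.mk_surjective b
  choose c hc using fun i : ℕ => Ideal.Quotient.mk_surjective (p.coeff i)
  obtain ⟨Da, hDa⟩ := exists_homog_lift F hdn a₀
  obtain ⟨Db, hDb⟩ := exists_homog_lift F hdn b₀
  choose Dc hDc using fun i : ℕ => exists_homog_lift F hdn (c i)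
  set D := max Da Db
  set E := (Finset.range k).sup Dc
  obtain ⟨A₀, hA₀, hA₀e⟩ := hDa D (le_max_left _ _)
  obtain ⟨B, hB, hBe⟩ := hDb D (le_max_right _ _)
  have hHex : ∀ i ∈ Finset.range k, ∃ H : PlRing F n (n + m),
      H.IsHomogeneous (E * (k - i)) ∧ cellEv F n m H = c i := fun i hi => by
    refine hDc i _ ((Finset.le_sup (f := Dc) hi).trans ?_)
    have := Finset.mem_range.1 hi
    exact Nat.le_mul_of_pos_right _ (by omega)
  choose! H hH hHe using hHex
  set A' := X (botIdx hdn) ^ E * A₀ with hA'
  have hA'h : A'.IsHomogeneous (E + D) := by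
    have := ((isHomogeneous_X F (botIdx hdn)).pow E).mul hA₀
    rwa [one_mul] at this
  have hA'e : cellEv F n m A' = a₀ := by simp [hA', cellEv_bot, hA₀e]
  set T := A' ^ k + ∑ i ∈ Finset.range k, H i * A' ^ i * B ^ (k - i) with hT
  have hTh : T.IsHomogeneous ((E + D) * k) := by
    refine (hA'h.pow k).add (MvPolynomial.IsHomogeneous.sum _ _ _ fun i hi => ?_)
    have h := ((hH i hi).mul (hA'h.pow i)).mul (hB.pow (k - i))
    convert h using 1
    have hik : (k - i) + i = k := Nat.sub_add_cancel (Finset.mem_range.1 hi).le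
    conv_lhs => rw [← hik]
    ring
  have hTmem : T ∈ J := by
    refine mem_of_cellEv_mem F hn hdn w hTh (Ideal.Quotient.eq_zero_iff_mem.1 ?_)
    rw [← hrel]
    simp only [hT, map_add, map_sum, map_mul, map_pow, hA'e, hBe]
    refine congrArg _ (Finset.sum_congr rfl fun i hi => ?_)
    rw [hHe i hi, hc]
  let π := Ideal.Quotient.mk J
  set LA := FractionRing (PlRing F n (n + m) ⧸ J)
  have hB0 : π B ≠ 0 := fun h => nonZeroDivisors.ne_zero hb (by
    rw [← hBe, ← deHom_mk F w, show Ideal.Quotient.mk J B = π B from rfl, h, map_zero])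
  have hB0' : algebraMap _ LA (π B) ≠ 0 := fun h => hB0 (IsFractionRing.injective _ LA (h.trans (map_zero _).symm))
  set y := algebraMap _ LA (π A') / algebraMap _ LA (π B) with hy
  have hyA : y * algebraMap _ LA (π B) = algebraMap _ LA (π A') := div_mul_cancel₀ _ hB0'
  have hyint : IsIntegral (PlRing F n (n + m) ⧸ J) y := by
    refine ⟨Polynomial.X ^ k + ∑ i : Fin k, Polynomial.C (π (H i)) * Polynomial.X ^ (i : ℕ), ?_, ?_⟩
    · exact Polynomial.monic_X_pow_add (Polynomial.degree_sum_fin_lt fun i : Fin k => π (H i))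
    · rw [Polynomial.eval₂_add, Polynomial.eval₂_X_pow, Polynomial.eval₂_finsetSum]
      simp only [Polynomial.eval₂_mul, Polynomial.eval₂_C, Polynomial.eval₂_X_pow]
      rw [Fin.sum_univ_eq_sum_range fun i => algebraMap _ LA (π (H i)) * y ^ i]
      refine (mul_eq_zero.1 ?_).resolve_right (pow_ne_zero k hB0')
      have h0 : algebraMap _ LA (π T) = 0 := by
        rw [show π T = 0 from Ideal.Quotient.eq_zero_iff_mem.2 hTmem, map_zero]
      rw [← h0, add_mul, ← mul_pow, hyA, Finset.sum_mul]
      simp only [hT, map_add, map_sum, map_mul, map_pow]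
      refine congrArg _ (Finset.sum_congr rfl fun i hi => ?_)
      rw [← hyA, mul_pow]
      conv_lhs => rw [← Nat.add_sub_cancel' (Finset.mem_range.1 hi).le, pow_add]
      ring
  obtain ⟨q, hq⟩ := IsIntegrallyClosed.isIntegral_iff.1 hyint
  refine ⟨deHom F w q, ?_⟩
  have hqe : π A' = q * π B := IsFractionRing.injective _ LA (by rw [map_mul _ q, hq, hyA])
  have h2 := congrArg (deHom F w) hqe
  replace h2 : Ideal.Quotient.mk (cellIdeal F w) (cellEv F n m A') =
      deHom F w q * Ideal.Quotient.mk (cellIdeal F w) (cellEv F n m B) := by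
    rw [← deHom_mk, ← deHom_mk]; exact h2.trans (map_mul _ _ _)
  rw [hA'e, hBe] at h2
  refine mul_right_cancel₀ hb0 ?_
  rw [hza, h2, map_mul]

end Groth.Agent.Grass54
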