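import Mathlib
import Groth.Agent.Grass54.Schubert

/-!
Combinatorics of indices on the opposite big cell: bitableau indices, determinantal Schubert indices.
-/

set_option autoImplicit false
universe u

open W4bk4grassmannian Finset

namespace Groth.Agent.Grass54

variable {n m : ℕ}

/-- number of entries `< x` -/
def cntLt {p N : ℕ} (a : Idx p N) (x : ℕ) : ℕ :=
  (Finset.univ.filter fun j : Fin p => (a.1 j).val < x).card

theorem cntLt_of_le {p N : ℕ} (a : Idx p N) {x : ℕ} (h : N ≤ x) : cntLt a x = p := by
  rw [cntLt, Finset.filter_true_of_mem fun j _ => lt_of_lt_of_le (a.1 j).isLt h, Finset.card_univ,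
    Fintype.card_fin]

theorem cntLt_le {p N : ℕ} (a : Idx p N) (x : ℕ) : cntLt a x ≤ p :=
  (Finset.card_filter_le _ _).trans_eq (by simp)

theorem cntLt_eq_image {p N : ℕ} (a : Idx p N) (x : ℕ) :
    cntLt a x = ((Finset.univ.image a.1).filter fun i : Fin N => i.val < x).card := by
  rw [Finset.filter_image, Finset.card_image_of_injective _ a.2.injective]; rfl

/-- leading domination by counts -/
theorem lead_iff {p q N : ℕ} (a : Idx p N) (a' : Idx q N) :
    (p ≤ q ∧ ∀ (j : Fin p) (j' : Fin q), j.val = j'.val → a'.1 j' ≤ a.1 j) ↔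
      ∀ x, x ≤ N → cntLt a x ≤ cntLt a' x := by
  constructor
  · rintro ⟨hpq, h⟩ x -
    refine Finset.card_le_card_of_injOn (Fin.castLE hpq) ?_ (Fin.castLE_injective hpq).injOn
    intro j hj
    simp only [Finset.coe_filter, Finset.mem_univ, true_and, Set.mem_setOf_eq] at hj ⊢
    exact lt_of_le_of_lt (Fin.le_def.1 (h j _ rfl)) hj
  · intro h
    refine ⟨?_, fun j j' hjj => ?_⟩
    · have := h N le_rfl
      rwa [cntLt_of_le a le_rfl, cntLt_of_le a' le_rfl] at this
    · have hx : (a.1 j).val + 1 ≤ N := (a.1 j).isLt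
      have h1 : j.val + 1 ≤ cntLt a ((a.1 j).val + 1) := by
        rw [← Fin.card_Iic j]
        exact Finset.card_le_card fun k hk => Finset.mem_filter.2
          ⟨Finset.mem_univ k, Nat.lt_succ_of_le (Fin.le_def.1 (a.2.monotone (Finset.mem_Iic.1 hk)))⟩
      by_contra hlt
      push Not at hlt
      have h2 : cntLt a' ((a.1 j).val + 1) ≤ j'.val := by
        rw [← Fin.card_Iio j']
        refine Finset.card_le_card fun k hk => Finset.mem_Iio.2 ?_
        by_contra hk'
        push Not at hk'
        have h3 := (Finset.mem_filter.1 hk).2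
        have h4 := Fin.le_def.1 (a'.2.monotone hk')
        have h5 := Fin.lt_def.1 hlt
        omega
      have := h _ hx
      omega

theorem idx_le_iff {d N : ℕ} (θ θ' : Idx d N) : θ ≤ θ' ↔ ∀ x, x ≤ N → cntLt θ' x ≤ cntLt θ x := by
  rw [← lead_iff θ' θ]
  exact ⟨fun h => ⟨le_rfl, fun j j' e => by rw [Fin.ext e]; exact h j'⟩, fun h t => h.2 t t rfl⟩

theorem idx_ext {d N : ℕ} {θ θ' : Idx d N} (h : Finset.univ.image θ.1 = Finset.univ.image θ'.1) : θ = θ' := by
  have hc : ∀ x, cntLt θ x = cntLt θ' x := fun x => by rw [cntLt_eq_image, cntLt_eq_image, h]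
  exact le_antisymm ((idx_le_iff θ θ').2 fun x _ => (hc x).ge) ((idx_le_iff θ' θ).2 fun x _ => (hc x).le)

/-- low part -/
def lowSet {k : ℕ} (b : Idx k n) (m : ℕ) : Finset (Fin (n + m)) :=
  (Finset.univ.image b.1)ᶜ.image (Fin.castAdd m)

/-- high part -/
def highSet {k : ℕ} (n : ℕ) (a : Idx k m) : Finset (Fin (n + m)) :=
  Finset.univ.image fun j => Fin.natAdd n (Fin.rev (a.1 j))

theorem disjoint_low_high {k k' : ℕ} (b : Idx k n) (a : Idx k' m) : Disjoint (lowSet b m) (highSet n a) := by
  rw [Finset.disjoint_left]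
  intro x hx hx'
  obtain ⟨i, -, rfl⟩ := Finset.mem_image.1 hx
  obtain ⟨j, -, hj⟩ := Finset.mem_image.1 hx'
  have := congrArg Fin.val hj
  simp only [Fin.val_natAdd, Fin.val_castAdd] at this
  omega

theorem card_low_high {k : ℕ} (a : Idx k m) (b : Idx k n) : (lowSet b m ∪ highSet n a).card = n := by
  have hk : k ≤ n := by simpa using Fintype.card_le_of_injective _ b.2.injective
  rw [Finset.card_union_of_disjoint (disjoint_low_high b a), lowSet, highSet,
    Finset.card_image_of_injective _ (Fin.castAdd_injective _ _), Finset.card_compl,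
    Finset.card_image_of_injective _ b.2.injective, Finset.card_image_of_injective]
  · simp [Nat.sub_add_cancel hk]
  · exact fun x y h => a.2.injective (Fin.rev_injective (Fin.natAdd_injective _ _ h))

/-- The Plücker index of a minor of the generic matrix. -/
def bigIdx {k : ℕ} (a : Idx k m) (b : Idx k n) : Idx n (n + m) :=
  ⟨fun t => (lowSet b m ∪ highSet n a).orderEmbOfFin (card_low_high a b) t,
    ((lowSet b m ∪ highSet n a).orderEmbOfFin (card_low_high a b)).strictMono⟩

theorem image_bigIdx {k : ℕ} (a : Idx k m) (b : Idx k n) :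
    Finset.univ.image (bigIdx a b).1 = lowSet b m ∪ highSet n a :=
  Finset.image_orderEmbOfFin_univ _ _

theorem cnt_bigIdx_low {k : ℕ} (a : Idx k m) (b : Idx k n) {x : ℕ} (hx : x ≤ n) :
    cntLt (bigIdx a b) x + cntLt b x = x := by
  rw [cntLt_eq_image, image_bigIdx, Finset.filter_union,
    (Finset.filter_eq_empty_iff (s := highSet n a)).2, Finset.union_empty, lowSet, Finset.filter_image,
    Finset.card_image_of_injective _ (Fin.castAdd_injective _ _)]
  · simp only [Fin.val_castAdd]
    rw [cntLt_eq_image, ← Finset.card_union_of_disjoint (Finset.disjoint_filter_filter disjoint_compl_left),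
      ← Finset.filter_union, Finset.union_comm, Finset.union_compl, Fin.card_filter_val_lt]
    omega
  · intro i hi
    obtain ⟨j, -, rfl⟩ := Finset.mem_image.1 hi
    simp only [Fin.val_natAdd]
    omega

theorem cnt_bigIdx_high {k : ℕ} (a : Idx k m) (b : Idx k n) {y : ℕ} (hy : y ≤ m) :
    cntLt (bigIdx a b) (n + y) + cntLt a (m - y) = n := by
  have hk : k ≤ n := by simpa using Fintype.card_le_of_injective _ b.2.injective
  rw [cntLt_eq_image, image_bigIdx, Finset.filter_union, Finset.card_union_of_disjoint
    (Finset.disjoint_filter_filter (disjoint_low_high b a))]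
  have h1 : ((lowSet b m).filter fun i => i.val < n + y) = lowSet b m := by
    refine Finset.filter_true_of_mem fun i hi => ?_
    obtain ⟨j, -, rfl⟩ := Finset.mem_image.1 hi
    simp only [Fin.val_castAdd]; omega
  have h2 : ((highSet n a).filter fun i => i.val < n + y).card + cntLt a (m - y) = k := by
    rw [highSet, Finset.filter_image, Finset.card_image_of_injective, cntLt]
    · rw [Finset.filter_congr (q := fun j : Fin k => ¬ (a.1 j).val < m - y) fun j _ => by
        simp only [Fin.val_natAdd, Fin.val_rev]; have := (a.1 j).isLt; omega]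
      rw [add_comm, Finset.card_filter_add_card_filter_not, Finset.card_univ, Fintype.card_fin]
    · exact fun x z h => a.2.injective (Fin.rev_injective (Fin.natAdd_injective _ _ h))
  rw [h1, lowSet, Finset.card_image_of_injective _ (Fin.castAdd_injective _ _), Finset.card_compl,
    Finset.card_image_of_injective _ b.2.injective]
  simp only [Finset.card_univ, Fintype.card_fin]
  omega

theorem bigIdx_le_iff {k k' : ℕ} (a : Idx k m) (b : Idx k n) (a' : Idx k' m) (b' : Idx k' n) :
    bigIdx a b ≤ bigIdx a' b' ↔
      (∀ x, x ≤ n → cntLt b x ≤ cntLt b' x) ∧ ∀ y, y ≤ m → cntLt a y ≤ cntLt a' y := by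
  rw [idx_le_iff]
  constructor
  · intro h
    refine ⟨fun x hx => ?_, fun y hy => ?_⟩
    · have := h x (by omega)
      have := cnt_bigIdx_low a b hx
      have := cnt_bigIdx_low a' b' hx
      omega
    · have := h (n + (m - y)) (by omega)
      have h1 := cnt_bigIdx_high a b (Nat.sub_le m y)
      have h2 := cnt_bigIdx_high a' b' (Nat.sub_le m y)
      rw [show m - (m - y) = y by omega] at h1 h2
      omega
  · rintro ⟨hb, ha⟩ x hx
    rcases le_total x n with h | h
    · have := hb x h
      have := cnt_bigIdx_low a b h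
      have := cnt_bigIdx_low a' b' h
      omega
    · obtain ⟨y, rfl⟩ := Nat.le.dest h
      have := ha (m - y) (Nat.sub_le m y)
      have := cnt_bigIdx_high a b (y := y) (by omega)
      have := cnt_bigIdx_high a' b' (y := y) (by omega)
      omega

/-- The index attached to a minor. -/
def minorIdxBig (M : MinorIdx m n) : Idx n (n + m) := bigIdx M.2.1 M.2.2

theorem minorGE_iff (M M' : MinorIdx m n) : MinorGE M M' ↔ minorIdxBig M ≤ minorIdxBig M' := by
  rw [minorIdxBig, minorIdxBig, bigIdx_le_iff, ← lead_iff, ← lead_iff]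
  constructor
  · rintro ⟨h, h'⟩
    exact ⟨⟨by omega, fun j j' e => (h' j j' e).2⟩, by omega, fun j j' e => (h' j j' e).1⟩
  · rintro ⟨⟨h, hb⟩, -, ha⟩
    exact ⟨by omega, fun j j' e => ⟨ha j j' e, hb j j' e⟩⟩

theorem minorIdxBig_injective : Function.Injective (minorIdxBig (n := n) (m := m)) := by
  intro M M' h
  obtain ⟨h1, h1'⟩ := (minorGE_iff M M').2 h.le
  obtain ⟨h2, h2'⟩ := (minorGE_iff M' M).2 h.ge
  obtain ⟨s, a, b⟩ := M
  obtain ⟨s', a', b'⟩ := M'
  obtain rfl : s = s' := le_antisymm h1 h2
  obtain rfl : a = a' := Subtype.ext (funext fun j => le_antisymm (h2' j j rfl).1 (h1' j j rfl).1)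
  obtain rfl : b = b' := Subtype.ext (funext fun j => le_antisymm (h2' j j rfl).2 (h1' j j rfl).2)
  rfl

/-- number of entries in the high block -/
def hiCard (θ : Idx n (n + m)) : ℕ := n - cntLt θ n

theorem hiCard_bigIdx {k : ℕ} (a : Idx k m) (b : Idx k n) : hiCard (bigIdx a b) = k := by
  have := cnt_bigIdx_low a b le_rfl
  rw [cntLt_of_le b le_rfl] at this
  unfold hiCard
  omega

theorem hiCard_botIdx (hdn : n < n + m) : hiCard (botIdx hdn) = 0 := by
  rw [hiCard, cntLt, Finset.filter_true_of_mem (fun j _ => j.isLt), Finset.card_univ, Fintype.card_fin,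
    Nat.sub_self]

theorem minorIdxBig_ne_bot (hdn : n < n + m) (M : MinorIdx m n) : minorIdxBig M ≠ botIdx hdn := fun h => by
  have := congrArg hiCard h
  rw [hiCard_botIdx, minorIdxBig, hiCard_bigIdx] at this
  omega

theorem exists_minorIdx (hdn : n < n + m) (θ : Idx n (n + m)) (h : θ ≠ botIdx hdn) :
    ∃ M : MinorIdx m n, minorIdxBig M = θ := by
  classical
  set S := Finset.univ.image θ.1 with hS
  set B : Finset (Fin n) := Finset.univ.filter fun j => Fin.castAdd m j ∉ S
  set A : Finset (Fin m) := Finset.univ.filter fun i => Fin.natAdd n (Fin.rev i) ∈ S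
  have hSu : S = Bᶜ.image (Fin.castAdd m) ∪ A.image (fun i => Fin.natAdd n (Fin.rev i)) := by
    ext x
    induction x using Fin.addCases with
    | left j =>
      have hne : ∀ i : Fin m, Fin.natAdd n (Fin.rev i) ≠ Fin.castAdd m j := fun i e => by
        have := congrArg Fin.val e
        simp only [Fin.val_natAdd, Fin.val_castAdd] at this
        omega
      simp [B, hne, (Fin.castAdd_injective n m).eq_iff]
    | right i =>
      have hne : ∀ j : Fin n, Fin.castAdd m j ≠ Fin.natAdd n i := fun j e => by
        have := congrArg Fin.val e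
        simp only [Fin.val_natAdd, Fin.val_castAdd] at this
        omega
      simp only [Finset.mem_union, Finset.mem_image, hne, and_false, exists_false, false_or]
      exact ⟨fun hi => ⟨Fin.rev i, by simp [A, hi], by rw [Fin.rev_rev]⟩,
        fun ⟨k, hk, hki⟩ => hki ▸ (Finset.mem_filter.1 hk).2⟩
  have hinj : Function.Injective fun i : Fin m => Fin.natAdd n (Fin.rev i) :=
    (Fin.natAdd_injective _ _).comp Fin.rev_injective
  have hdisj : Disjoint (Bᶜ.image (Fin.castAdd m)) (A.image (fun i => Fin.natAdd n (Fin.rev i))) := by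
    rw [Finset.disjoint_left]
    intro x hx hx'
    obtain ⟨i, -, rfl⟩ := Finset.mem_image.1 hx
    obtain ⟨j, -, hj⟩ := Finset.mem_image.1 hx'
    have := congrArg Fin.val hj
    simp only [Fin.val_natAdd, Fin.val_castAdd] at this
    omega
  have hcard : A.card = B.card := by
    have hc := congrArg Finset.card hSu
    rw [hS, Finset.card_image_of_injective _ θ.2.injective, Finset.card_union_of_disjoint hdisj,
      Finset.card_image_of_injective _ (Fin.castAdd_injective _ _), Finset.card_image_of_injective _ hinj,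
      Finset.card_compl] at hc
    simp only [Finset.card_univ, Fintype.card_fin] at hc
    have : B.card ≤ n := by simpa using Finset.card_le_univ B
    omega
  obtain ⟨s, hs⟩ : ∃ s, A.card = s + 1 := by
    refine Nat.exists_eq_add_one.2 (Nat.pos_of_ne_zero fun h0 => h (idx_ext ?_))
    rw [← hS, hSu, Finset.card_eq_zero.1 h0, Finset.card_eq_zero.1 (show B.card = 0 by omega), Finset.image_empty,
      Finset.union_empty, Finset.compl_empty]
    refine Finset.image_congr fun t _ => ?_
    exact Fin.ext rfl
  refine ⟨⟨s, ⟨fun t => A.orderEmbOfFin hs t, (A.orderEmbOfFin hs).strictMono⟩,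
    ⟨fun t => B.orderEmbOfFin (hcard ▸ hs) t, (B.orderEmbOfFin (hcard ▸ hs)).strictMono⟩⟩, idx_ext ?_⟩
  change Finset.univ.image (bigIdx _ _).1 = _
  rw [image_bigIdx, ← hS, hSu, lowSet, highSet, Finset.image_orderEmbOfFin_univ]
  conv_rhs => rw [← Finset.image_orderEmbOfFin_univ A hs, Finset.image_image]
  rfl

/-- The Schubert index of the determinantal variety of matrices of rank `≤ s`. -/
def wDet {s : ℕ} (hsn : s ≤ n) (hsm : s ≤ m) : Idx n (n + m) :=
  ⟨fun k => if h : k.val < n - s then ⟨s + k.val, by omega⟩ else ⟨m + k.val, by omega⟩, fun i j h => by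
    have h' := Fin.lt_def.1 h
    simp only [Fin.lt_def]
    split_ifs <;> simp only <;> omega⟩

theorem le_wDet_iff {s : ℕ} (hsn : s ≤ n) (hsm : s ≤ m) (θ : Idx n (n + m)) :
    θ ≤ wDet hsn hsm ↔ hiCard θ ≤ s := by
  have hval : ∀ k : Fin n, ((wDet hsn hsm).1 k).val = if k.val < n - s then s + k.val else m + k.val := fun k => by
    simp only [wDet]; split_ifs <;> rfl
  rcases hsn.eq_or_lt with rfl | hlt
  · refine iff_of_true (fun k => Fin.le_def.2 ?_) (Nat.sub_le _ _)
    rw [hval, if_neg (by omega)]
    have h1 : ((Finset.Ioi k).image θ.1) ⊆ Finset.Ioi (θ.1 k) := fun x hx => by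
      obtain ⟨i, hi, rfl⟩ := Finset.mem_image.1 hx
      exact Finset.mem_Ioi.2 (θ.2 (Finset.mem_Ioi.1 hi))
    have h2 := Finset.card_le_card h1
    rw [Finset.card_image_of_injective _ θ.2.injective, Fin.card_Ioi, Fin.card_Ioi] at h2
    omega
  let p : Fin n := ⟨n - s - 1, by omega⟩
  have key : hiCard θ ≤ s ↔ (θ.1 p).val < n := by
    unfold hiCard
    constructor
    · intro h
      by_contra hp
      push Not at hp
      have : cntLt θ n ≤ p.val := by
        rw [← Fin.card_Iio p]
        refine Finset.card_le_card fun k hk => Finset.mem_Iio.2 ?_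
        by_contra hk'
        push Not at hk'
        have := (Finset.mem_filter.1 hk).2
        have := Fin.le_def.1 (θ.2.monotone hk')
        omega
      simp only [p] at this
      omega
    · intro hp
      have : p.val + 1 ≤ cntLt θ n := by
        rw [← Fin.card_Iic p]
        exact Finset.card_le_card fun k hk => Finset.mem_filter.2
          ⟨Finset.mem_univ k, lt_of_le_of_lt (Fin.le_def.1 (θ.2.monotone (Finset.mem_Iic.1 hk))) hp⟩
      simp only [p] at this
      omega
  rw [key]
  constructor
  · intro h
    have := Fin.le_def.1 (h p)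
    rw [hval, if_pos (show p.val < n - s by simp only [p]; omega)] at this
    simp only [p] at this ⊢
    omega
  · intro hp k
    rw [Fin.le_def, hval]
    split_ifs with hk
    · have h1 := idx_sub_val_mono θ (show k ≤ p from Fin.le_def.2 (by simp only [p]; omega))
      simp only [p] at h1 hp
      omega
    · have h1 : ((Finset.Ioi k).image θ.1) ⊆ Finset.Ioi (θ.1 k) := fun x hx => by
        obtain ⟨i, hi, rfl⟩ := Finset.mem_image.1 hx
        exact Finset.mem_Ioi.2 (θ.2 (Finset.mem_Ioi.1 hi))
      have h2 := Finset.card_le_card h1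
      rw [Finset.card_image_of_injective _ θ.2.injective, Fin.card_Ioi, Fin.card_Ioi] at h2
      omega

theorem codeg_wDet {s : ℕ} (hsn : s ≤ n) (hsm : s ≤ m) : codeg (wDet hsn hsm) = s * (n + m - s) := by
  have h : ∀ k : Fin n, ((wDet hsn hsm).1 k).val - k.val = if k.val < n - s then s else m := fun k => by
    simp only [wDet]; split_ifs <;> simp
  unfold codeg
  simp only [h]
  rw [Finset.sum_ite, Finset.sum_const, Finset.sum_const, smul_eq_mul, smul_eq_mul]
  have h1 : (Finset.univ.filter fun k : Fin n => k.val < n - s).card = n - s := by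
    rw [Fin.card_filter_val_lt]; omega
  have h2 : (Finset.univ.filter fun k : Fin n => ¬ k.val < n - s).card = s := by
    have := Finset.card_filter_add_card_filter_not (s := (Finset.univ : Finset (Fin n))) (fun k => k.val < n - s)
    rw [Finset.card_univ, Fintype.card_fin] at this
    omega
  rw [h1, h2, show n + m - s = (n - s) + m by omega]
  ring

end Groth.Agent.Grass54
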