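import Mathlib
import Groth.Agent.Grass54.BigCell
import Groth.Agent.Grass54.DetIdx

/-!
Determinantal rings as opposite big cells of Schubert varieties.
-/

set_option autoImplicit false
universe u

open MvPolynomial W4bk4grassmannian Finset

namespace Groth.Agent.Grass54

variable (F : Type u) [Field F] [Infinite F] {n m : ℕ}

theorem cellIdeal_eq_span (hn : 0 < n) (hdn : n < n + m) (w : Idx n (n + m)) :
    cellIdeal F w = Ideal.span {f | ∃ φ : Idx n (n + m), ¬ φ ≤ w ∧ f = cellMinor F n m φ} := by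
  rw [cellIdeal, ← plIdeal_eq F hn hdn w, plIdeal, Ideal.map_span]
  refine le_antisymm (Ideal.span_le.2 ?_) (Ideal.span_le.2 ?_)
  · rintro _ ⟨f, hf | ⟨φ, hφ, rfl⟩, rfl⟩
    · rw [cellEv_plIdealTop F (Ideal.subset_span hf)]
      exact zero_mem _
    · exact Ideal.subset_span ⟨φ, hφ, cellEv_X F φ⟩
  · rintro _ ⟨φ, hφ, rfl⟩
    exact Ideal.subset_span ⟨X φ, Or.inr ⟨φ, hφ, rfl⟩, cellEv_X F φ⟩

omit [Infinite F] in
theorem minorIdeal_eq_bot {p q t : ℕ} (h : q < t) : CAlgX.minorIdeal (genMatrix F p q) t = ⊥ := by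
  rw [CAlgX.minorIdeal, Ideal.span_eq_bot]
  rintro _ ⟨⟨ρ, γ⟩, rfl⟩
  obtain ⟨a, b, hne, hab⟩ := Fintype.exists_ne_map_eq_of_card_lt γ (by simpa using h)
  exact Matrix.det_zero_of_column_eq hne fun c => by simp [hab]

theorem cellIdeal_wDet (hn : 0 < n) (hm : 0 < m) {s : ℕ} (hsn : s ≤ n) (hsm : s ≤ m) :
    cellIdeal F (wDet hsn hsm) = CAlgX.minorIdeal (genMatrix F m n) (s + 1) := by
  rw [cellIdeal_eq_span F hn (by omega)]
  rcases hsn.eq_or_lt with rfl | hlt
  · rw [minorIdeal_eq_bot F (Nat.lt_succ_self _), Ideal.span_eq_bot]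
    rintro _ ⟨φ, hφ, -⟩
    exact absurd ((le_wDet_iff le_rfl hsm φ).2 (Nat.sub_le _ _)) hφ
  rw [← cell_ideal_eq F hn (Nat.succ_pos s) hlt]
  congr 1
  ext f
  simp only [Set.mem_setOf_eq]
  refine exists_congr fun φ => and_congr_left fun _ => ?_
  rw [le_wDet_iff, not_le, hiCard]
  set p : Fin n := ⟨n - (s + 1), Nat.sub_lt hn (Nat.succ_pos s)⟩ with hp
  constructor
  · intro h
    by_contra hc
    push Not at hc
    have : p.val + 1 ≤ cntLt φ n := by
      rw [← Fin.card_Iic p]
      exact Finset.card_le_card fun k hk => Finset.mem_filter.2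
        ⟨Finset.mem_univ k, lt_of_le_of_lt (Fin.le_def.1 (φ.2.monotone (Finset.mem_Iic.1 hk))) hc⟩
    simp only [hp] at this
    omega
  · intro h
    have : cntLt φ n ≤ p.val := by
      rw [← Fin.card_Iio p]
      refine Finset.card_le_card fun k hk => Finset.mem_Iio.2 ?_
      by_contra hk'
      push Not at hk'
      have := (Finset.mem_filter.1 hk).2
      have := Fin.le_def.1 (φ.2.monotone hk')
      omega
    simp only [hp] at this
    omega

/-- Row reversal. -/
noncomputable def revRows (K : Type u) [CommRing K] (m n : ℕ) :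
    CellRing K n m →ₐ[K] CellRing K n m :=
  MvPolynomial.rename (Prod.map Fin.rev id)

omit [Infinite F] in
theorem revRows_revRows (f : CellRing F n m) : revRows F m n (revRows F m n f) = f := by
  have h : (Prod.map Fin.rev id ∘ Prod.map Fin.rev id : Fin m × Fin n → Fin m × Fin n) = id :=
    funext fun p => by ext <;> simp
  rw [revRows, MvPolynomial.rename_rename, h, MvPolynomial.rename_id_apply]

omit [Infinite F] in
theorem revRows_det {k : ℕ} (ρ : Fin k → Fin m) (γ : Fin k → Fin n) :
    revRows F m n ((genMatrix F m n).submatrix ρ γ).det = ((genMatrix F m n).submatrix (Fin.rev ∘ ρ) γ).det := by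
  rw [AlgHom.map_det]
  refine congrArg Matrix.det (Matrix.ext fun i j => ?_)
  simp [revRows, genMatrix]

omit [Infinite F] in
theorem revRows_mem {t : ℕ} {f : CellRing F n m} (hf : f ∈ CAlgX.minorIdeal (genMatrix F m n) t) :
    revRows F m n f ∈ CAlgX.minorIdeal (genMatrix F m n) t := by
  have hle : (CAlgX.minorIdeal (genMatrix F m n) t).map (revRows F m n) ≤ CAlgX.minorIdeal (genMatrix F m n) t := by
    rw [CAlgX.minorIdeal, Ideal.map_span, Ideal.span_le]
    rintro _ ⟨_, ⟨⟨ρ, γ⟩, rfl⟩, rfl⟩
    exact Ideal.subset_span ⟨(Fin.rev ∘ ρ, γ), (revRows_det F ρ γ).symm⟩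
  exact hle (Ideal.mem_map_of_mem _ hf)

omit [Infinite F] in
theorem cellMinor_bigIdx {k : ℕ} (a : Idx k m) (b : Idx k n) :
    ∃ ε : F, ε ≠ 0 ∧ cellMinor F n m (bigIdx a b) =
      C ε * revRows F m n ((genMatrix F m n).submatrix a.1 b.1).det := by
  classical
  rw [revRows_det]
  set ρ : Fin k → Fin m := Fin.rev ∘ a.1
  set γ : Fin k → Fin n := b.1
  set θ := bigIdx a b
  have hk : k ≤ n := by simpa using Fintype.card_le_of_injective _ b.2.injective
  let C' : Finset (Fin n) := (Finset.univ.image γ)ᶜ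
  have hC : C'.card = n - k := by
    rw [Finset.card_compl, Finset.card_image_of_injective _ b.2.injective]; simp
  let cm : Fin (n - k) → Fin n := C'.orderEmbOfFin hC
  have hcm : ∀ i j, cm i ≠ γ j := fun i j h => by
    have := Finset.orderEmbOfFin_mem C' hC i
    exact Finset.mem_compl.1 this (Finset.mem_image.2 ⟨j, Finset.mem_univ _, h.symm⟩)
  let col : Fin (n - k) ⊕ Fin k → Fin n := Sum.elim cm γ
  have hcol : Function.Injective col := by
    rintro (i | i) (j | j) h <;> simp [col] at h
    · exact congrArg _ ((C'.orderEmbOfFin hC).injective h)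
    · exact absurd h (hcm i j)
    · exact absurd h.symm (hcm j i)
    · exact congrArg _ (b.2.injective h)
  have hcardsum : Fintype.card (Fin (n - k) ⊕ Fin k) = Fintype.card (Fin n) := by simp; omega
  let ec : Fin (n - k) ⊕ Fin k ≃ Fin n :=
    Equiv.ofBijective col ((Fintype.bijective_iff_injective_and_card col).2 ⟨hcol, hcardsum⟩)
  let row : Fin (n - k) ⊕ Fin k → Fin (n + m) := Sum.elim (Fin.castAdd m ∘ cm) (Fin.natAdd n ∘ ρ)
  have hmem : ∀ i, ∃ x, row x = θ.1 i := fun i => by
    have h : θ.1 i ∈ lowSet b m ∪ highSet n a := by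
      rw [← image_bigIdx]; exact Finset.mem_image_of_mem _ (Finset.mem_univ i)
    rcases Finset.mem_union.1 h with h | h
    · obtain ⟨c, hc, hcx⟩ := Finset.mem_image.1 h
      obtain ⟨x, hx⟩ : c ∈ Set.range (C'.orderEmbOfFin hC) := by
        rw [Finset.range_orderEmbOfFin]; exact hc
      exact ⟨Sum.inl x, by rw [← hcx, ← hx]; rfl⟩
    · obtain ⟨j, -, hj⟩ := Finset.mem_image.1 h
      exact ⟨Sum.inr j, hj⟩
  choose g hg using hmem
  have hginj : Function.Injective g := fun x y h => θ.2.injective (by rw [← hg, ← hg, h])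
  let eg : Fin n ≃ Fin (n - k) ⊕ Fin k :=
    Equiv.ofBijective g ((Fintype.bijective_iff_injective_and_card g).2 ⟨hginj, hcardsum.symm⟩)
  set M : Matrix (Fin n) (Fin n) (CellRing F n m) := (cellMatrix F n m).submatrix θ.1 id with hM
  have hblock : M.submatrix eg.symm ec = Matrix.fromBlocks 1 0
      (Matrix.of fun i j => genMatrix F m n (ρ i) (cm j)) ((genMatrix F m n).submatrix ρ γ) := by
    have hθe : ∀ x, θ.1 (eg.symm x) = row x := fun x => by
      rw [← hg]; exact congrArg row (eg.apply_symm_apply x)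
    refine Matrix.ext fun x y => ?_
    rcases x with i | i <;> rcases y with j | j <;> simp only [Matrix.submatrix_apply, hM, hθe, id] <;>
      simp only [row, ec, col, Equiv.ofBijective_apply, Sum.elim_inl, Sum.elim_inr, Function.comp_apply,
        Matrix.fromBlocks_apply₁₁, Matrix.fromBlocks_apply₁₂, Matrix.fromBlocks_apply₂₁,
        Matrix.fromBlocks_apply₂₂, cell_top, cell_bot, Matrix.of_apply, Matrix.submatrix_apply]
    · rw [Matrix.one_apply]
      exact if_congr ((C'.orderEmbOfFin hC).injective.eq_iff) rfl rfl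
    · rw [if_neg (hcm i j)]; rfl
  set σ : Equiv.Perm (Fin n) := eg.trans ec
  have hsub : M = ((M.submatrix eg.symm ec).submatrix eg eg).submatrix id σ.symm := by
    ext i j; simp [σ]
  refine ⟨((Equiv.Perm.sign σ.symm : ℤ) : F), ?_, ?_⟩
  · rcases Int.units_eq_one_or (Equiv.Perm.sign σ.symm) with e | e <;> simp [e]
  · change M.det = _
    conv_lhs => rw [hsub, Matrix.det_permute', Matrix.det_submatrix_equiv_self, hblock,
      Matrix.det_fromBlocks_zero₁₂, Matrix.det_one, one_mul]
    rw [map_intCast]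

theorem bitableau_independent (hn : 0 < n) (hm : 0 < m) {s : ℕ} (hsn : s ≤ n) (hsm : s ≤ m) :
    LinearIndependent F (fun c : (Σ k : ℕ, {c : Fin k → MinorIdx m n //
        (∀ i, (c i).1 + 1 ≤ s) ∧ ∀ i j, i < j → MinorGE (c i) (c j)}) =>
        Ideal.Quotient.mk (CAlgX.minorIdeal (genMatrix F m n) (s + 1))
          (Finset.univ.prod fun i => minorOf F (c.2.1 i))) := by
  classical
  have hdn : n < n + m := by omega
  set T := Σ k : ℕ, {c : Fin k → MinorIdx m n //
        (∀ i, (c i).1 + 1 ≤ s) ∧ ∀ i j, i < j → MinorGE (c i) (c j)}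
  rw [linearIndependent_iff]
  intro l hl
  let D := l.support.sup fun c : T => c.1
  let pad : T → Fin D → Idx n (n + m) := fun c j =>
    if h : j.val < c.1 then minorIdxBig (c.2.1 ⟨c.1 - 1 - j.val, by omega⟩) else botIdx hdn
  have hanti : ∀ c : T, Antitone (pad c) := fun c i j hij => by
    simp only [pad]
    split_ifs with hj hi hi
    · rcases (Fin.le_def.1 hij).eq_or_lt with e | e
      · simp [e]
      · exact (minorGE_iff _ _).1 (c.2.2.2 _ _ (Fin.lt_def.2 (by simp only; omega)))
    · exact absurd (lt_of_le_of_lt (Fin.le_def.1 hij) hj) hi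
    · exact botIdx_le hdn _
    · exact le_rfl
  let std : T → Std n (n + m) := fun c => ⟨D, pad c, hanti c⟩
  have hle : ∀ (c : T) k, pad c k ≤ wDet hsn hsm := fun c k => by
    simp only [pad]
    split_ifs
    · exact (le_wDet_iff hsn hsm _).2 (by rw [minorIdxBig, hiCard_bigIdx]; exact c.2.2.1 _)
    · exact botIdx_le hdn _
  have hinj : Set.InjOn std (l.support : Set T) := fun c hc c' hc' h => by
    have hp : pad c = pad c' := by
      simp only [std] at h
      exact congrArg Subtype.val (eq_of_heq (Sigma.mk.inj h).2)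
    have hcD : c.1 ≤ D := Finset.le_sup (f := fun c : T => c.1) hc
    have hcD' : c'.1 ≤ D := Finset.le_sup (f := fun c : T => c.1) hc'
    obtain ⟨k, c, hc2⟩ := c
    obtain ⟨k', c', hc2'⟩ := c'
    simp only at hcD hcD'
    obtain rfl : k = k' := by
      by_contra hne
      rcases Nat.lt_or_gt_of_ne hne with hlt | hlt
      · have := congrFun hp ⟨k, by omega⟩
        simp only [pad, dif_neg (lt_irrefl k), dif_pos hlt] at this
        exact minorIdxBig_ne_bot hdn _ this.symm
      · have := congrFun hp ⟨k', by omega⟩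
        simp only [pad, dif_neg (lt_irrefl k'), dif_pos hlt] at this
        exact minorIdxBig_ne_bot hdn _ this
    obtain rfl : c = c' := funext fun i => by
      have hik := i.isLt
      have := congrFun hp ⟨k - 1 - i.val, by omega⟩
      simp only [pad, dif_pos (show k - 1 - i.val < k by omega)] at this
      have h2 := minorIdxBig_injective this
      simpa [show k - 1 - (k - 1 - i.val) = i.val by omega] using h2
    rfl
  choose ε hε hεeq using fun M : MinorIdx m n => cellMinor_bigIdx F M.2.1 M.2.2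
  have hev : ∀ c ∈ l.support, ∃ e : F, e ≠ 0 ∧
      cellEv F n m (chainMon F (pad c)) = C e * revRows F m n (∏ i, minorOf F (c.2.1 i)) := fun c hc => by
    have hcD : c.1 ≤ D := Finset.le_sup (f := fun c : T => c.1) hc
    refine ⟨∏ i, ε (c.2.1 i), Finset.prod_ne_zero_iff.2 fun i _ => hε _, ?_⟩
    rw [chainMon, map_prod, map_prod, map_prod, ← Finset.prod_mul_distrib]
    have : ∀ i : Fin c.1, C (ε (c.2.1 i)) * revRows F m n (minorOf F (c.2.1 i)) =
        cellEv F n m (X (pad c ⟨c.1 - 1 - i.val, by omega⟩)) := fun i => by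
      rw [cellEv_X]
      simp only [pad, dif_pos (show c.1 - 1 - i.val < c.1 by omega), show c.1 - 1 - (c.1 - 1 - i.val) = i.val by omega]
      exact (hεeq _).symm
    rw [Finset.prod_congr rfl fun i _ => this i]
    symm
    refine Finset.prod_of_injOn (fun i : Fin c.1 => (⟨c.1 - 1 - i.val, by omega⟩ : Fin D)) ?_ (by simp) ?_
      (fun i _ => rfl)
    · intro i _ j _ h
      have := congrArg Fin.val h
      exact Fin.ext (by simp only at this; omega)
    · intro j _ hj
      have : ¬ j.val < c.1 := fun hjc => hj ⟨⟨c.1 - 1 - j.val, by omega⟩, by simp, Fin.ext (by simp only; omega)⟩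
      simp only [pad, dif_neg this, cellEv_bot]
  choose! e he heq using hev
  let f : Std n (n + m) →₀ F := ∑ c ∈ l.support, Finsupp.single (std c) (l c * (e c)⁻¹)
  set G := Finsupp.linearCombination F (fun c : Std n (n + m) => chainMon F c.2.1) f with hG
  have hGsum : G = ∑ c ∈ l.support, C (l c * (e c)⁻¹) * chainMon F (pad c) := by
    rw [hG, map_sum]
    refine Finset.sum_congr rfl fun c _ => ?_
    rw [Finsupp.linearCombination_single, MvPolynomial.smul_eq_C_mul]
  have hGh : G.IsHomogeneous D := by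
    rw [hGsum]
    refine MvPolynomial.IsHomogeneous.sum _ _ _ fun c _ => ?_
    have h := MvPolynomial.IsHomogeneous.prod Finset.univ (fun k => (X (pad c k) : PlRing F n (n + m)))
      (fun _ => 1) fun k _ => isHomogeneous_X F _
    rw [Finset.sum_const, Finset.card_univ, Fintype.card_fin, smul_eq_mul, mul_one] at h
    exact h.C_mul _
  have hGmem : G ∈ schubertVanishing F n (n + m) (wDet hsn hsm) := by
    refine mem_of_cellEv_mem F hn hdn _ hGh ?_
    rw [cellIdeal_wDet F hn hm hsn hsm, hGsum, map_sum]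
    have h1 : ∑ c ∈ l.support, C (l c) * (∏ i, minorOf F (c.2.1 i)) ∈
        CAlgX.minorIdeal (genMatrix F m n) (s + 1) := by
      rw [← Ideal.Quotient.eq_zero_iff_mem, map_sum, ← hl, Finsupp.linearCombination_apply, Finsupp.sum]
      refine Finset.sum_congr rfl fun c _ => ?_
      rw [map_mul, Algebra.smul_def]; rfl
    have h2 := revRows_mem F h1
    rw [map_sum] at h2
    convert h2 using 1
    refine Finset.sum_congr rfl fun c hc => ?_
    have hC1 : ∀ a : F, cellEv F n m (C a) = C a := fun a => (cellEv F n m).commutes a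
    have hC2 : ∀ a : F, revRows F m n (C a) = C a := fun a => (revRows F m n).commutes a
    rw [map_mul (cellEv F n m), map_mul (revRows F m n), heq c hc, hC1, hC2, ← mul_assoc, ← C_mul,
      mul_assoc (l c), inv_mul_cancel₀ (he c hc), mul_one]
  ext c
  by_contra hne
  have hc : c ∈ l.support := Finsupp.mem_support_iff.2 hne
  have h0 : f (std c) = 0 := coeff_eq_zero_of_mem F hn hdn _ f hGmem (std c) (hle c)
  have h1 : f (std c) = l c * (e c)⁻¹ := by
    simp only [f, Finsupp.finsetSum_apply]
    rw [Finset.sum_eq_single_of_mem c hc fun c' hc' hne' => by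
      rw [Finsupp.single_eq_of_ne]; exact fun h => hne' (hinj hc hc' (by first | exact h | exact h.symm)).symm]
    rw [Finsupp.single_eq_same]
  exact hne ((mul_eq_zero.1 (h1.symm.trans h0)).resolve_right (inv_ne_zero (he c hc)))

theorem bitableau_span (hn : 0 < n) (hm : 0 < m) {s : ℕ} (hsn : s ≤ n) (hsm : s ≤ m) :
    Submodule.span F (Set.range fun c : (Σ k : ℕ, {c : Fin k → MinorIdx m n //
        (∀ i, (c i).1 + 1 ≤ s) ∧ ∀ i j, i < j → MinorGE (c i) (c j)}) =>
        Ideal.Quotient.mk (CAlgX.minorIdeal (genMatrix F m n) (s + 1))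
          (Finset.univ.prod fun i => minorOf F (c.2.1 i))) = ⊤ := by
  classical
  have hdn : n < n + m := by omega
  set I := CAlgX.minorIdeal (genMatrix F m n) (s + 1) with hI
  set π := Ideal.Quotient.mkₐ F I
  set S := Submodule.span F (Set.range fun c : (Σ k : ℕ, {c : Fin k → MinorIdx m n //
        (∀ i, (c i).1 + 1 ≤ s) ∧ ∀ i j, i < j → MinorGE (c i) (c j)}) =>
        Ideal.Quotient.mk I (Finset.univ.prod fun i => minorOf F (c.2.1 i)))
  choose ε hε hεeq using fun M : MinorIdx m n => cellMinor_bigIdx F M.2.1 M.2.2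
  have key : ∀ (L : List (Idx n (n + m))), L.Pairwise (fun a b => b ≤ a) →
      π (revRows F m n (cellEv F n m (L.map X).prod)) ∈ S := by
    intro L hL
    by_cases hw : ∀ θ ∈ L, θ ≤ wDet hsn hsm
    swap
    · push Not at hw
      obtain ⟨θ, hθ, hθw⟩ := hw
      have hmem : cellEv F n m (L.map X).prod ∈ I := by
        rw [map_list_prod, List.map_map, hI, ← cellIdeal_wDet F hn hm hsn hsm]
        refine (cellIdeal F _).mem_of_dvd (List.dvd_prod (List.mem_map.2 ⟨θ, hθ, rfl⟩)) ?_
        exact Ideal.mem_map_of_mem _ (X_mem_schubertVanishing F hθw)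
      rw [Ideal.Quotient.mkₐ_eq_mk, Ideal.Quotient.eq_zero_iff_mem.2 (revRows_mem F hmem)]
      exact S.zero_mem
    obtain ⟨e, Ms, he, hMs, hpw⟩ : ∃ (e : F) (Ms : List (MinorIdx m n)),
        revRows F m n (cellEv F n m (L.map X).prod) = C e * (Ms.map (minorOf F)).prod ∧
        (∀ M ∈ Ms, M.1 + 1 ≤ s ∧ minorIdxBig M ∈ L) ∧ Ms.Pairwise (fun a b => minorIdxBig b ≤ minorIdxBig a) := by
      induction L with
      | nil => exact ⟨1, [], by simp, by simp, List.Pairwise.nil⟩
      | cons θ L ih =>
        rw [List.pairwise_cons] at hL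
        obtain ⟨e, Ms, he, hMs, hpw⟩ := ih hL.2 fun φ hφ => hw φ (List.mem_cons_of_mem θ hφ)
        rw [List.map_cons, List.prod_cons, map_mul, map_mul, he, cellEv_X]
        by_cases hθ : θ = botIdx hdn
        · refine ⟨e, Ms, ?_, fun M hM => ⟨(hMs M hM).1, List.mem_cons_of_mem θ (hMs M hM).2⟩, hpw⟩
          rw [← cellEv_X, hθ, cellEv_bot, map_one, one_mul]
        · obtain ⟨M, rfl⟩ := exists_minorIdx hdn θ hθ
          refine ⟨ε M * e, M :: Ms, ?_, ?_, ?_⟩
          · rw [minorIdxBig, hεeq, map_mul, revRows_revRows, List.map_cons, List.prod_cons, C_mul,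
              show revRows F m n (C (ε M)) = C (ε M) from MvPolynomial.rename_C _ _]
            change C (ε M) * minorOf F M * (C e * _) = _
            ring
          · intro N hN
            rcases List.mem_cons.1 hN with rfl | hN
            · refine ⟨?_, List.mem_cons_self ..⟩
              have := (le_wDet_iff hsn hsm _).1 (hw _ (List.mem_cons_self ..))
              rwa [minorIdxBig, hiCard_bigIdx] at this
            · exact ⟨(hMs N hN).1, List.mem_cons_of_mem _ (hMs N hN).2⟩
          · exact List.pairwise_cons.2 ⟨fun N hN => hL.1 _ (hMs N hN).2, hpw⟩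
    rw [he, ← MvPolynomial.smul_eq_C_mul, map_smul]
    refine S.smul_mem _ (Submodule.subset_span ⟨⟨Ms.length, fun i => Ms.get (Fin.rev i),
      fun i => (hMs _ (List.get_mem Ms _)).1, fun i j hij => ?_⟩, ?_⟩)
    · exact (minorGE_iff _ _).2 (List.pairwise_iff_get.1 hpw _ _ (Fin.rev_lt_rev.2 hij))
    · change Ideal.Quotient.mk I (∏ i, minorOf F (Ms.get (Fin.rev i))) = _
      rw [Ideal.Quotient.mkₐ_eq_mk]
      congr 1
      rw [Fintype.prod_equiv Fin.revPerm (fun i : Fin Ms.length => minorOf F (Ms.get (Fin.rev i)))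
        (fun i : Fin Ms.length => minorOf F (Ms.get i)) (fun i => by simp)]
      simp [← List.prod_ofFn]
  rw [eq_top_iff]
  rintro q -
  obtain ⟨a, rfl⟩ := Ideal.Quotient.mk_surjective q
  obtain ⟨f, hf⟩ := cellEv_surjective F (revRows F m n a)
  obtain ⟨co, hco⟩ := exists_std_decomp F f
  have ha : a = revRows F m n (cellEv F n m f) := by rw [hf, revRows_revRows]
  have hf2 : cellEv F n m f = cellEv F n m (Finsupp.linearCombination F (fun c : Std n (n + m) => chainMon F c.2.1) co) := by
    rw [← sub_eq_zero, ← map_sub]; exact cellEv_plIdealTop F hco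
  rw [ha, hf2, ← Ideal.Quotient.mkₐ_eq_mk F, Finsupp.linearCombination_apply, Finsupp.sum, map_sum, map_sum, map_sum]
  refine S.sum_mem fun c _ => ?_
  rw [map_smul, map_smul, map_smul]
  refine S.smul_mem _ ?_
  have hc : chainMon F c.2.1 = ((List.ofFn c.2.1).map X).prod := by
    simp [chainMon, List.prod_ofFn]
  rw [hc]
  exact key _ (List.pairwise_ofFn.2 fun i j hij => c.2.2 hij.le)

end Groth.Agent.Grass54
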