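import Mathlib
import Groth.Prelude.Def_W4bk4grassmannianPl

set_option autoImplicit false
universe u

open Matrix Module
open W4bk4grassmannian (Idx)

namespace Groth.Agent.Grass54

variable {K : Type u} [Field K] {d n : ℕ}

theorem span_rows_eq_top {A : Matrix (Fin n) (Fin d) K} (hA : LinearIndependent K A.transpose) :
    Submodule.span K (Set.range A.row) = ⊤ := by
  refine Submodule.eq_top_of_finrank_eq ?_
  rw [← Matrix.rank_eq_finrank_span_row, Matrix.rank_eq_finrank_span_cols, finrank_fin_fun]
  exact (finrank_span_eq_card hA).trans (by simp)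

theorem exists_idx_det_ne_zero {A : Matrix (Fin n) (Fin d) K}
    (hA : LinearIndependent K A.transpose) : ∃ θ : Idx d n, (A.submatrix θ.1 id).det ≠ 0 := by
  obtain ⟨κ, a, hinj, hspan, hli⟩ := exists_linearIndependent' K A.row
  classical
  have : Fintype κ := Fintype.ofInjective a hinj
  rw [span_rows_eq_top hA] at hspan
  have hcard : Fintype.card κ = d := by
    rw [← finrank_span_eq_card hli, hspan, finrank_top, finrank_fin_fun]
  let s : Finset (Fin n) := Finset.univ.image a
  have hs : s.card = d := by
    rw [Finset.card_image_of_injective _ hinj, Finset.card_univ, hcard]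
  refine ⟨⟨s.orderEmbOfFin hs, (s.orderEmbOfFin hs).strictMono⟩, ?_⟩
  have hmem : ∀ t, ∃ x, a x = s.orderEmbOfFin hs t := fun t => by
    obtain ⟨x, -, hx⟩ := Finset.mem_image.1 (Finset.orderEmbOfFin_mem s hs t)
    exact ⟨x, hx⟩
  choose g hg using hmem
  have hginj : Function.Injective g := fun x y hxy => by
    refine (s.orderEmbOfFin hs).injective ?_
    rw [← hg, ← hg, hxy]
  have hrow : (A.submatrix (s.orderEmbOfFin hs) id).row = (A.row ∘ a) ∘ g := by
    funext t k
    change A (s.orderEmbOfFin hs t) k = A (a (g t)) k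
    rw [hg]
  have : LinearIndependent K (A.submatrix (s.orderEmbOfFin hs) id).row := hrow ▸ hli.comp g hginj
  rw [Matrix.linearIndependent_rows_iff_isUnit, Matrix.isUnit_iff_isUnit_det] at this
  exact this.ne_zero

theorem det_submatrix_prop {A A' : Matrix (Fin n) (Fin d) K} {c : K}
    (h : ∀ θ : Idx d n, (A.submatrix θ.1 id).det = c * (A'.submatrix θ.1 id).det)
    (a : Fin d → Fin n) : (A.submatrix a id).det = c * (A'.submatrix a id).det := by
  by_cases hinj : Function.Injective a
  · set σ := Tuple.sort a with hσ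
    have hmono : StrictMono (a ∘ σ) :=
      (Tuple.monotone_sort a).strictMono_of_injective (hinj.comp σ.injective)
    have hh := h ⟨_, hmono⟩
    change ((A.submatrix a id).submatrix σ id).det =
      c * ((A'.submatrix a id).submatrix σ id).det at hh
    rw [Matrix.det_permute, Matrix.det_permute] at hh
    have hu : ((Equiv.Perm.sign σ : ℤ) : K) ≠ 0 := by
      rcases Int.units_eq_one_or (Equiv.Perm.sign σ) with e | e <;> simp [e]
    exact mul_left_cancel₀ hu (by linear_combination hh)
  · obtain ⟨i, j, hij, hne⟩ := Function.not_injective_iff.1 hinj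
    rw [Matrix.det_zero_of_row_eq hne, Matrix.det_zero_of_row_eq hne, mul_zero] <;>
      funext k <;> simp [hij]

theorem coeff_eq {A : Matrix (Fin n) (Fin d) K} {θ : Idx d n}
    (hθ : (A.submatrix θ.1 id).det ≠ 0) :
    A = Matrix.of (fun i j => (A.submatrix (Function.update θ.1 j i) id).det /
        (A.submatrix θ.1 id).det) * A.submatrix θ.1 id := by
  set P := A.submatrix θ.1 id with hP
  have hu : IsUnit P.det := isUnit_iff_ne_zero.2 hθ
  have key : A * P⁻¹ = Matrix.of (fun i j => (A.submatrix (Function.update θ.1 j i) id).det /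
        P.det) := by
    ext i j
    have hrow : A i = ∑ k, (A * P⁻¹) i k • P k := by
      funext t
      have : A i t = ((A * P⁻¹) * P) i t := by
        rw [Matrix.nonsing_inv_mul_cancel_right _ _ hu]
      rw [this, Matrix.mul_apply, Finset.sum_apply]
      rfl
    have hsub : A.submatrix (Function.update θ.1 j i) id = P.updateRow j (A i) := by
      ext s t
      by_cases hs : s = j
      · subst hs; simp [P]
      · simp [P, Matrix.updateRow_ne hs, Function.update_of_ne hs]
    rw [Matrix.of_apply, hsub, hrow, Matrix.det_updateRow_sum, smul_eq_mul, mul_div_assoc,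
      div_self hθ, mul_one]
  rw [← key, Matrix.nonsing_inv_mul_cancel_right _ _ hu]

theorem span_columns_le {A A' : Matrix (Fin n) (Fin d) K} (hA' : LinearIndependent K A'.transpose)
    {c : K} (hc : c ≠ 0)
    (h : ∀ θ : Idx d n, (A.submatrix θ.1 id).det = c * (A'.submatrix θ.1 id).det) :
    Submodule.span K (Set.range A'.transpose) ≤ Submodule.span K (Set.range A.transpose) := by
  obtain ⟨θ, hθ'⟩ := exists_idx_det_ne_zero hA'
  have hθ : (A.submatrix θ.1 id).det ≠ 0 := by rw [h θ]; exact mul_ne_zero hc hθ'
  have h1 := coeff_eq hθ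
  have h2 := coeff_eq hθ'
  set B := Matrix.of (fun i j => (A'.submatrix (Function.update θ.1 j i) id).det /
        (A'.submatrix θ.1 id).det) with hB
  have hBA : Matrix.of (fun i j => (A.submatrix (Function.update θ.1 j i) id).det /
        (A.submatrix θ.1 id).det) = B := by
    ext i j
    rw [hB, Matrix.of_apply, Matrix.of_apply, det_submatrix_prop h, h θ,
      mul_div_mul_left _ _ hc]
  rw [hBA] at h1
  have hu : IsUnit (A.submatrix θ.1 id).det := isUnit_iff_ne_zero.2 hθ
  have h3 : A' = A * ((A.submatrix θ.1 id)⁻¹ * A'.submatrix θ.1 id) := by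
    have hB' : B = A * (A.submatrix θ.1 id)⁻¹ := by
      calc B = B * A.submatrix θ.1 id * (A.submatrix θ.1 id)⁻¹ :=
            (Matrix.mul_nonsing_inv_cancel_right _ _ hu).symm
        _ = _ := by rw [← h1]
    rw [← Matrix.mul_assoc, ← hB', ← h2]
  rw [Submodule.span_le]
  rintro _ ⟨k, rfl⟩
  set M := (A.submatrix θ.1 id)⁻¹ * A'.submatrix θ.1 id
  have hk : A'.transpose k = ∑ t, M t k • A.transpose t := by
    funext i
    rw [Matrix.transpose_apply, h3, Matrix.mul_apply, Finset.sum_apply]
    exact Finset.sum_congr rfl fun t _ => by simp [mul_comm]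
  rw [hk]
  exact sum_mem fun t _ => Submodule.smul_mem _ _ (Submodule.subset_span ⟨t, rfl⟩)

end Groth.Agent.Grass54
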