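import Mathlib
import Groth.Agent.Grass54.DetRing
import Groth.Agent.Grass54.Plucker

/-!
Rank factorisations and the second fundamental theorem for `GL`.
-/

set_option autoImplicit false
universe u

open MvPolynomial W4bk4grassmannian Finset

namespace Groth.Agent.Grass54

variable (F : Type u) [Field F]

theorem det_mul_eq_zero {R : Type u} [CommRing R] {k : ℕ} (A : Matrix (Fin (k + 1)) (Fin k) R)
    (B : Matrix (Fin k) (Fin (k + 1)) R) : (A * B).det = 0 := by
  have h : A * B = Matrix.of (fun i => Fin.snoc (A i) (0 : R)) *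
      Matrix.of (Fin.snoc B (0 : Fin (k + 1) → R) : Fin (k + 1) → Fin (k + 1) → R) := by
    ext i j
    rw [Matrix.mul_apply, Matrix.mul_apply, Fin.sum_univ_castSucc]
    simp only [Matrix.of_apply, Fin.snoc_castSucc, Fin.snoc_last, zero_mul, add_zero]
    try exact Finset.sum_congr rfl fun k _ => congrArg (A i k * ·) (congrFun (Fin.snoc_castSucc (α := fun _ => Fin (_ + 1) → R) 0 B k) j).symm
  rw [h, Matrix.det_mul, Matrix.det_eq_zero_of_column_eq_zero (Fin.last k) (fun i => by simp), zero_mul]

theorem minorIdeal_le_ker_pairing {p r q : ℕ} :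
    CAlgX.minorIdeal (genMatrix F p q) (r + 1) ≤ RingHom.ker (pairingMap F r p q).toRingHom := by
  rw [CAlgX.minorIdeal, Ideal.span_le]
  rintro _ ⟨⟨ρ, γ⟩, rfl⟩
  change pairingMap F r p q (((genMatrix F p q).submatrix ρ γ).det) = 0
  rw [AlgHom.map_det]
  convert det_mul_eq_zero (Matrix.of fun i k => (X (Sum.inl (ρ i, k)) : PairRing F r p q))
    (Matrix.of fun k j => (X (Sum.inr (k, γ j)) : PairRing F r p q)) using 2
  ext i j
  simp [pairingMap, genMatrix, Matrix.mul_apply]

theorem exists_factor {p q r : ℕ} (Z : Matrix (Fin p) (Fin q) F)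
    (hZ : ∀ (ρ : Fin (r + 1) → Fin p) (γ : Fin (r + 1) → Fin q), (Z.submatrix ρ γ).det = 0) :
    ∃ (U : Matrix (Fin p) (Fin r) F) (W : Matrix (Fin r) (Fin q) F), Z = U * W := by
  classical
  obtain ⟨κ, a, hinj, hspan, hli⟩ := exists_linearIndependent' F Z.row
  have : Fintype κ := Fintype.ofInjective a hinj
  have hcard : Fintype.card κ ≤ r := by
    by_contra hlt
    push Not at hlt
    obtain ⟨e⟩ : Nonempty (Fin (r + 1) ↪ κ) := Function.Embedding.nonempty_of_card_le (by simpa using hlt)
    set A : Matrix (Fin q) (Fin (r + 1)) F := Matrix.of fun j i => Z (a (e i)) j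
    obtain ⟨θ, hθ⟩ := exists_idx_det_ne_zero (A := A) (hli.comp e e.injective)
    refine hθ ?_
    rw [← Matrix.det_transpose]
    exact hZ (a ∘ e) θ.1
  obtain ⟨j⟩ : Nonempty (κ ↪ Fin r) := Function.Embedding.nonempty_of_card_le (by simpa using hcard)
  have hc : ∀ i, ∃ c : κ → F, ∑ x, c x • Z.row (a x) = Z.row i := fun i => by
    refine (Submodule.mem_span_range_iff_exists_fun F).1 ?_
    exact hspan ▸ Submodule.subset_span (Set.mem_range_self i)
  choose c hc using hc
  refine ⟨Matrix.of fun i => Function.extend j (c i) 0,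
    Matrix.of (Function.extend j (fun x => Z (a x)) 0), ?_⟩
  ext i l
  rw [Matrix.mul_apply, show Z i l = Z.row i l from rfl, ← hc i, Finset.sum_apply]
  refine Fintype.sum_of_injective j j.injective _ _ (fun k hk => ?_) fun x => ?_
  · simp [Function.extend_apply' _ _ _ (by simpa using hk)]
  · simp [j.injective.extend_apply]

theorem eval_pairing {p r q : ℕ} (U : Matrix (Fin p) (Fin r) F) (W : Matrix (Fin r) (Fin q) F)
    (f : MvPolynomial (Fin p × Fin q) F) :
    MvPolynomial.eval (Sum.elim (fun x => U x.1 x.2) (fun x => W x.1 x.2)) (pairingMap F r p q f) =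
      MvPolynomial.eval (fun x => (U * W) x.1 x.2) f := by
  have h : (MvPolynomial.aeval (Sum.elim (fun x => U x.1 x.2) (fun x => W x.1 x.2))).comp (pairingMap F r p q) =
      MvPolynomial.aeval (fun x => (U * W) x.1 x.2) := by
    refine MvPolynomial.algHom_ext fun x => ?_
    simp [pairingMap, Matrix.mul_apply]
  exact DFunLike.congr_fun h f

theorem ker_pairing [Infinite F] (p r q : ℕ) :
    RingHom.ker (pairingMap F r p q).toRingHom = CAlgX.minorIdeal (genMatrix F p q) (r + 1) := by
  refine le_antisymm (fun f hf => ?_) (minorIdeal_le_ker_pairing F)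
  have hf' : pairingMap F r p q f = 0 := hf
  have hvan : ∀ z : Fin p × Fin q → F, (∀ (ρ : Fin (r + 1) → Fin p) (γ : Fin (r + 1) → Fin q),
      ((Matrix.of fun i j => z (i, j)).submatrix ρ γ).det = 0) → MvPolynomial.eval z f = 0 := by
    intro z hz
    obtain ⟨U, W, hUW⟩ := exists_factor F _ hz
    have h := eval_pairing F U W f
    rw [hf', map_zero, ← hUW] at h
    exact h.symm
  by_cases hsmall : r < p ∧ r < q
  · have hdn : q < q + p := by omega
    rw [← cellIdeal_wDet F (by omega) (by omega) hsmall.2.le hsmall.1.le]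
    refine mem_cellIdeal_of_vanish F (by omega) hdn _ fun z hz => hvan z fun ρ γ => ?_
    have h := hz ((genMatrix F p q).submatrix ρ γ).det (by
      rw [cellIdeal_wDet F (by omega) (by omega) hsmall.2.le hsmall.1.le]
      exact Ideal.subset_span ⟨(ρ, γ), rfl⟩)
    rw [RingHom.map_det] at h
    rw [← h]
    refine congrArg Matrix.det (Matrix.ext fun i j => ?_)
    simp [genMatrix]
  · have : f = 0 := by
      refine MvPolynomial.funext fun z => ?_
      rw [map_zero]
      refine hvan z fun ρ γ => ?_
      rw [not_and_or, not_lt, not_lt] at hsmall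
      rcases hsmall with h | h
      · obtain ⟨a, b, hne, hab⟩ := Fintype.exists_ne_map_eq_of_card_lt ρ (by simpa using Nat.lt_succ_of_le h)
        exact Matrix.det_zero_of_row_eq hne (by funext c; simp [hab])
      · obtain ⟨a, b, hne, hab⟩ := Fintype.exists_ne_map_eq_of_card_lt γ (by simpa using Nat.lt_succ_of_le h)
        exact Matrix.det_zero_of_column_eq hne fun c => by simp [hab]
    rw [this]
    exact zero_mem _

end Groth.Agent.Grass54
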