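import Mathlib
import Groth.Agent.Grass54.Schubert

/-!
Weight-controlled expansions of monomials in standard monomials.
-/

set_option autoImplicit false
universe u

open MvPolynomial W4bk4grassmannian Finset

namespace Groth.Agent.Grass54

variable {d n : ℕ}

/-- The greatest index. -/
def topIdx (hdn : d < n) : Idx d n :=
  ⟨fun t => ⟨n - d + t.val, by have := t.isLt; omega⟩, fun a b h => by
    simp only [Fin.lt_def] at h ⊢
    omega⟩

theorem le_topIdx (hdn : d < n) (θ : Idx d n) : θ ≤ topIdx hdn := fun t => by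
  have hd : 0 < d := t.pos
  have h := idx_sub_val_mono θ (show t ≤ ⟨d - 1, by omega⟩ from Fin.le_def.2 (by have := t.isLt; simp only; omega))
  have := (θ.1 ⟨d - 1, by omega⟩).isLt
  simp only [topIdx, Fin.le_def] at h ⊢
  omega

theorem inIcc_bot_top (hdn : d < n) (c : Std d n) : InIcc (botIdx hdn) (topIdx hdn) c :=
  fun _ => ⟨botIdx_le hdn _, le_topIdx hdn _⟩

/-- The leading exponent of a monomial. -/
noncomputable def mexp (m : Multiset (Idx d n)) : (Fin n × Fin d) →₀ ℕ := (m.map fun θ => dexp θ.1).sum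

theorem mexp_map_univ {k : ℕ} (c : Fin k → Idx d n) : mexp (Multiset.map c Finset.univ.val) = cexp c := by
  simp only [mexp, cexp, Multiset.map_map]
  rfl

variable (F : Type u) [Field F]

theorem lead_mon (hdn : d < n) (m : Multiset (Idx d n)) :
    Lead F (patMap F (botIdx hdn) (topIdx hdn) (mon F m)) (mexp m) := by
  induction m using Multiset.induction_on with
  | empty => simpa [mon, mexp] using lead_one (d := d) (n := n) F
  | cons a m ih =>
    simp only [mon, mexp, Multiset.map_cons, Multiset.prod_cons, Multiset.sum_cons, map_mul] at ih ⊢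
    exact lead_mul F (lead_patMap F (botIdx_le hdn a) (le_topIdx hdn a)) ih

theorem exists_exp_W (hd : 0 < d) (hdn : d < n) (m : Multiset (Idx d n)) :
    ∃ a : Std d n →₀ F,
      mon F m - Finsupp.linearCombination F (fun c : Std d n => chainMon F c.2.1) a ∈
          plIdealTop (d := d) (n := n) F ∧
        (∀ c ∈ a.support, W (cexp c.2.1) < W (mexp m) ∨ cexp c.2.1 = mexp m) ∧
        ∀ c : Std d n, cexp c.2.1 = mexp m → a c = 1 := by
  classical
  obtain ⟨a, ha⟩ := exists_std_decomp F (mon F m)
  have hlead := lead_mon F hdn m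
  set P := patMap F (botIdx hdn) (topIdx hdn) (mon F m) with hP
  have hcoeff : ∀ e, P.coeff e = ∑ c ∈ a.support, a c *
      (patMap F (botIdx hdn) (topIdx hdn) (chainMon F c.2.1)).coeff e := by
    intro e
    have h := patMap_plIdealTop F (botIdx hdn) (topIdx hdn) ha
    rw [map_sub, sub_eq_zero] at h
    rw [hP, h, Finsupp.linearCombination_apply, Finsupp.sum, map_sum, coeff_sum]
    exact Finset.sum_congr rfl fun c _ => by rw [map_smul, coeff_smul, smul_eq_mul]
  have hmax : ∀ c₀ ∈ a.support, (∀ c ∈ a.support, W (cexp c.2.1) ≤ W (cexp c₀.2.1)) →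
      cexp c₀.2.1 = mexp m ∨ W (cexp c₀.2.1) < W (mexp m) := by
    intro c₀ hc₀ hle
    refine hlead.2 _ ?_
    rw [hcoeff, Finset.sum_eq_single c₀]
    · rw [(lead_chain F c₀.2.1 (inIcc_bot_top hdn c₀)).1, mul_one]
      exact Finsupp.mem_support_iff.1 hc₀
    · intro c hc hne
      by_contra h
      rcases (lead_chain F c.2.1 (inIcc_bot_top hdn c)).2 _ (right_ne_zero_of_mul h) with he | hlt
      · exact hne (std_ext hd he).symm
      · exact absurd (hle c hc) (not_le.2 hlt)
    · exact fun h => absurd hc₀ h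
  have hbound : ∀ c ∈ a.support, W (cexp c.2.1) ≤ W (mexp m) := by
    intro c hc
    obtain ⟨c₀, hc₀, hle⟩ := Finset.exists_max_image a.support (fun c => W (cexp c.2.1)) ⟨c, hc⟩
    refine (hle c hc).trans ?_
    rcases hmax c₀ hc₀ hle with he | hlt
    · rw [he]
    · exact hlt.le
  refine ⟨a, ha, fun c hc => ?_, fun c hc => ?_⟩
  · rcases (hbound c hc).lt_or_eq with hlt | he
    · exact Or.inl hlt
    · rcases hmax c hc (fun x hx => (hbound x hx).trans he.ge) with h | h
      · exact Or.inr h
      · exact Or.inl h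
  · have h := hcoeff (mexp m)
    rw [hlead.1, Finset.sum_eq_single c] at h
    · rw [← hc, (lead_chain F c.2.1 (inIcc_bot_top hdn c)).1, mul_one] at h
      exact h.symm
    · intro x hx hne
      by_contra h0
      rcases (lead_chain F x.2.1 (inIcc_bot_top hdn x)).2 _ (right_ne_zero_of_mul h0) with he | hlt
      · exact hne (std_ext hd (he.symm.trans hc.symm))
      · exact absurd (hbound x hx) (not_le.2 hlt)
    · intro hc'
      rw [Finsupp.notMem_support_iff.1 hc', zero_mul]

theorem exists_exp_stdSpan (k σ φ : ℕ) (f : PlRing F d n) (hf : f ∈ goalSpan (d := d) (n := n) F k σ φ) :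
    ∃ a : Std d n →₀ F,
      f - Finsupp.linearCombination F (fun c : Std d n => chainMon F c.2.1) a ∈ plIdealTop (d := d) (n := n) F ∧
        ∀ c ∈ a.support, c.1 = k ∧ φ ≤ pot (Multiset.map c.2.1 Finset.univ.val) := by
  classical
  obtain ⟨p, hp, q, hq, rfl⟩ := Submodule.mem_sup.1 hf
  have hle : stdSpan (d := d) (n := n) F k σ φ ≤ Submodule.span F ((fun c : Std d n => chainMon F c.2.1) ''
      {c | c.1 = k ∧ φ ≤ pot (Multiset.map c.2.1 Finset.univ.val)}) := by
    refine Submodule.span_mono ?_
    rintro _ ⟨c, hc, -, hpot, rfl⟩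
    exact ⟨⟨k, c, hc⟩, ⟨rfl, hpot⟩, rfl⟩
  obtain ⟨a, hsupp, rfl⟩ := (Finsupp.mem_span_image_iff_linearCombination F).1 (hle hq)
  exact ⟨a, by simpa using hp, fun c hc => hsupp hc⟩

end Groth.Agent.Grass54
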