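import Mathlib

/-!
The homogeneous localization at an element of positive degree and Nagata's criterion.
-/

set_option autoImplicit false
universe u v

open DirectSum HomogeneousLocalization

namespace Groth.Agent.Grass54

variable {K : Type u} [Field K] {R : Type v} [CommRing R] [IsDomain R] [Algebra K R]
  (𝒜 : ℕ → Submodule K R) [GradedAlgebra 𝒜]

theorem aeval_eq_zero_imp {e : ℕ} (he : 0 < e) {s : R} (hs : s ∈ 𝒜 e) (hs0 : s ≠ 0)
    (P : Polynomial (HomogeneousLocalization.Away 𝒜 s))
    (hP : Polynomial.aeval (algebraMap R (Localization.Away s) s) P = 0) : P = 0 := by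
  classical
  have hinj : Function.Injective (algebraMap R (Localization.Away s)) :=
    IsLocalization.injective (Localization.Away s) (powers_le_nonZeroDivisors_of_noZeroDivisors hs0)
  choose n a ha hmk using fun i => HomogeneousLocalization.Away.mk_surjective 𝒜 hs (P.coeff i)
  let N := ∑ i ∈ P.support, n i
  have hN : ∀ i ∈ P.support, n i ≤ N := fun i hi =>
    Finset.single_le_sum (fun j _ => Nat.zero_le (n j)) hi
  let φ := algebraMap R (Localization.Away s)
  have hval : ∀ i ∈ P.support, φ s ^ N * (P.coeff i).val = φ (a i * s ^ (N - n i)) := by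
    intro i hi
    rw [← hmk i, HomogeneousLocalization.Away.val_mk, Localization.mk_eq_mk',
      map_mul, map_pow]
    have hspec := IsLocalization.mk'_spec (Localization.Away s) (a i)
      (⟨s ^ n i, n i, rfl⟩ : Submonoid.powers s)
    change _ * φ (s ^ n i) = φ (a i) at hspec
    rw [← hspec, map_pow, ← pow_sub_mul_pow _ (hN i hi)]
    ring
  have hsum : φ (∑ i ∈ P.support, a i * s ^ (N - n i) * s ^ i) = 0 := by
    rw [map_sum, ← mul_zero (φ s ^ N), ← hP, Polynomial.aeval_def, Polynomial.eval₂_eq_sum,
      Polynomial.sum_def, Finset.mul_sum]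
    refine Finset.sum_congr rfl fun i hi => ?_
    rw [map_mul, ← hval i hi, map_pow, mul_assoc]
    rfl
  have h0 : ∑ i ∈ P.support, a i * s ^ (N - n i) * s ^ i = 0 := hinj (by rw [hsum, map_zero])
  have hdeg : ∀ i ∈ P.support, a i * s ^ (N - n i) * s ^ i ∈ 𝒜 ((N + i) * e) := by
    intro i hi
    have := SetLike.mul_mem_graded (SetLike.mul_mem_graded (ha i) (SetLike.pow_mem_graded (N - n i) hs))
      (SetLike.pow_mem_graded i hs)
    have heq : n i • e + (N - n i) • e + i • e = (N + i) * e := by
      simp only [smul_eq_mul, ← add_mul, Nat.add_sub_cancel' (hN i hi)]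
    rwa [heq] at this
  by_contra hne
  obtain ⟨i, hi⟩ := Polynomial.support_nonempty.2 hne
  have hcomp := congrArg (GradedRing.proj 𝒜 ((N + i) * e)) h0
  rw [map_sum, map_zero, Finset.sum_eq_single_of_mem i hi] at hcomp
  · rw [GradedRing.proj_apply, decompose_of_mem_same 𝒜 (hdeg i hi)] at hcomp
    have ha0 : a i = 0 := by simpa [mul_eq_zero, hs0] using hcomp
    refine Polynomial.mem_support_iff.1 hi ?_
    rw [← hmk i]
    apply HomogeneousLocalization.val_injective
    rw [HomogeneousLocalization.Away.val_mk, HomogeneousLocalization.val_zero, ha0, Localization.mk_zero]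
  · intro j hj hji
    rw [GradedRing.proj_apply, decompose_of_mem_ne 𝒜 (hdeg j hj)]
    intro h
    exact hji (Nat.add_left_cancel (Nat.eq_of_mul_eq_mul_right he h))

theorem transcendental_away {e : ℕ} (he : 0 < e) {s : R} (hs : s ∈ 𝒜 e) :
    Transcendental (HomogeneousLocalization.Away 𝒜 s) (algebraMap R (Localization.Away s) s) := by
  rw [transcendental_iff]
  intro P hP
  rcases eq_or_ne s 0 with rfl | hs0
  · have : Subsingleton (HomogeneousLocalization.Away 𝒜 (0 : R)) :=
      HomogeneousLocalization.subsingleton (𝒜 := 𝒜) (x := Submonoid.powers (0 : R)) ⟨1, pow_one _⟩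
    exact Subsingleton.elim _ _
  · exact aeval_eq_zero_imp 𝒜 he hs hs0 P hP

theorem ufd_of_ufd_away [IsNoetherianRing R] {s : R} (hs : s ∈ 𝒜 1) (hp : Prime s)
    (h : UniqueFactorizationMonoid (HomogeneousLocalization.Away 𝒜 s)) :
    UniqueFactorizationMonoid R := by
  classical
  set A := HomogeneousLocalization.Away 𝒜 s
  set L := Localization.Away s
  have : IsDomain L := IsLocalization.isDomain_localization
    (powers_le_nonZeroDivisors_of_noZeroDivisors hp.ne_zero)
  have : IsDomain A := Function.Injective.isDomain (algebraMap A L)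
    (HomogeneousLocalization.val_injective _)
  let φ : Polynomial A →+* L := (Polynomial.aeval (algebraMap R L s)).toRingHom
  letI : Algebra (Polynomial A) L := φ.toAlgebra
  have hφinj : Function.Injective φ :=
    (injective_iff_map_eq_zero φ).2 fun P hP => aeval_eq_zero_imp 𝒜 one_pos hs hp.ne_zero P hP
  have hunit : IsUnit (algebraMap R L s) :=
    IsLocalization.map_units L (⟨s, 1, pow_one s⟩ : Submonoid.powers s)
  have hX : φ Polynomial.X = algebraMap R L s := Polynomial.aeval_X _
  have hlift : ∀ r : R, ∃ P : Polynomial A, φ P = algebraMap R L r := by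
    intro r
    have hterm : ∀ d, ∃ P : Polynomial A, φ P = algebraMap R L (decompose 𝒜 r d : R) := by
      intro d
      have hm : (decompose 𝒜 r d : R) ∈ 𝒜 (d • 1) := by simp
      refine ⟨Polynomial.C (HomogeneousLocalization.Away.mk 𝒜 hs d _ hm) * Polynomial.X ^ d, ?_⟩
      rw [map_mul, map_pow, hX]
      change Polynomial.aeval _ (Polynomial.C _) * _ = _
      rw [Polynomial.aeval_C, HomogeneousLocalization.algebraMap_apply,
        HomogeneousLocalization.Away.val_mk, Localization.mk_eq_mk', ← map_pow]
      exact IsLocalization.mk'_spec L _ (⟨s ^ d, d, rfl⟩ : Submonoid.powers s)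
    choose P hP using hterm
    refine ⟨∑ d ∈ (decompose 𝒜 r).support, P d, ?_⟩
    rw [map_sum]
    simp only [hP]
    rw [← map_sum, DirectSum.sum_support_decompose]
  have : IsLocalization (Submonoid.powers (Polynomial.X : Polynomial A)) L := by
    refine ⟨⟨?_, ?_, ?_⟩⟩
    · rintro ⟨_, n, rfl⟩
      change IsUnit (φ (Polynomial.X ^ n))
      rw [map_pow, hX]
      exact hunit.pow n
    · intro z
      obtain ⟨⟨r, ⟨_, n, rfl⟩⟩, hr⟩ := IsLocalization.surj (Submonoid.powers s) z
      obtain ⟨P, hP⟩ := hlift r
      refine ⟨⟨P, ⟨Polynomial.X ^ n, n, rfl⟩⟩, ?_⟩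
      change z * φ (Polynomial.X ^ n) = φ P
      rw [map_pow, hX, hP, ← map_pow]
      exact hr
    · intro x y hxy
      exact ⟨1, by rw [hφinj hxy]⟩
  have : UniqueFactorizationMonoid L :=
    UniqueFactorizationMonoid.of_isLocalization (Submonoid.powers (Polynomial.X : Polynomial A)) L
  exact (UniqueFactorizationMonoid.iff_localizationAway_of_prime hp).2 this

end Groth.Agent.Grass54
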