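import Mathlib
import Groth.Agent.Grass54.Expansion

/-!
Degenerations of Schubert cones defined by weights on the Plücker coordinates.
-/

set_option autoImplicit false
universe u

open W4bk4grassmannian Finset
open MvPolynomial (C X)

namespace Groth.Agent.Grass54

variable {d n : ℕ} (F : Type u) [Field F] (w : Idx d n) (g : Idx d n → ℕ)

/-- The coordinate ring of `X(w)`. -/
def CoordRing : Type u := PlRing F d n ⧸ schubertVanishing F d n w

noncomputable instance : CommRing (CoordRing F w) :=
  inferInstanceAs (CommRing (PlRing F d n ⧸ schubertVanishing F d n w))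

noncomputable instance : Algebra F (CoordRing F w) :=
  inferInstanceAs (Algebra F (PlRing F d n ⧸ schubertVanishing F d n w))

/-- The projection. -/
noncomputable def pr : PlRing F d n →ₐ[F] CoordRing F w := Ideal.Quotient.mkₐ F _

theorem pr_eq_zero {f : PlRing F d n} : pr F w f = 0 ↔ f ∈ schubertVanishing F d n w :=
  Ideal.Quotient.eq_zero_iff_mem

theorem pr_eq {f g' : PlRing F d n} : pr F w f = pr F w g' ↔ f - g' ∈ schubertVanishing F d n w :=
  Ideal.Quotient.eq

theorem pr_surjective : Function.Surjective (pr F w) := Ideal.Quotient.mk_surjective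

/-- Standard monomials on `X(w)`. -/
abbrev StdBelow : Type := {c : Std d n // ∀ k, c.2.1 k ≤ w}

attribute [local instance] Polynomial.algebra

/-- The weight of a multiset. -/
def gm (m : Multiset (Idx d n)) : ℕ := (m.map g).sum

/-- The weight of a tuple. -/
def gs {k : ℕ} (c : Fin k → Idx d n) : ℕ := ∑ i, g (c i)

theorem gm_map_univ {k : ℕ} (c : Fin k → Idx d n) : gm g (Multiset.map c Finset.univ.val) = gs g c := by
  simp only [gm, gs, Multiset.map_map]
  rfl

/-- The generator attached to an index. -/
noncomputable def gen (θ : Idx d n) : Polynomial ((CoordRing F w)) :=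
  Polynomial.monomial (g θ) (pr F w (X θ))

/-- The family. -/
noncomputable def family : Subalgebra (Polynomial F) (Polynomial ((CoordRing F w))) :=
  Algebra.adjoin (Polynomial F) (Set.range (gen F w g))

/-- The generator in the family. -/
noncomputable def genR (θ : Idx d n) : family F w g :=
  ⟨gen F w g θ, Algebra.subset_adjoin ⟨θ, rfl⟩⟩

/-- The monomial of a multiset in the family. -/
noncomputable def monR (m : Multiset (Idx d n)) : family F w g := (m.map (genR F w g)).prod

/-- The standard basis element. -/
noncomputable def eR (c : Std d n) : family F w g := monR F w g (Multiset.map c.2.1 Finset.univ.val)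

theorem coe_monR (m : Multiset (Idx d n)) :
    (monR F w g m : Polynomial ((CoordRing F w))) =
      Polynomial.monomial (gm g m) (pr F w (mon F m)) := by
  induction m using Multiset.induction_on with
  | empty => simp [monR, gm, mon]
  | cons a m ih =>
    simp only [monR, gm, mon, Multiset.map_cons, Multiset.prod_cons, Multiset.sum_cons, map_mul] at ih ⊢
    rw [MulMemClass.coe_mul, ih, ← Polynomial.monomial_mul_monomial]
    rfl

theorem coe_eR (c : Std d n) :
    (eR F w g c : Polynomial ((CoordRing F w))) =
      Polynomial.monomial (gs g c.2.1) (pr F w (chainMon F c.2.1)) := by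
  rw [eR, coe_monR, gm_map_univ, mon_map_univ]

theorem algebraMap_mul_monomial (q : Polynomial F) (i : ℕ) (x : (CoordRing F w)) :
    algebraMap (Polynomial F) (Polynomial ((CoordRing F w))) q * Polynomial.monomial i x =
      q.sum fun j a => Polynomial.monomial (j + i) (algebraMap F ((CoordRing F w)) a * x) := by
  rw [Polynomial.algebraMap_def, Polynomial.coe_mapRingHom, Polynomial.map, Polynomial.eval₂_eq_sum,
    Polynomial.sum, Polynomial.sum, Finset.sum_mul]
  refine Finset.sum_congr rfl fun j _ => ?_
  rw [RingHom.comp_apply, Polynomial.X_pow_eq_monomial, Polynomial.C_mul_monomial, mul_one,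
    Polynomial.monomial_mul_monomial]

theorem eR_eq_zero [Infinite F] {c : Std d n} (h : ¬ ∀ k, c.2.1 k ≤ w) : eR F w g c = 0 := by
  refine Subtype.ext ?_
  rw [coe_eR, (pr_eq_zero F w).2 (chain_mem_schubertVanishing F w c h), map_zero]
  rfl

section Hyp

variable [Infinite F]

theorem monR_eq {m : Multiset (Idx d n)} {a : Std d n →₀ F}
    (hdec : mon F m - Finsupp.linearCombination F (fun c : Std d n => chainMon F c.2.1) a ∈
      plIdealTop (d := d) (n := n) F)
    (hle : ∀ c ∈ a.support, gs g c.2.1 ≤ gm g m) :
    monR F w g m = ∑ c ∈ a.support,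
      algebraMap (Polynomial F) (family F w g) (Polynomial.monomial (gm g m - gs g c.2.1) (a c)) * eR F w g c := by
  refine Subtype.ext ?_
  rw [coe_monR, AddSubmonoidClass.coe_finset_sum]
  have h : pr F w (mon F m) =
      ∑ c ∈ a.support, algebraMap F ((CoordRing F w)) (a c) * pr F w (chainMon F c.2.1) := by
    rw [(pr_eq F w).2 (plIdealTop_le_schubertVanishing F w hdec), Finsupp.linearCombination_apply,
      Finsupp.sum, map_sum]
    exact Finset.sum_congr rfl fun c _ => by rw [map_smul, Algebra.smul_def]
  rw [h, map_sum]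
  refine Finset.sum_congr rfl fun c hc => ?_
  rw [MulMemClass.coe_mul, coe_eR, Subalgebra.coe_algebraMap, algebraMap_mul_monomial,
    Polynomial.sum_monomial_index _ _ (by simp), Nat.sub_add_cancel (hle c hc)]

theorem linearIndependent_mk_chain (hd : 0 < d) (hdn : d < n) :
    LinearIndependent F (fun c : StdBelow w => pr F w (chainMon F c.1.2.1)) := by
  classical
  rw [linearIndependent_iff]
  intro l hl
  have hJ : Finsupp.linearCombination F (fun c : Std d n => chainMon F c.2.1) (Finsupp.mapDomain Subtype.val l) ∈
      schubertVanishing F d n w := by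
    rw [Finsupp.linearCombination_mapDomain, ← pr_eq_zero F w, ← hl]
    exact Finsupp.apply_linearCombination F (pr F w).toLinearMap _ l
  ext c
  have h := coeff_eq_zero_of_mem F hd hdn w _ hJ c.1 c.2
  rwa [Finsupp.mapDomain_apply Subtype.val_injective] at h

theorem linearIndependent_eR (hd : 0 < d) (hdn : d < n) :
    LinearIndependent (Polynomial F) (fun c : StdBelow w => eR F w g c.1) := by
  classical
  rw [linearIndependent_iff']
  intro s q hq c hc
  ext j
  have h := congrArg (fun x : family F w g => (x : Polynomial ((CoordRing F w))).coeff) hq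
  have key : ∀ i : ℕ, ∑ x ∈ s, (if gs g x.1.2.1 ≤ i then (q x).coeff (i - gs g x.1.2.1) else 0) •
      pr F w (chainMon F x.1.2.1) = 0 := by
    intro i
    have hi := congrFun h i
    simp only [AddSubmonoidClass.coe_finset_sum, ZeroMemClass.coe_zero, Polynomial.finset_sum_coeff,
      Polynomial.coeff_zero] at hi
    rw [← hi]
    refine Finset.sum_congr rfl fun x _ => ?_
    rw [Algebra.smul_def, Algebra.smul_def, MulMemClass.coe_mul, Subalgebra.coe_algebraMap, coe_eR,
      ← Polynomial.C_mul_X_pow_eq_monomial, ← mul_assoc, mul_comm _ (Polynomial.C _), mul_assoc,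
      Polynomial.coeff_C_mul, Polynomial.coeff_mul_X_pow', mul_comm, Polynomial.algebraMap_def,
      Polynomial.coe_mapRingHom, Polynomial.coeff_map]
    split_ifs <;> simp
  have := linearIndependent_iff'.1 (linearIndependent_mk_chain F w hd hdn) s _ (key (j + gs g c.1.2.1)) c hc
  simpa using this

end Hyp

/-- Every monomial expands in weights not exceeding its own. -/
def HasExp : Prop :=
  ∀ m : Multiset (Idx d n), ∃ a : Std d n →₀ F,
    mon F m - Finsupp.linearCombination F (fun c : Std d n => chainMon F c.2.1) a ∈
        plIdealTop (d := d) (n := n) F ∧ ∀ c ∈ a.support, gs g c.2.1 ≤ gm g m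

variable {g}
variable [Infinite F]

theorem span_eR (hexp : HasExp F g) :
    Submodule.span (Polynomial F) (Set.range fun c : StdBelow w => eR F w g c.1) = ⊤ := by
  set M := Submodule.span (Polynomial F) (Set.range fun c : StdBelow w => eR F w g c.1) with hM
  have hmon : ∀ m, monR F w g m ∈ M := by
    intro m
    obtain ⟨a, hdec, hle⟩ := hexp m
    rw [monR_eq F w g hdec hle]
    refine M.sum_mem fun c _ => ?_
    rw [← Algebra.smul_def]
    refine M.smul_mem _ ?_
    by_cases hc : ∀ k, c.2.1 k ≤ w
    · exact Submodule.subset_span ⟨⟨c, hc⟩, rfl⟩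
    · rw [eR_eq_zero F w g hc]; exact M.zero_mem
  rw [eq_top_iff]
  rintro ⟨x, hx⟩ -
  have hx' : x ∈ M.map (family F w g).val.toLinearMap := by
    have hsp : x ∈ Submodule.span (Polynomial F) ↑(Submonoid.closure (Set.range (gen F w g))) := by
      rw [← Algebra.adjoin_eq_span]; exact hx
    refine Submodule.span_le.2 ?_ hsp
    intro y hy
    obtain ⟨l, hl, rfl⟩ := Submonoid.exists_multiset_of_mem_closure (SetLike.mem_coe.1 hy)
    obtain ⟨m, rfl⟩ : ∃ m : Multiset (Idx d n), m.map (gen F w g) = l := by
      clear hy
      induction l using Multiset.induction_on with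
      | empty => exact ⟨0, rfl⟩
      | cons a l ih =>
        obtain ⟨m, rfl⟩ := ih fun y hy => hl y (Multiset.mem_cons_of_mem hy)
        obtain ⟨θ, rfl⟩ := hl a (Multiset.mem_cons_self a _)
        exact ⟨θ ::ₘ m, Multiset.map_cons _ _ _⟩
    refine ⟨monR F w g m, hmon m, ?_⟩
    rw [AlgHom.toLinearMap_apply, monR, map_multiset_prod, Multiset.map_map]
    rfl
  obtain ⟨y, hy, hyx⟩ := hx'
  have : y = ⟨x, hx⟩ := Subtype.ext hyx
  rwa [← this]

/-- The standard basis of the family. -/
noncomputable def familyBasis (hd : 0 < d) (hdn : d < n) (hexp : HasExp F g) :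
    Module.Basis (StdBelow w) (Polynomial F) (family F w g) :=
  Module.Basis.mk (linearIndependent_eR F w g hd hdn) (span_eR F w hexp).ge

/-- Evaluation of the parameter. -/
noncomputable def evalFibre (g : Idx d n → ℕ) (c : F) : family F w g →ₐ[F] (CoordRing F w) :=
  ((Polynomial.aeval (algebraMap F ((CoordRing F w)) c) : Polynomial ((CoordRing F w)) →ₐ[(CoordRing F w)] (CoordRing F w)).restrictScalars F).comp
    ((family F w g).val.restrictScalars F)

theorem evalFibre_apply (g : Idx d n → ℕ) (c : F) (x : family F w g) :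
    evalFibre F w g c x = (x : Polynomial ((CoordRing F w))).eval (algebraMap F ((CoordRing F w)) c) :=
  Polynomial.aeval_def _ _

theorem evalFibre_algebraMap (g : Idx d n → ℕ) (c : F) (q : Polynomial F) :
    evalFibre F w g c (algebraMap (Polynomial F) (family F w g) q) = algebraMap F ((CoordRing F w)) (q.eval c) := by
  rw [evalFibre_apply, Subalgebra.coe_algebraMap, Polynomial.algebraMap_def, Polynomial.coe_mapRingHom,
    Polynomial.eval_map, Polynomial.eval₂_at_apply]

theorem evalFibre_eR (g : Idx d n → ℕ) (c : F) (x : Std d n) :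
    evalFibre F w g c (eR F w g x) = c ^ gs g x.2.1 • pr F w (chainMon F x.2.1) := by
  rw [evalFibre_apply, coe_eR, Polynomial.eval_monomial, Algebra.smul_def, map_pow, mul_comm]

theorem ker_evalFibre (hd : 0 < d) (hdn : d < n) (hexp : HasExp F g) {c : F} (hc : c ≠ 0) :
    RingHom.ker (evalFibre F w g c) =
      Ideal.span {algebraMap (Polynomial F) (family F w g) (Polynomial.X - Polynomial.C c)} := by
  classical
  refine le_antisymm (fun r hr => ?_) ?_
  · have hrep := (familyBasis F w hd hdn hexp).linearCombination_repr r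
    set l := (familyBasis F w hd hdn hexp).repr r
    simp only [familyBasis, Module.Basis.coe_mk, Finsupp.linearCombination_apply, Finsupp.sum] at hrep
    rw [← hrep] at hr ⊢
    rw [RingHom.mem_ker, map_sum] at hr
    have h0 : ∑ x ∈ l.support, ((l x).eval c * c ^ gs g x.1.2.1) •
        pr F w (chainMon F x.1.2.1) = 0 := by
      rw [← hr]
      refine Finset.sum_congr rfl fun x _ => ?_
      rw [Algebra.smul_def (l x), map_mul, evalFibre_algebraMap, evalFibre_eR, mul_smul, ← Algebra.smul_def]
    refine Ideal.sum_mem _ fun x hx => ?_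
    have hx0 := linearIndependent_iff'.1 (linearIndependent_mk_chain F w hd hdn) l.support _ h0 x hx
    have hdvd : Polynomial.X - Polynomial.C c ∣ l x :=
      Polynomial.dvd_iff_isRoot.2 ((mul_eq_zero.1 hx0).resolve_right (pow_ne_zero _ hc))
    obtain ⟨q, hq⟩ := hdvd
    rw [hq, Algebra.smul_def, map_mul, mul_assoc]
    exact Ideal.mul_mem_right _ _ (Ideal.subset_span rfl)
  · rw [Ideal.span_le, Set.singleton_subset_iff, SetLike.mem_coe, RingHom.mem_ker, evalFibre_algebraMap]
    simp

theorem evalFibre_surjective (g : Idx d n → ℕ) {c : F} (hc : c ≠ 0) :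
    Function.Surjective (evalFibre F w g c) := by
  intro y
  obtain ⟨f, rfl⟩ := pr_surjective F w y
  have h : (evalFibre F w g c).comp (MvPolynomial.aeval fun θ : Idx d n =>
      algebraMap F (family F w g) (c ^ g θ)⁻¹ * genR F w g θ) = pr F w := by
    refine MvPolynomial.algHom_ext fun θ => ?_
    rw [AlgHom.comp_apply, MvPolynomial.aeval_X, map_mul, AlgHom.commutes, evalFibre_apply,
      show (genR F w g θ : Polynomial (CoordRing F w)) = Polynomial.monomial (g θ) (pr F w (X θ)) from rfl,
      Polynomial.eval_monomial, mul_comm (pr F w (X θ)), ← mul_assoc, ← map_pow, ← map_mul,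
      inv_mul_cancel₀ (pow_ne_zero _ hc), map_one, one_mul]
  exact ⟨_, DFunLike.congr_fun h f⟩

/-- Fibres away from zero. -/
theorem nonempty_fibre (hd : 0 < d) (hdn : d < n) (hexp : HasExp F g) {c : F} (hc : c ≠ 0) :
    Nonempty ((family F w g ⧸ Ideal.span {algebraMap (Polynomial F) (family F w g) (Polynomial.X - Polynomial.C c)})
      ≃ₐ[F] (CoordRing F w)) :=
  ⟨(Ideal.quotientEquivAlgOfEq F (ker_evalFibre F w hd hdn hexp hc).symm).trans
    (Ideal.quotientKerAlgEquivOfSurjective (evalFibre_surjective F w g hc))⟩

/-- The monomial of a multiset in the variables below `w`. -/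
noncomputable def monB (m : Multiset (Below w)) : MvPolynomial (Below w) F := (m.map X).prod

/-- The map to the special fibre. -/
noncomputable def fibreZero (g : Idx d n → ℕ) : MvPolynomial (Below w) F →ₐ[F]
    family F w g ⧸ Ideal.span {algebraMap (Polynomial F) (family F w g) Polynomial.X} :=
  MvPolynomial.aeval fun θ => Ideal.Quotient.mk _ (genR F w g θ.1)

theorem fibreZero_monB (g : Idx d n → ℕ) (m : Multiset (Below w)) :
    fibreZero F w g (monB F w m) = Ideal.Quotient.mk _ (monR F w g (m.map Subtype.val)) := by
  simp only [monB, monR, map_multiset_prod, Multiset.map_map]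
  exact congrArg Multiset.prod (Multiset.map_congr rfl fun θ _ => MvPolynomial.aeval_X _ _)

theorem algebraMap_mem_span_of_coeff_zero (g : Idx d n → ℕ) {q : Polynomial F} (hq : q.coeff 0 = 0) :
    algebraMap (Polynomial F) (family F w g) q ∈
      Ideal.span {algebraMap (Polynomial F) (family F w g) Polynomial.X} := by
  obtain ⟨q', rfl⟩ := Polynomial.X_dvd_iff.2 hq
  rw [map_mul]
  exact Ideal.mul_mem_right _ _ (Ideal.subset_span rfl)

theorem monR_sub_monR_mem {m m' : Multiset (Idx d n)} (hg : gm g m' = gm g m) {a : Std d n →₀ F}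
    (hdec : mon F m - mon F m' - Finsupp.linearCombination F (fun c : Std d n => chainMon F c.2.1) a ∈
      plIdealTop (d := d) (n := n) F)
    (hlt : ∀ c ∈ a.support, gs g c.2.1 < gm g m) :
    monR F w g m - monR F w g m' ∈ Ideal.span {algebraMap (Polynomial F) (family F w g) Polynomial.X} := by
  have h : monR F w g m - monR F w g m' = ∑ c ∈ a.support,
      algebraMap (Polynomial F) (family F w g) (Polynomial.monomial (gm g m - gs g c.2.1) (a c)) * eR F w g c := by
    refine Subtype.ext ?_
    rw [AddSubgroupClass.coe_sub, coe_monR, coe_monR, hg, ← map_sub, AddSubmonoidClass.coe_finset_sum,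
      ← map_sub]
    have h : pr F w (mon F m - mon F m') =
        ∑ c ∈ a.support, algebraMap F ((CoordRing F w)) (a c) * pr F w (chainMon F c.2.1) := by
      rw [(pr_eq F w).2 (plIdealTop_le_schubertVanishing F w hdec), Finsupp.linearCombination_apply,
        Finsupp.sum, map_sum]
      exact Finset.sum_congr rfl fun c _ => by rw [map_smul, Algebra.smul_def]
    rw [h, map_sum]
    refine Finset.sum_congr rfl fun c hc => ?_
    rw [MulMemClass.coe_mul, coe_eR, Subalgebra.coe_algebraMap, algebraMap_mul_monomial,
      Polynomial.sum_monomial_index _ _ (by simp), Nat.sub_add_cancel (hlt c hc).le]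
  rw [h]
  refine Ideal.sum_mem _ fun c hc => Ideal.mul_mem_right _ _ (algebraMap_mem_span_of_coeff_zero F w g ?_)
  rw [Polynomial.coeff_monomial, if_neg]
  have := hlt c hc
  omega

theorem monR_mem {m : Multiset (Idx d n)} {a : Std d n →₀ F}
    (hdec : mon F m - Finsupp.linearCombination F (fun c : Std d n => chainMon F c.2.1) a ∈
      plIdealTop (d := d) (n := n) F)
    (hlt : ∀ c ∈ a.support, gs g c.2.1 < gm g m) :
    monR F w g m ∈ Ideal.span {algebraMap (Polynomial F) (family F w g) Polynomial.X} := by
  rw [monR_eq F w g hdec fun c hc => (hlt c hc).le]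
  refine Ideal.sum_mem _ fun c hc => Ideal.mul_mem_right _ _ (algebraMap_mem_span_of_coeff_zero F w g ?_)
  rw [Polynomial.coeff_monomial, if_neg]
  have := hlt c hc
  omega

/-- A standard monomial in the variables below `w`. -/
noncomputable def chainBelow (c : StdBelow w) : MvPolynomial (Below w) F := ∏ k, X (⟨c.1.2.1 k, c.2 k⟩ : Below w)

theorem fibreZero_chainBelow (g : Idx d n → ℕ) (c : StdBelow w) :
    fibreZero F w g (chainBelow F w c) = Ideal.Quotient.mk _ (eR F w g c.1) := by
  simp only [chainBelow, map_prod, fibreZero, MvPolynomial.aeval_X, eR, monR, Multiset.map_map]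
  rw [← map_prod]
  rfl

theorem algebraMap_mk (g : Idx d n → ℕ) (q : Polynomial F) :
    Ideal.Quotient.mk (Ideal.span {algebraMap (Polynomial F) (family F w g) Polynomial.X})
        (algebraMap (Polynomial F) (family F w g) q) =
      algebraMap F _ (q.coeff 0) := by
  have h := algebraMap_mem_span_of_coeff_zero F w g (q := q - Polynomial.C (q.coeff 0)) (by simp)
  rw [← Ideal.Quotient.eq_zero_iff_mem, map_sub, map_sub, sub_eq_zero] at h
  rw [h, Polynomial.C_eq_algebraMap, ← IsScalarTower.algebraMap_apply]
  rfl

/-- The special fibre. -/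
theorem nonempty_fibreZero (hd : 0 < d) (hdn : d < n) (hexp : HasExp F g)
    (𝔞 : Ideal (MvPolynomial (Below w) F)) (hker : ∀ f ∈ 𝔞, fibreZero F w g f = 0)
    (hspan : ∀ f, ∃ l : StdBelow w →₀ F, f - Finsupp.linearCombination F (chainBelow F w) l ∈ 𝔞) :
    Nonempty ((family F w g ⧸ Ideal.span {algebraMap (Polynomial F) (family F w g) Polynomial.X}) ≃ₐ[F]
      (MvPolynomial (Below w) F ⧸ 𝔞)) := by
  classical
  have hsurj : Function.Surjective (fibreZero F w g) := by
    intro y
    obtain ⟨r, rfl⟩ := Ideal.Quotient.mk_surjective y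
    have hr := (familyBasis F w hd hdn hexp).linearCombination_repr r
    set l := (familyBasis F w hd hdn hexp).repr r
    simp only [familyBasis, Module.Basis.coe_mk, Finsupp.linearCombination_apply, Finsupp.sum] at hr
    refine ⟨∑ x ∈ l.support, (l x).coeff 0 • chainBelow F w x, ?_⟩
    rw [← hr, map_sum, map_sum]
    refine Finset.sum_congr rfl fun x _ => ?_
    rw [map_smul, fibreZero_chainBelow, Algebra.smul_def (l x), map_mul, algebraMap_mk, ← Algebra.smul_def]
  have hkereq : RingHom.ker (fibreZero F w g) = 𝔞 := by
    refine le_antisymm (fun f hf => ?_) fun f hf => hker f hf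
    obtain ⟨l, hl⟩ := hspan f
    have h0 : fibreZero F w g (Finsupp.linearCombination F (chainBelow F w) l) = 0 := by
      have := hker _ hl
      rw [map_sub, show fibreZero F w g f = 0 from hf, zero_sub, neg_eq_zero] at this
      exact this
    rw [Finsupp.linearCombination_apply, Finsupp.sum, map_sum] at h0
    have h1 : Ideal.Quotient.mk (Ideal.span {algebraMap (Polynomial F) (family F w g) Polynomial.X})
        (∑ x ∈ l.support, Polynomial.C (l x) • eR F w g x.1) = 0 := by
      rw [← h0, map_sum]
      refine Finset.sum_congr rfl fun x _ => ?_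
      rw [map_smul (fibreZero F w g), fibreZero_chainBelow, Algebra.smul_def (Polynomial.C (l x)), map_mul, algebraMap_mk, Polynomial.coeff_C_zero,
        ← Algebra.smul_def]
    obtain ⟨r, hr⟩ := Ideal.mem_span_singleton'.1 (Ideal.Quotient.eq_zero_iff_mem.1 h1)
    have hzero : ∀ x ∈ l.support, l x = 0 := by
      intro x hx
      have hb : ∀ y : StdBelow w, eR F w g y.1 = familyBasis F w hd hdn hexp y := fun y =>
        (Module.Basis.mk_apply (linearIndependent_eR F w g hd hdn) (span_eR F w hexp).ge y).symm
      have h2 := congrArg (fun z => (familyBasis F w hd hdn hexp).repr z x) hr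
      rw [mul_comm r, ← Algebra.smul_def] at h2
      simp only [hb, map_sum, map_smul, Module.Basis.repr_self, Finsupp.smul_apply, Finsupp.coe_finsetSum,
        Finset.sum_apply] at h2
      rw [Finset.sum_eq_single x (fun y _ hne => by rw [Finsupp.single_eq_of_ne hne.symm, smul_zero])
        (fun h => absurd hx h), Finsupp.single_eq_same, smul_eq_mul, smul_eq_mul, mul_one] at h2
      have h3 := congrArg (fun p : Polynomial F => p.coeff 0) h2
      simpa using h3.symm
    have hl0 : l = 0 := Finsupp.support_eq_empty.1 (Finset.eq_empty_of_forall_notMem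
      fun x hx => Finsupp.mem_support_iff.1 hx (hzero x hx))
    rw [hl0, map_zero, sub_zero] at hl
    exact hl
  exact ⟨((Ideal.quotientEquivAlgOfEq F hkereq.symm).trans
    (Ideal.quotientKerAlgEquivOfSurjective hsurj)).symm⟩

/-- The degeneration. -/
theorem exists_degeneration (hd : 0 < d) (hdn : d < n) (hexp : HasExp F g)
    (𝔞 : Ideal (MvPolynomial (Below w) F)) (hker : ∀ f ∈ 𝔞, fibreZero F w g f = 0)
    (hspan : ∀ f, ∃ l : StdBelow w →₀ F, f - Finsupp.linearCombination F (chainBelow F w) l ∈ 𝔞) :
    ∃ (R : Type u) (_ : CommRing R) (_ : Algebra F R) (_ : Algebra (Polynomial F) R)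
      (_ : IsScalarTower F (Polynomial F) R),
      Module.Free (Polynomial F) R ∧
      Nonempty ((R ⧸ Ideal.span {algebraMap (Polynomial F) R Polynomial.X}) ≃ₐ[F]
        (MvPolynomial (Below w) F ⧸ 𝔞)) ∧
      ∀ c : F, c ≠ 0 →
        Nonempty ((R ⧸ Ideal.span {algebraMap (Polynomial F) R (Polynomial.X - Polynomial.C c)}) ≃ₐ[F]
          (PlRing F d n ⧸ schubertVanishing F d n w)) :=
  ⟨family F w g, inferInstance, inferInstance, inferInstance, inferInstance,
    Module.Free.of_basis (familyBasis F w hd hdn hexp), nonempty_fibreZero F w hd hdn hexp 𝔞 hker hspan,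
    fun _ hc => nonempty_fibre F w hd hdn hexp hc⟩

end Groth.Agent.Grass54
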