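import Mathlib
import Groth.Agent.Grass54.Degeneration
import Groth.Agent.Grass54.SkewPair

/-!
The Stanley–Reisner and Hibi degenerations.
-/

set_option autoImplicit false
universe u

open W4bk4grassmannian Finset
open MvPolynomial (C X)

namespace Groth.Agent.Grass54

variable {d n : ℕ} (F : Type u) [Field F] (w : Idx d n)

theorem exists_chainBelow (m : Multiset (Below w)) (h : IsChainM (m.map Subtype.val)) :
    ∃ c : StdBelow w, chainBelow F w c = monB F w m := by
  obtain ⟨c, hc, hcm⟩ := exists_antitone_of_chain _ h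
  have hle : ∀ k, c k ≤ w := fun k => by
    have hk : c k ∈ m.map Subtype.val := by rw [← hcm]; exact Multiset.mem_map_of_mem _ (Finset.mem_univ_val k)
    obtain ⟨θ, -, hθ⟩ := Multiset.mem_map.1 hk
    exact hθ ▸ θ.2
  refine ⟨⟨⟨_, c, hc⟩, hle⟩, ?_⟩
  have hm : Multiset.map (fun k => (⟨c k, hle k⟩ : Below w)) Finset.univ.val = m := by
    refine Multiset.map_injective Subtype.val_injective ?_
    rw [Multiset.map_map]
    exact hcm
  refine Eq.trans ?_ (congrArg (monB F w) hm)
  rw [monB, Multiset.map_map]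
  rfl

theorem exists_monB_eq_monomial (e : Below w →₀ ℕ) :
    ∃ m : Multiset (Below w), monB F w m = MvPolynomial.monomial e 1 := by
  refine ⟨Finsupp.toMultiset e, ?_⟩
  rw [monB, Finsupp.toMultiset_map, Finsupp.prod_toMultiset, Finsupp.prod_mapDomain_index (fun _ => pow_zero _)
    (fun _ _ _ => pow_add _ _ _), MvPolynomial.monomial_eq, MvPolynomial.C_1, one_mul]

/-- Rewriting every non-chain monomial upwards gives spanning by standard monomials. -/
theorem exists_normalForm (𝔞 : Ideal (MvPolynomial (Below w) F))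
    (hstep : ∀ a b : Below w, ¬ a ≤ b → ¬ b ≤ a → X a * X b ∈ 𝔞 ∨
      X a * X b - X (Below.sup a b) * X (Below.inf a b) ∈ 𝔞)
    (f : MvPolynomial (Below w) F) :
    ∃ l : StdBelow w →₀ F, f - Finsupp.linearCombination F (chainBelow F w) l ∈ 𝔞 := by
  classical
  suffices h : ∀ (G : ℕ) (m : Multiset (Below w)), Multiset.card m * (d * n) ^ 2 - pot (m.map Subtype.val) = G →
      ∃ l : StdBelow w →₀ F, monB F w m - Finsupp.linearCombination F (chainBelow F w) l ∈ 𝔞 by
    induction f using MvPolynomial.induction_on' with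
    | monomial e a =>
      obtain ⟨m, hm⟩ := exists_monB_eq_monomial F w e
      obtain ⟨l, hl⟩ := h _ m rfl
      refine ⟨a • l, ?_⟩
      rw [show MvPolynomial.monomial e a = a • MvPolynomial.monomial e (1 : F) by
        rw [MvPolynomial.smul_monomial, smul_eq_mul, mul_one], ← hm, map_smul, ← smul_sub]
      exact Submodule.smul_of_tower_mem _ a hl
    | add p q hp hq =>
      obtain ⟨l₁, h₁⟩ := hp
      obtain ⟨l₂, h₂⟩ := hq
      exact ⟨l₁ + l₂, by rw [map_add, add_sub_add_comm]; exact add_mem h₁ h₂⟩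
  intro G
  induction G using Nat.strong_induction_on with
  | _ G ih =>
  intro m hG
  by_cases hch : IsChainM (m.map Subtype.val)
  · obtain ⟨c, hc⟩ := exists_chainBelow F w m hch
    exact ⟨Finsupp.single c 1, by simp [hc]⟩
  obtain ⟨x, y, hx, hy, hxy, hyx, hle⟩ : ∃ x y : Below w, x ∈ m ∧ y ∈ m ∧ ¬ x ≤ y ∧ ¬ y ≤ x ∧
      wsum y.1 ≤ wsum x.1 := by
    unfold IsChainM at hch
    push Not at hch
    obtain ⟨a, ha, b, hb, h1, h2⟩ := hch
    obtain ⟨x, hx, rfl⟩ := Multiset.mem_map.1 ha
    obtain ⟨y, hy, rfl⟩ := Multiset.mem_map.1 hb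
    rcases le_total (wsum y.1) (wsum x.1) with h | h
    · exact ⟨x, y, hx, hy, h1, h2, h⟩
    · exact ⟨y, x, hy, hx, h2, h1, h⟩
  have hne : y ≠ x := fun e => hxy (e ▸ le_rfl)
  set rest := (m.erase x).erase y
  have hm : m = x ::ₘ y ::ₘ rest := by
    rw [Multiset.cons_erase ((Multiset.mem_erase_of_ne hne).2 hy), Multiset.cons_erase hx]
  have hmon : monB F w m = X x * X y * monB F w rest := by
    rw [hm]; simp only [monB, Multiset.map_cons, Multiset.prod_cons, mul_assoc]
  rcases hstep x y hxy hyx with h | h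
  · exact ⟨0, by rw [map_zero, sub_zero, hmon]; exact Ideal.mul_mem_right _ _ h⟩
  set m' := Below.sup x y ::ₘ Below.inf x y ::ₘ rest
  have hlt : wsum x.1 < wsum (W4bk4grassmannian.sup x.1 y.1) := by
    refine wsum_strictMono (lt_of_le_of_ne (fun t => le_max_left _ _) fun e => hyx ?_)
    intro t
    have := congrArg (fun θ : Idx d n => θ.1 t) e
    simp only [W4bk4grassmannian.sup] at this
    exact (le_max_right _ _).trans_eq this.symm
  have hpot : pot (m.map Subtype.val) < pot (m'.map Subtype.val) := by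
    rw [hm]
    simp only [pot, m', Multiset.map_cons, Multiset.sum_cons, Below.sup, Below.inf]
    have := sq_add_lt (wsum_sup_add_wsum_inf x.1 y.1) hlt hle
    omega
  have hcard : Multiset.card m' = Multiset.card m := by rw [hm]; simp [m']
  obtain ⟨l, hl⟩ := ih _ (by
    have := pot_le (m'.map Subtype.val)
    rw [Multiset.card_map, hcard] at this
    rw [hcard]
    omega) m' rfl
  refine ⟨l, ?_⟩
  have he : monB F w m - monB F w m' = (X x * X y - X (Below.sup x y) * X (Below.inf x y)) * monB F w rest := by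
    rw [hmon]
    simp only [monB, m', Multiset.map_cons, Multiset.prod_cons]
    ring
  have := add_mem (Ideal.mul_mem_right (monB F w rest) _ h) hl
  rwa [← he, sub_add_sub_cancel] at this

/-- The Stanley–Reisner weight. -/
def gSR (θ : Idx d n) : ℕ := (d * n) ^ 2 - wsum θ ^ 2

theorem gm_gSR (m : Multiset (Idx d n)) : gm gSR m + pot m = Multiset.card m * (d * n) ^ 2 := by
  induction m using Multiset.induction_on with
  | empty => simp [gm, pot]
  | cons a m ih =>
    simp only [gm, pot, gSR, Multiset.map_cons, Multiset.sum_cons, Multiset.card_cons] at ih ⊢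
    have := Nat.pow_le_pow_left (wsum_le a) 2
    rw [add_mul, one_mul]
    omega

theorem gs_gSR (c : Std d n) :
    gs gSR c.2.1 + pot (Multiset.map c.2.1 Finset.univ.val) = c.1 * (d * n) ^ 2 := by
  rw [← gm_map_univ, gm_gSR, Multiset.card_map]
  simp

theorem hasExp_gSR : HasExp (d := d) (n := n) F gSR := fun m => by
  obtain ⟨a, h1, h2⟩ := exists_exp_stdSpan F _ _ _ _ (straighten F m)
  refine ⟨a, h1, fun c hc => ?_⟩
  obtain ⟨hk, hp⟩ := h2 c hc
  have e1 := gm_gSR m
  have e2 := gs_gSR c
  have e3 := congrArg (fun x : ℕ => x * (d * n) ^ 2) hk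
  beta_reduce at e3
  omega

theorem monR_pair [Infinite F] (g : Idx d n → ℕ) (a b : Below w) :
    fibreZero F w g (X a * X b) = Ideal.Quotient.mk _ (monR F w g {a.1, b.1}) := by
  have h := fibreZero_monB F w g {a, b}
  simpa [monB] using h

theorem exists_SR_degeneration [Infinite F] (hd : 0 < d) (hdn : d < n) :
    ∃ (R : Type u) (_ : CommRing R) (_ : Algebra F R) (_ : Algebra (Polynomial F) R)
      (_ : IsScalarTower F (Polynomial F) R),
      Module.Free (Polynomial F) R ∧
      Nonempty ((R ⧸ Ideal.span {algebraMap (Polynomial F) R Polynomial.X}) ≃ₐ[F]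
        (MvPolynomial (Below w) F ⧸ srIdeal F w)) ∧
      ∀ c : F, c ≠ 0 →
        Nonempty ((R ⧸ Ideal.span {algebraMap (Polynomial F) R (Polynomial.X - Polynomial.C c)}) ≃ₐ[F]
          (PlRing F d n ⧸ schubertVanishing F d n w)) := by
  refine exists_degeneration F w hd hdn (hasExp_gSR F) _ ?_
    (exists_normalForm F w _ fun a b h1 h2 => Or.inl (Ideal.subset_span ⟨a, b, h1, h2, rfl⟩))
  suffices h : srIdeal F w ≤ RingHom.ker (fibreZero F w gSR) from fun f hf => h hf
  rw [srIdeal, Ideal.span_le]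
  rintro _ ⟨a, b, h1, h2, rfl⟩
  rw [SetLike.mem_coe, RingHom.mem_ker, monR_pair, Ideal.Quotient.eq_zero_iff_mem]
  have hnc : ¬ IsChainM ({a.1, b.1} : Multiset (Idx d n)) := fun hc => by
    rcases hc a.1 (by simp) b.1 (by simp) with h | h
    · exact h1 h
    · exact h2 h
  obtain ⟨e, he, hlt⟩ := exists_exp_stdSpan F _ _ _ _ (straighten_lt F _ hnc)
  refine monR_mem F w he fun c hc => ?_
  obtain ⟨hk, hp⟩ := hlt c hc
  have e1 := gm_gSR ({a.1, b.1} : Multiset (Idx d n))
  have e2 := gs_gSR c
  have e3 := congrArg (fun x : ℕ => x * (d * n) ^ 2) hk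
  beta_reduce at e3
  omega

/-- The Hibi weight. -/
noncomputable def gH (θ : Idx d n) : ℕ := W (dexp θ.1)

theorem gm_gH (m : Multiset (Idx d n)) : gm gH m = W (mexp m) := by
  induction m using Multiset.induction_on with
  | empty => simp [gm, mexp, W]
  | cons a m ih =>
    simp only [gm, mexp, gH, Multiset.map_cons, Multiset.sum_cons, W_add] at ih ⊢
    rw [ih]

theorem gs_gH (c : Std d n) : gs gH c.2.1 = W (cexp c.2.1) := by
  rw [← gm_map_univ, gm_gH, mexp_map_univ]

theorem hasExp_gH (hd : 0 < d) (hdn : d < n) : HasExp (d := d) (n := n) F gH := fun m => by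
  obtain ⟨a, h1, h2, -⟩ := exists_exp_W F hd hdn m
  refine ⟨a, h1, fun c hc => ?_⟩
  rw [gs_gH, gm_gH]
  rcases h2 c hc with h | h
  · exact h.le
  · rw [h]

theorem exists_hibi_degeneration [Infinite F] (hd : 0 < d) (hdn : d < n) :
    ∃ (R : Type u) (_ : CommRing R) (_ : Algebra F R) (_ : Algebra (Polynomial F) R)
      (_ : IsScalarTower F (Polynomial F) R),
      Module.Free (Polynomial F) R ∧
      Nonempty ((R ⧸ Ideal.span {algebraMap (Polynomial F) R Polynomial.X}) ≃ₐ[F]
        (MvPolynomial (Below w) F ⧸ hibiIdeal F w)) ∧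
      ∀ c : F, c ≠ 0 →
        Nonempty ((R ⧸ Ideal.span {algebraMap (Polynomial F) R (Polynomial.X - Polynomial.C c)}) ≃ₐ[F]
          (PlRing F d n ⧸ schubertVanishing F d n w)) := by
  classical
  refine exists_degeneration F w hd hdn (hasExp_gH F hd hdn) _ ?_
    (exists_normalForm F w _ fun a b _ _ => Or.inr (Ideal.subset_span ⟨a, b, rfl⟩))
  suffices h : hibiIdeal F w ≤ RingHom.ker (fibreZero F w gH) from fun f hf => h hf
  rw [hibiIdeal, Ideal.span_le]
  rintro _ ⟨a, b, rfl⟩
  rw [SetLike.mem_coe, RingHom.mem_ker, map_sub, monR_pair, monR_pair, ← map_sub, Ideal.Quotient.eq_zero_iff_mem]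
  set m : Multiset (Idx d n) := {a.1, b.1}
  have hmM : W4bk4grassmannian.inf a.1 b.1 ≤ W4bk4grassmannian.sup a.1 b.1 :=
    fun t => (min_le_left _ _).trans (le_max_left _ _)
  set c₀ : Std d n := pairStd _ _ hmM
  have hexp : cexp c₀.2.1 = mexp m := by
    rw [cexp_pairStd, dexp_sup_add_dexp_inf]
    simp [m, mexp]
  obtain ⟨e, he, hlt, hone⟩ := exists_exp_W F hd hdn m
  refine monR_sub_monR_mem F w ?_ (a := e.erase c₀) ?_ fun c hc => ?_
  · rw [gm_gH, gm_gH]
    simp [m, mexp, Below.sup, Below.inf, dexp_sup_add_dexp_inf]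
  · have h' := congrArg (Finsupp.linearCombination F fun c : Std d n => chainMon F c.2.1)
      (Finsupp.single_add_erase c₀ e)
    rw [map_add, Finsupp.linearCombination_single, hone c₀ hexp, one_smul, chainMon_pairStd] at h'
    have h'' : mon F ({(Below.sup a b).1, (Below.inf a b).1} : Multiset (Idx d n)) =
        X (W4bk4grassmannian.sup a.1 b.1) * X (W4bk4grassmannian.inf a.1 b.1) := by
      simp [mon, Below.sup, Below.inf]
    rw [h'', sub_sub, h']
    exact he
  · rw [Finsupp.support_erase, Finset.mem_erase] at hc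
    rw [gs_gH, gm_gH]
    rcases hlt c hc.2 with h | h
    · exact h
    · exact absurd (std_ext hd (h.trans hexp.symm)) hc.1

end Groth.Agent.Grass54
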