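import Mathlib
import Groth.Agent.Grass54.SFT
import Groth.Agent.Grass54.Expansion

/-!
First fundamental theorems for `SL` and `GL`.
-/

set_option autoImplicit false
universe u

open MvPolynomial W4bk4grassmannian Finset

namespace Groth.Agent.Grass54

variable (F : Type u) [Field F]

/-- Clearing the denominator of a substitution `X i ↦ N i / d`. -/
theorem exists_clear {σ τ : Type} (f : MvPolynomial σ F) (N : σ → MvPolynomial τ F) (d : MvPolynomial τ F) :
    ∃ (D : ℕ) (H : MvPolynomial τ F), ∀ z : τ → F, MvPolynomial.eval z d ≠ 0 →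
      MvPolynomial.eval z H = MvPolynomial.eval z d ^ D *
        MvPolynomial.eval (fun i => MvPolynomial.eval z (N i) / MvPolynomial.eval z d) f := by
  refine ⟨f.totalDegree, ∑ k ∈ Finset.range (f.totalDegree + 1),
    d ^ (f.totalDegree - k) * MvPolynomial.aeval N (homogeneousComponent k f), fun z hz => ?_⟩
  rw [map_sum]
  refine Eq.trans ?_ (congrArg (fun P => MvPolynomial.eval z d ^ f.totalDegree *
    MvPolynomial.eval (fun i => MvPolynomial.eval z (N i) / MvPolynomial.eval z d) P) (sum_homogeneousComponent f))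
  rw [map_sum, Finset.mul_sum]
  refine Finset.sum_congr rfl fun k hk => ?_
  have h1 : MvPolynomial.eval z (MvPolynomial.aeval N (homogeneousComponent k f)) =
      MvPolynomial.eval (fun i => MvPolynomial.eval z (N i)) (homogeneousComponent k f) := by
    rw [← MvPolynomial.coe_aeval_eq_eval, MvPolynomial.aeval_def, ← MvPolynomial.eval₂_id]
    refine (MvPolynomial.eval₂_comp_left (MvPolynomial.eval z) MvPolynomial.C N _).trans ?_
    rw [show (MvPolynomial.eval z).comp MvPolynomial.C = RingHom.id F from RingHom.ext fun a => MvPolynomial.eval_C a]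
    rfl
  have h2 : MvPolynomial.eval (fun i => MvPolynomial.eval z (N i)) (homogeneousComponent k f) =
      MvPolynomial.eval z d ^ k * MvPolynomial.eval (fun i => MvPolynomial.eval z (N i) / MvPolynomial.eval z d)
        (homogeneousComponent k f) := by
    rw [← eval_smul_of_isHomogeneous F (homogeneousComponent_isHomogeneous k f)]
    congr 2
    funext i
    rw [mul_div_cancel₀ _ hz]
  rw [map_mul, map_pow, h1, h2, ← mul_assoc, ← pow_add, Nat.sub_add_cancel (Nat.lt_succ_iff.1 (Finset.mem_range.1 hk))]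

theorem eval_minor {d n : ℕ} (z : Fin n × Fin d → F) (θ : Fin d → Fin n) :
    MvPolynomial.eval z (minor F d n θ) = ((Matrix.of fun a b => z (a, b)).submatrix θ id).det := by
  rw [minor, RingHom.map_det]
  refine congrArg Matrix.det (Matrix.ext fun i j => ?_)
  simp

theorem eval_pluckerMap {d n : ℕ} (z : Fin n × Fin d → F) (G : PlRing F d n) :
    MvPolynomial.eval z (pluckerMap F d n G) = evalMinors F d n (Matrix.of fun a b => z (a, b)) G := by
  have h : (MvPolynomial.aeval z).comp (pluckerMap F d n) = evalMinors F d n (Matrix.of fun a b => z (a, b)) := by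
    refine MvPolynomial.algHom_ext fun θ => ?_
    rw [AlgHom.comp_apply, pluckerMap, aeval_X, evalMinors, aeval_X]
    exact eval_minor F z θ.1
  exact DFunLike.congr_fun h G

theorem range_pluckerMap {d n : ℕ} :
    (pluckerMap F d n).range = Algebra.adjoin F (Set.range fun θ : Idx d n => minor F d n θ.1) :=
  (Algebra.adjoin_range_eq_range_aeval F _).symm

theorem minor_invariant {d n : ℕ} (g : Matrix.SpecialLinearGroup (Fin d) F) (θ : Fin d → Fin n) :
    rightTranslate F d n g (minor F d n θ) = minor F d n θ := by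
  rw [minor, AlgHom.map_det]
  have h : (rightTranslate F d n g).mapMatrix (Matrix.of fun s t : Fin d => (X (θ s, t) : MatRing F d n)) =
      (Matrix.of fun s t : Fin d => (X (θ s, t) : MatRing F d n)) * (g : Matrix (Fin d) (Fin d) F).map (algebraMap F _) := by
    ext1 s t
    simp [rightTranslate, Matrix.mul_apply, MvPolynomial.algebraMap_eq]
  rw [h, Matrix.det_mul, ← RingHom.mapMatrix_apply, ← RingHom.map_det, g.det_coe, map_one, mul_one]

variable [Infinite F]

theorem exists_pow_mul_mem_range {d n : ℕ} (hd : 0 < d) (hdn : d < n) (f : MatRing F d n)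
    (hf : ∀ g : Matrix.SpecialLinearGroup (Fin d) F, rightTranslate F d n g f = f) :
    ∃ N, minor F d n (botIdx hdn).1 ^ N * f ∈ (pluckerMap F d n).range := by
  classical
  set b := botIdx hdn
  let j0 : Fin d := ⟨0, hd⟩
  let N : Fin n × Fin d → MatRing F d n := fun p =>
    minor F d n (Function.update b.1 p.2 p.1) * if p.2 = j0 then minor F d n b.1 else 1
  obtain ⟨D, H, hH⟩ := exists_clear F f (fun p => coord F d n (Function.update b.1 p.2 p.1) *
    if p.2 = j0 then X b else 1 : Fin n × Fin d → PlRing F d n) (X b)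
  refine ⟨D + 1, X b * H, ?_⟩
  refine MvPolynomial.funext fun z => ?_
  change MvPolynomial.eval z (pluckerMap F d n (X b * H)) = _
  set A : Matrix (Fin n) (Fin d) F := Matrix.of fun a c => z (a, c) with hA
  have hz : ∀ G : PlRing F d n, MvPolynomial.eval z (pluckerMap F d n G) =
      MvPolynomial.eval (fun θ : Idx d n => (A.submatrix θ.1 id).det) G := fun G => eval_pluckerMap F z G
  rw [hz, map_mul, eval_X, map_mul, map_pow, eval_minor, ← hA]
  by_cases hU : (A.submatrix b.1 id).det = 0
  · simp [hU]
  rw [hH _ (by rw [eval_X]; exact hU), eval_X, pow_succ', mul_assoc]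
  congr 2
  set U := A.submatrix b.1 id
  let D0 : Matrix (Fin d) (Fin d) F := Matrix.diagonal fun j => if j = j0 then U.det else 1
  have hD0 : D0.det = U.det := by simp [D0, Matrix.det_diagonal]
  let g : Matrix.SpecialLinearGroup (Fin d) F := ⟨D0⁻¹ * U, by
    rw [Matrix.det_mul, Matrix.det_nonsing_inv, hD0, Ring.inverse_eq_inv', inv_mul_cancel₀ hU]⟩
  set A0 := A * U⁻¹ * D0 with hA0
  have hAg : A0 * (g : Matrix (Fin d) (Fin d) F) = A := by
    change A0 * (D0⁻¹ * U) = A
    rw [hA0, ← Matrix.mul_assoc, Matrix.mul_nonsing_inv_cancel_right _ _ (by rw [hD0]; exact isUnit_iff_ne_zero.2 hU),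
      Matrix.nonsing_inv_mul_cancel_right _ _ (isUnit_iff_ne_zero.2 hU)]
  have hentry : (fun p : Fin n × Fin d => MvPolynomial.eval (fun θ : Idx d n => (A.submatrix θ.1 id).det)
      (coord F d n (Function.update b.1 p.2 p.1) * if p.2 = j0 then X b else 1) /
        U.det) = fun p => A0 p.1 p.2 := by
    funext ⟨a, j⟩
    have hq : A * U⁻¹ = Matrix.of fun i j => (A.submatrix (Function.update b.1 j i) id).det / U.det := by
      conv_lhs => rw [coeff_eq (A := A) (θ := b) hU]
      rw [Matrix.mul_nonsing_inv_cancel_right _ _ (isUnit_iff_ne_zero.2 hU)]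
    rw [hA0, Matrix.mul_diagonal, hq, Matrix.of_apply, map_mul]
    have hc : MvPolynomial.eval (fun θ : Idx d n => (A.submatrix θ.1 id).det)
        (coord F d n (Function.update b.1 j a)) = (A.submatrix (Function.update b.1 j a) id).det :=
      aeval_coord (K := F) A _
    rw [hc]
    dsimp only
    split_ifs <;> simp [U, mul_div_right_comm]
  rw [hentry]
  have h := congrArg (MvPolynomial.eval fun p : Fin n × Fin d => A0 p.1 p.2) (hf g)
  have h2 : (MvPolynomial.aeval (fun p : Fin n × Fin d => A0 p.1 p.2)).comp (rightTranslate F d n g) =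
      MvPolynomial.aeval z := by
    refine MvPolynomial.algHom_ext fun p => ?_
    simp only [rightTranslate, AlgHom.comp_apply, aeval_X, map_sum, map_mul, aeval_C, Algebra.algebraMap_self,
      RingHom.id_apply]
    rw [← Matrix.mul_apply, hAg]
    rfl
  exact h.symm.trans (DFunLike.congr_fun h2 f)

theorem mem_range_of_minor_mul {d n : ℕ} (hd : 0 < d) (hdn : d < n) {f : MatRing F d n}
    (hf : minor F d n (botIdx hdn).1 * f ∈ (pluckerMap F d n).range) : f ∈ (pluckerMap F d n).range := by
  obtain ⟨G, hG⟩ := hf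
  change pluckerMap F d n G = _ at hG
  let sub : MatRing F d n →ₐ[F] MatRing F d n :=
    MvPolynomial.aeval fun p => pat F (sndIdx hdn) (topIdx hdn) p.1 p.2
  have hsub : ∀ P : PlRing F d n, patMap F (sndIdx hdn) (topIdx hdn) P = sub (pluckerMap F d n P) := by
    intro P
    refine DFunLike.congr_fun (?_ : patMap F (sndIdx hdn) (topIdx hdn) = sub.comp (pluckerMap F d n)) P
    refine MvPolynomial.algHom_ext fun θ => ?_
    rw [patMap_X, AlgHom.comp_apply, pluckerMap, aeval_X, minor, AlgHom.map_det]
    refine congrArg Matrix.det (Matrix.ext fun i j => ?_)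
    simp [sub]
  have h0 : sub (minor F d n (botIdx hdn).1) = 0 := by
    have := hsub (X (botIdx hdn))
    rw [patMap_eq_zero_of_not_ge F (not_sndIdx_le_botIdx hd hdn)] at this
    rw [this, pluckerMap, aeval_X]
  have hker : G ∈ schubertVanishing F d n (topIdx hdn) ⊔ Ideal.span {X (botIdx hdn)} := by
    rw [sup_span_botIdx_eq_ker F hd hdn, RingHom.mem_ker]
    change patMap F (sndIdx hdn) (topIdx hdn) G = 0
    rw [hsub, hG, map_mul, h0, zero_mul]
  obtain ⟨J, hJ, P, hP, rfl⟩ := Submodule.mem_sup.1 hker
  obtain ⟨G', rfl⟩ := Ideal.mem_span_singleton.1 hP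
  refine ⟨G', ?_⟩
  change pluckerMap F d n G' = f
  have hJ0 : pluckerMap F d n J = 0 := MvPolynomial.funext fun z => by
    rw [eval_pluckerMap, map_zero]
    exact (mem_schubertVanishing F).1 hJ _ fun φ hφ => absurd (le_topIdx hdn φ) hφ
  rw [map_add, hJ0, zero_add, map_mul, pluckerMap, aeval_X] at hG
  refine mul_left_cancel₀ (fun h => ?_) hG
  have := congrArg (MvPolynomial.eval fun p : Fin n × Fin d => if p.1.val = p.2.val then (1 : F) else 0) h
  rw [eval_minor, map_zero] at this
  refine one_ne_zero (Eq.trans ?_ this)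
  refine (Eq.trans ?_ (Matrix.det_one (n := Fin d))).symm
  refine congrArg Matrix.det (Matrix.ext fun i j => ?_)
  simp [Matrix.one_apply, botIdx, Fin.val_inj]

theorem invariants_SL (d n : ℕ) (hd : 0 < d) (hdn : d < n) (f : MatRing F d n) :
    (∀ g : Matrix.SpecialLinearGroup (Fin d) F, rightTranslate F d n g f = f) ↔
      f ∈ (pluckerMap F d n).range := by
  refine ⟨fun hf => ?_, ?_⟩
  · obtain ⟨N, hN⟩ := exists_pow_mul_mem_range F hd hdn f hf
    induction N with
    | zero => simpa using hN
    | succ N ih => exact ih (mem_range_of_minor_mul F hd hdn (by rwa [← mul_assoc, ← pow_succ']))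
  · rintro ⟨G, rfl⟩ g
    change rightTranslate F d n g (pluckerMap F d n G) = pluckerMap F d n G
    refine DFunLike.congr_fun (?_ : (rightTranslate F d n g).comp (pluckerMap F d n) = pluckerMap F d n) G
    refine MvPolynomial.algHom_ext fun θ => ?_
    rw [AlgHom.comp_apply, pluckerMap, aeval_X, minor_invariant]

/-! ### `GL` -/

theorem mem_sup_of_vanish {q p s : ℕ} (hs : 0 < s) (hsq : s ≤ q) (hsp : s ≤ p) {a : CellRing F q p}
    (ha : ∀ z : Fin p × Fin q → F, (∀ g ∈ cellIdeal F (wDet hsq hsp), MvPolynomial.eval z g = 0) →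
      MvPolynomial.eval z (cellEv F q p (X (wDet hsq hsp))) = 0 → MvPolynomial.eval z a = 0) :
    a ∈ cellIdeal F (wDet hsq hsp) ⊔ Ideal.span {cellEv F q p (X (wDet hsq hsp))} := by
  set w := wDet hsq hsp with hw
  have hdn : q < q + p := by omega
  have hq : 0 < q := by omega
  have hbot : botIdx hdn < w := lt_of_le_of_ne (botIdx_le hdn _) fun h => by
    have := congrArg codeg h
    rw [codeg_botIdx, hw, codeg_wDet] at this
    have : 0 < s * (q + p - s) := Nat.mul_pos hs (by omega)
    omega
  obtain ⟨D, hD⟩ := exists_homog_lift F hdn a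
  obtain ⟨G, hG, rfl⟩ := hD D le_rfl
  have hmem : G ∈ schubertVanishing F q (q + p) w ⊔ Ideal.span {X w} := by
    rw [sup_span_top_eq_iInf F hq hdn w ⟨_, hbot⟩, Ideal.mem_iInf]
    intro φ
    rw [Ideal.mem_iInf]
    intro hφ
    refine mem_of_vanish_cell F hq hdn φ hG fun z hz => ha z (fun g hg => hz g ?_) (hz _ ?_)
    · exact Ideal.map_mono (schubertVanishing_antitone F hφ.1.le) hg
    · exact Ideal.mem_map_of_mem _ (X_mem_schubertVanishing F (not_le_of_gt hφ.1))
  have h := Ideal.mem_map_of_mem (cellEv F q p) hmem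
  rw [Ideal.map_sup, Ideal.map_span, Set.image_singleton] at h
  exact h

/-- The rows of the top minor. -/
theorem exists_top_minor {q p s : ℕ} (hsq : s ≤ q) (hsp : s ≤ p) :
    ∃ (ρ : Fin s → Fin p) (γ : Fin s → Fin q) (ε : F), ε ≠ 0 ∧
      cellEv F q p (X (wDet hsq hsp)) = C ε * ((genMatrix F p q).submatrix ρ γ).det := by
  rcases Nat.eq_zero_or_pos s with rfl | hs
  · refine ⟨Fin.elim0, Fin.elim0, 1, one_ne_zero, ?_⟩
    rw [cellEv_X, cellMinor, Matrix.det_isEmpty (A := (genMatrix F p q).submatrix _ _), map_one, one_mul]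
    convert Matrix.det_one (n := Fin q) (R := CellRing F q p) using 2
    ext i j
    have hi : (wDet hsq hsp).1 i = Fin.castAdd p i := Fin.ext (by simp [wDet])
    rw [Matrix.submatrix_apply, hi, id, cell_top, Matrix.one_apply]
  have hdn : q < q + p := by omega
  have hne : wDet hsq hsp ≠ botIdx hdn := fun h => by
    have := congrArg codeg h
    rw [codeg_botIdx, codeg_wDet] at this
    have : 0 < s * (q + p - s) := Nat.mul_pos hs (by omega)
    omega
  obtain ⟨M, hM⟩ := exists_minorIdx hdn _ hne
  have hsize : M.1 + 1 = s := by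
    have h1 : hiCard (wDet hsq hsp) = M.1 + 1 := by rw [← hM, minorIdxBig, hiCard_bigIdx]
    refine le_antisymm (h1 ▸ (le_wDet_iff hsq hsp _).1 le_rfl) ?_
    rw [← h1]
    unfold hiCard
    have : cntLt (wDet hsq hsp) q ≤ q - s := by
      refine (Finset.card_le_card (t := Finset.univ.filter fun k : Fin q => k.val < q - s) fun k hk => ?_).trans
        (by rw [Fin.card_filter_val_lt]; omega)
      have := (Finset.mem_filter.1 hk).2
      simp only [wDet] at this
      refine Finset.mem_filter.2 ⟨Finset.mem_univ k, ?_⟩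
      by_contra hk'
      simp [hk'] at this
      omega
    omega
  obtain ⟨ε, hε, heq⟩ := cellMinor_bigIdx F M.2.1 M.2.2
  subst hsize
  refine ⟨Fin.rev ∘ M.2.1.1, M.2.2.1, ε, hε, ?_⟩
  rw [cellEv_X, ← hM, minorIdxBig, heq, revRows_det]

theorem invariant_pairing {n m q : ℕ} (A : GL (Fin n) F) (H : MvPolynomial (Fin m × Fin q) F) :
    glTranslate F n m q A (pairingMap F n m q H) = pairingMap F n m q H := by
  refine DFunLike.congr_fun (?_ : (glTranslate F n m q A).comp (pairingMap F n m q) = pairingMap F n m q) H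
  refine MvPolynomial.algHom_ext fun x => ?_
  set U : Matrix (Fin m) (Fin n) (PairRing F n m q) := Matrix.of fun i k => X (Sum.inl (i, k))
  set W : Matrix (Fin n) (Fin q) (PairRing F n m q) := Matrix.of fun k j => X (Sum.inr (k, j))
  set B := ((A⁻¹ : GL (Fin n) F) : Matrix (Fin n) (Fin n) F).map (algebraMap F (PairRing F n m q))
  set A' := (A : Matrix (Fin n) (Fin n) F).map (algebraMap F (PairRing F n m q))
  have hBA : B * A' = 1 := by
    rw [← Matrix.map_mul, ← Units.val_mul, inv_mul_cancel, Units.val_one, Matrix.map_one _ (map_zero _) (map_one _)]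
  have h : ((U * B) * (A' * W)) x.1 x.2 = (U * W) x.1 x.2 := by
    rw [Matrix.mul_assoc U, ← Matrix.mul_assoc B, hBA, Matrix.one_mul]
  simp only [pairingMap, AlgHom.comp_apply, aeval_X, map_sum, map_mul, glTranslate, Sum.elim_inl, Sum.elim_inr]
  rw [Matrix.mul_apply, Matrix.mul_apply] at h
  simpa [U, W, B, A', Matrix.mul_apply, MvPolynomial.algebraMap_eq] using h

theorem invariants_GL_big {n m q : ℕ} (hn : 0 < n) (hnm : n ≤ m) (hnq : n ≤ q) (f : PairRing F n m q)
    (hf : ∀ A : GL (Fin n) F, glTranslate F n m q A f = f) : f ∈ (pairingMap F n m q).range := by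
  classical
  obtain ⟨ρ, γ, ε, hε, hd⟩ := exists_top_minor F hnq hnm
  set Y := genMatrix F m q
  set d := (Y.submatrix ρ γ).det with hdd
  set δ := pairingMap F n m q d with hδ
  have hδeq : δ = (Matrix.of fun i k => (X (Sum.inl (ρ i, k)) : PairRing F n m q)).det *
      (Matrix.of fun k j => (X (Sum.inr (k, γ j)) : PairRing F n m q)).det := by
    rw [hδ, hdd, AlgHom.map_det, ← Matrix.det_mul]
    refine congrArg Matrix.det (Matrix.ext fun i j => ?_)
    simp [pairingMap, Y, genMatrix, Matrix.mul_apply]
  obtain ⟨D, H, hH⟩ := exists_clear F f (Sum.elim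
    (fun p : Fin m × Fin n => (Y.submatrix id γ * (Y.submatrix ρ γ).adjugate) p.1 p.2)
    (fun p : Fin n × Fin q => d * Y (ρ p.1) p.2)) d
  have hkey : δ ^ (D + 1) * f ∈ (pairingMap F n m q).range := by
    refine ⟨d * H, ?_⟩
    change pairingMap F n m q (d * H) = _
    refine MvPolynomial.funext fun x => ?_
    set U : Matrix (Fin m) (Fin n) F := Matrix.of fun i k => x (Sum.inl (i, k)) with hU
    set W : Matrix (Fin n) (Fin q) F := Matrix.of fun k j => x (Sum.inr (k, j)) with hW
    have hx : x = Sum.elim (fun p => U p.1 p.2) (fun p => W p.1 p.2) := by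
      funext i; rcases i with ⟨a, b⟩ | ⟨a, b⟩ <;> rfl
    set z : Fin m × Fin q → F := fun p => (U * W) p.1 p.2 with hz
    have hev : ∀ P, MvPolynomial.eval x (pairingMap F n m q P) = MvPolynomial.eval z P := fun P => by
      rw [hx]; exact eval_pairing F U W P
    rw [map_mul, map_mul, map_mul, map_pow, hev, hev]
    by_cases hd0 : MvPolynomial.eval z d = 0
    · simp [hd0]
    rw [hH z hd0, pow_succ', mul_assoc]
    congr 2
    set U1 := U.submatrix ρ id
    set W1 := W.submatrix id γ
    have hY : Y.map (MvPolynomial.eval z) = U * W := by ext i j; simp [Y, genMatrix, hz]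
    have hY11 : (Y.submatrix ρ γ).map (MvPolynomial.eval z) = U1 * W1 := by
      rw [← Matrix.submatrix_map, hY]; ext i j; simp [U1, W1, Matrix.mul_apply]
    have hdz : MvPolynomial.eval z d = (U1 * W1).det := by
      rw [hdd, RingHom.map_det, RingHom.mapMatrix_apply, hY11]
    rw [hdz, Matrix.det_mul] at hd0
    obtain ⟨hU1, hW1⟩ := mul_ne_zero_iff.1 hd0
    let A : GL (Fin n) F := Matrix.GeneralLinearGroup.mkOfDetNeZero U1 hU1
    have hA : ((A : GL (Fin n) F) : Matrix (Fin n) (Fin n) F) = U1 := rfl
    have hA' : ((A⁻¹ : GL (Fin n) F) : Matrix (Fin n) (Fin n) F) = U1⁻¹ := by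
      rw [Matrix.coe_units_inv, hA]
    have hent : (fun i => MvPolynomial.eval z ((Sum.elim
        (fun p : Fin m × Fin n => (Y.submatrix id γ * (Y.submatrix ρ γ).adjugate) p.1 p.2)
        (fun p : Fin n × Fin q => d * Y (ρ p.1) p.2)) i) / MvPolynomial.eval z d) =
        Sum.elim (fun p => (U * U1⁻¹) p.1 p.2) (fun p => (U1 * W) p.1 p.2) := by
      funext i
      rcases i with ⟨a, k⟩ | ⟨k, b⟩
      · have hinv : U * U1⁻¹ = (U * W1) * (U1 * W1)⁻¹ := by
          rw [Matrix.mul_inv_rev, ← Matrix.mul_assoc, Matrix.mul_nonsing_inv_cancel_right _ _ (isUnit_iff_ne_zero.2 hW1)]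
        simp only [Sum.elim_inl]
        rw [hinv, Matrix.inv_def, Ring.inverse_eq_inv', Matrix.mul_smul, Matrix.smul_apply, smul_eq_mul, ← hdz,
          div_eq_inv_mul]
        congr 1
        have hmap : (Y.submatrix id γ * (Y.submatrix ρ γ).adjugate).map (MvPolynomial.eval z) =
            U * W1 * (U1 * W1).adjugate := by
          rw [Matrix.map_mul, ← RingHom.mapMatrix_apply (MvPolynomial.eval z) ((Y.submatrix ρ γ).adjugate),
            RingHom.map_adjugate, RingHom.mapMatrix_apply, hY11, ← Matrix.submatrix_map, hY]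
          congr 1
        exact congrFun (congrFun hmap a) k
      · simp only [Sum.elim_inr]
        rw [map_mul, mul_div_assoc, mul_div_left_comm, div_self, mul_one]
        · have := congrFun (congrFun hY (ρ k)) b
          rw [Matrix.map_apply] at this
          rw [this]; rfl
        · rw [hdz, Matrix.det_mul]; exact mul_ne_zero hU1 hW1
    rw [hent]
    have h2 : (MvPolynomial.aeval x).comp (glTranslate F n m q A) =
        MvPolynomial.aeval (Sum.elim (fun p => (U * U1⁻¹) p.1 p.2) (fun p => (U1 * W) p.1 p.2)) := by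
      refine MvPolynomial.algHom_ext fun i => ?_
      rcases i with ⟨a, k⟩ | ⟨k, b⟩ <;>
        simp only [glTranslate, AlgHom.comp_apply, aeval_X, Sum.elim_inl, Sum.elim_inr, map_sum, map_mul,
          aeval_C, Algebra.algebraMap_self, RingHom.id_apply, Matrix.mul_apply, hA, hA', hU, hW, Matrix.of_apply]
    exact (DFunLike.congr_fun h2 f).symm.trans (by rw [AlgHom.comp_apply, hf A]; rfl)
  have hδ0 : δ ≠ 0 := by
    rw [hδeq]
    have h1 : ∀ (e : Fin n × Fin n ↪ (Fin m × Fin n) ⊕ (Fin n × Fin q)),
        (Matrix.of fun i k => (X (e (i, k)) : PairRing F n m q)).det ≠ 0 := fun e h => by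
      have h' := congrArg (MvPolynomial.eval (Function.extend e (fun p => if p.1 = p.2 then (1 : F) else 0) 0)) h
      rw [RingHom.map_det, map_zero] at h'
      refine one_ne_zero (Eq.trans ?_ h')
      rw [← Matrix.det_one (n := Fin n)]
      refine congrArg Matrix.det (Matrix.ext fun i k => ?_)
      simp [e.injective.extend_apply, Matrix.one_apply]
    have hinjρ : Function.Injective ρ := fun a b h => by
      by_contra hne
      have hz : d = 0 := Matrix.det_zero_of_row_eq hne (by funext c; simp [h])
      rw [hz, mul_zero] at hd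
      exact X_notMem_schubertVanishing F (show q < q + m by omega) (le_refl (wDet hnq hnm))
        (mem_of_cellEv_mem F (by omega) (by omega) _ (isHomogeneous_X F _) (by rw [hd]; exact zero_mem _))
    have hinjγ : Function.Injective γ := fun a b h => by
      by_contra hne
      have hz : d = 0 := Matrix.det_zero_of_column_eq hne fun c => by simp [h]
      rw [hz, mul_zero] at hd
      exact X_notMem_schubertVanishing F (show q < q + m by omega) (le_refl (wDet hnq hnm))
        (mem_of_cellEv_mem F (by omega) (by omega) _ (isHomogeneous_X F _) (by rw [hd]; exact zero_mem _))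
    refine mul_ne_zero ?_ ?_
    · exact h1 ⟨fun p => Sum.inl (ρ p.1, p.2), fun a b h => by simp at h; exact Prod.ext (hinjρ h.1) h.2⟩
    · exact h1 ⟨fun p => Sum.inr (p.1, γ p.2), fun a b h => by simp at h; exact Prod.ext h.1 (hinjγ h.2)⟩
  suffices h : ∀ N g, δ ^ N * g ∈ (pairingMap F n m q).range → g ∈ (pairingMap F n m q).range from h _ _ hkey
  intro N
  induction N with
  | zero => intro g hg; simpa using hg
  | succ N ih =>
    intro g hg
    rw [pow_succ, mul_assoc] at hg
    refine (fun h => ?_ : δ * g ∈ (pairingMap F n m q).range → g ∈ _) (ih _ hg)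
    obtain ⟨P, hP⟩ := h
    change pairingMap F n m q P = _ at hP
    have hmem : P ∈ cellIdeal F (wDet hnq hnm) ⊔ Ideal.span {cellEv F q m (X (wDet hnq hnm))} := by
      refine mem_sup_of_vanish F hn hnq hnm fun z hz hz0 => ?_
      obtain ⟨U, W, hUW⟩ := exists_factor F (r := n) (Matrix.of fun i j => z (i, j)) fun ρ' γ' => by
        have h := hz ((genMatrix F m q).submatrix ρ' γ').det (by
          rw [cellIdeal_wDet F (by omega) (by omega) hnq hnm]; exact Ideal.subset_span ⟨(ρ', γ'), rfl⟩)
        rw [RingHom.map_det] at h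
        rw [← h]
        refine congrArg Matrix.det (Matrix.ext fun i j => ?_)
        simp [genMatrix]
      have hev : ∀ Q, MvPolynomial.eval (Sum.elim (fun p => U p.1 p.2) (fun p => W p.1 p.2))
          (pairingMap F n m q Q) = MvPolynomial.eval z Q := fun Q => by
        rw [eval_pairing F U W Q, ← hUW]; rfl
      rw [← hev, hP, map_mul, hδ, hev]
      rw [hd, map_mul, MvPolynomial.eval_C] at hz0
      rw [(mul_eq_zero.1 hz0).resolve_left hε, zero_mul]
    obtain ⟨J, hJ, Q, hQ, rfl⟩ := Submodule.mem_sup.1 hmem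
    obtain ⟨Q', rfl⟩ := Ideal.mem_span_singleton.1 hQ
    refine ⟨C ε * Q', mul_left_cancel₀ hδ0 ?_⟩
    rw [cellIdeal_wDet F (by omega) (by omega) hnq hnm, ← ker_pairing F m n q] at hJ
    rw [← hP, map_add, show pairingMap F n m q J = 0 from hJ, zero_add, hd, hδ]
    change pairingMap F n m q d * pairingMap F n m q (C ε * Q') = _
    rw [← map_mul]
    change pairingMap F n m q (d * (C ε * Q')) = _
    congr 1
    ring

theorem invariants_GL (n m q : ℕ) (f : PairRing F n m q) :
    (∀ A : GL (Fin n) F, glTranslate F n m q A f = f) ↔ f ∈ (pairingMap F n m q).range := by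
  refine ⟨fun hf => ?_, fun ⟨H, hH⟩ A => ?_⟩
  swap
  · rw [← hH]; exact invariant_pairing F A H
  rcases Nat.eq_zero_or_pos n with rfl | hn
  · rw [MvPolynomial.eq_C_of_isEmpty f]
    exact ⟨C _, (pairingMap F 0 m q).commutes _⟩
  set m' := max m n
  set q' := max q n
  let em : Fin m → Fin m' := Fin.castLE (le_max_left _ _)
  let eq' : Fin q → Fin q' := Fin.castLE (le_max_left _ _)
  have hem : Function.Injective em := Fin.castLE_injective _
  have heq : Function.Injective eq' := Fin.castLE_injective _
  let e : (Fin m × Fin n) ⊕ (Fin n × Fin q) → (Fin m' × Fin n) ⊕ (Fin n × Fin q') :=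
    Sum.map (Prod.map em id) (Prod.map id eq')
  have he : Function.Injective e :=
    Sum.map_injective.2 ⟨hem.prodMap Function.injective_id, Function.injective_id.prodMap heq⟩
  have hf' : ∀ A : GL (Fin n) F, glTranslate F n m' q' A (rename e f) = rename e f := fun A => by
    conv_rhs => rw [← hf A]
    refine DFunLike.congr_fun (?_ : (glTranslate F n m' q' A).comp (rename e) =
      (rename e).comp (glTranslate F n m q A)) f
    refine MvPolynomial.algHom_ext fun i => ?_
    rcases i with ⟨a, k⟩ | ⟨k, b⟩ <;> simp [glTranslate, e]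
  obtain ⟨H, hH⟩ := invariants_GL_big F hn (le_max_right m n) (le_max_right q n) (rename e f) hf'
  change pairingMap F n m' q' H = rename e f at hH
  let π : PairRing F n m' q' →ₐ[F] PairRing F n m q :=
    MvPolynomial.aeval (Function.extend e X 0)
  let ey : Fin m × Fin q → Fin m' × Fin q' := Prod.map em eq'
  have hey : Function.Injective ey := hem.prodMap heq
  refine ⟨MvPolynomial.aeval (Function.extend ey X 0) H, ?_⟩
  change pairingMap F n m q (MvPolynomial.aeval (Function.extend ey X 0) H) = f
  have h1 : π (rename e f) = f := by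
    rw [MvPolynomial.aeval_rename, Function.extend_comp he]
    exact MvPolynomial.aeval_X_left_apply f
  rw [← h1, ← hH]
  refine DFunLike.congr_fun (?_ : (pairingMap F n m q).comp (MvPolynomial.aeval (Function.extend ey X 0)) =
    π.comp (pairingMap F n m' q')) H
  refine MvPolynomial.algHom_ext fun y => ?_
  simp only [AlgHom.comp_apply, aeval_X, pairingMap, map_sum, map_mul, π]
  by_cases hy : ∃ x, ey x = y
  · obtain ⟨⟨a, b⟩, rfl⟩ := hy
    rw [hey.extend_apply, aeval_X]
    refine Finset.sum_congr rfl fun k _ => ?_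
    rw [show (Sum.inl ((ey (a, b)).1, k) : (Fin m' × Fin n) ⊕ (Fin n × Fin q')) = e (Sum.inl (a, k)) from rfl,
      show (Sum.inr (k, (ey (a, b)).2) : (Fin m' × Fin n) ⊕ (Fin n × Fin q')) = e (Sum.inr (k, b)) from rfl,
      he.extend_apply, he.extend_apply]
  · rw [Function.extend_apply' _ _ _ hy, Pi.zero_apply, map_zero]
    refine (Finset.sum_eq_zero fun k _ => ?_).symm
    by_cases h1 : ∃ a, em a = y.1
    · have h2 : ¬ ∃ i, e i = Sum.inr (k, y.2) := by
        rintro ⟨⟨a, c⟩ | ⟨c, b⟩, hi⟩
        · simp [e] at hi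
        · obtain ⟨a, ha⟩ := h1
          simp [e] at hi
          exact hy ⟨(a, b), Prod.ext ha hi.2⟩
      rw [Function.extend_apply' _ _ _ h2, Pi.zero_apply, mul_zero]
    · have h2 : ¬ ∃ i, e i = Sum.inl (y.1, k) := by
        rintro ⟨⟨a, c⟩ | ⟨c, b⟩, hi⟩
        · simp [e] at hi
          exact h1 ⟨a, hi.1⟩
        · simp [e] at hi
      rw [Function.extend_apply' _ _ _ h2, Pi.zero_apply, zero_mul]

end Groth.Agent.Grass54
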