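import Mathlib
import Groth.Agent.Grass54.Plucker
import Groth.Prelude.Def_W4bk4grassmannianPl

set_option autoImplicit false
universe u

open Matrix
open W4bk4grassmannian

namespace Groth.Agent.Grass54

variable {K : Type u} [Field K] {d n : ℕ}

theorem eval_minor (a : Fin d → Fin n) (B : Matrix (Fin n) (Fin d) K) :
    MvPolynomial.eval (fun p : Fin n × Fin d => B p.1 p.2) (minor K d n a) =
      (B.submatrix a id).det := by
  rw [minor, RingHom.map_det]
  congr 1
  ext i j
  simp

theorem exists_invariant_of_linearIndependent (hd : 0 < d) {A : Matrix (Fin n) (Fin d) K}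
    (hA : LinearIndependent K A.transpose) :
    ∃ f : MatRing K d n, (∀ g : Matrix.SpecialLinearGroup (Fin d) K,
        MvPolynomial.eval (fun p : Fin n × Fin d => (A * (g : Matrix (Fin d) (Fin d) K)) p.1 p.2) f = 0) ∧
        MvPolynomial.eval (fun _ : Fin n × Fin d => (0 : K)) f ≠ 0 := by
  obtain ⟨θ, hθ⟩ := exists_idx_det_ne_zero hA
  refine ⟨minor K d n θ.1 - MvPolynomial.C (A.submatrix θ.1 id).det, fun g => ?_, ?_⟩
  · rw [map_sub, eval_minor, MvPolynomial.eval_C, Matrix.submatrix_mul_equiv A _ θ.1 (Equiv.refl _) id |>.symm]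
    simp [Matrix.det_mul]
  · have : Nonempty (Fin d) := ⟨⟨0, hd⟩⟩
    rw [map_sub, show (fun _ : Fin n × Fin d => (0 : K)) =
      fun p => (0 : Matrix (Fin n) (Fin d) K) p.1 p.2 from rfl, eval_minor, MvPolynomial.eval_C,
      Matrix.submatrix_zero]
    simpa [Matrix.det_zero] using hθ

theorem not_invariant_of_not_linearIndependent [Infinite K] {A : Matrix (Fin n) (Fin d) K}
    (hA : ¬ LinearIndependent K A.transpose) (f : MatRing K d n)
    (hf : ∀ g : Matrix.SpecialLinearGroup (Fin d) K,
        MvPolynomial.eval (fun p : Fin n × Fin d => (A * (g : Matrix (Fin d) (Fin d) K)) p.1 p.2) f = 0) :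
    MvPolynomial.eval (fun _ : Fin n × Fin d => (0 : K)) f = 0 := by
  obtain ⟨v, hv, j, hj⟩ := (Fintype.not_linearIndependent_iff (v := fun t i => A i t)).1 hA
  set w : Fin d → K := fun i => v i / v j with hw
  have hwj : w j = 1 := div_self hj
  set g0 : Matrix (Fin d) (Fin d) K := (1 : Matrix (Fin d) (Fin d) K).updateCol j w with hg0
  have hdet : g0.det = 1 := by
    rw [hg0, ← Matrix.cramer_apply, Matrix.cramer_one]; exact hwj
  set B := A * g0 with hB
  have hBj : ∀ i, B i j = 0 := fun i => by
    have := congrFun hv i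
    simp only [Finset.sum_apply, Pi.smul_apply, smul_eq_mul, Pi.zero_apply] at this
    calc B i j = ∑ t, (v t * A i t) * (v j)⁻¹ := by
          rw [hB, Matrix.mul_apply]
          refine Finset.sum_congr rfl fun t _ => ?_
          simp only [hg0, Matrix.updateCol_self, hw]
          ring
      _ = 0 := by rw [← Finset.sum_mul, this, zero_mul]
  let P : Polynomial K := MvPolynomial.aeval
    (fun p : Fin n × Fin d => Polynomial.C (B p.1 p.2) * Polynomial.X) f
  have hP : ∀ t : K, P.eval t = MvPolynomial.eval (fun p : Fin n × Fin d => B p.1 p.2 * t) f := by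
    intro t
    change Polynomial.evalRingHom t (MvPolynomial.eval₂ (algebraMap K (Polynomial K)) _ f) = _
    rw [MvPolynomial.eval₂_comp_left, MvPolynomial.eval]
    congr 1
    · ext x; simp
    · funext p; simp
  have hroot : ∀ t : K, t ≠ 0 → P.eval t = 0 := by
    intro t ht
    set D : Matrix (Fin d) (Fin d) K :=
      Matrix.diagonal (fun i => if i = j then (t⁻¹) ^ (d - 1) else t) with hD
    have hDdet : D.det = 1 := by
      rw [hD, Matrix.det_diagonal, ← Finset.mul_prod_erase _ _ (Finset.mem_univ j), if_pos rfl,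
        Finset.prod_congr rfl (g := fun _ => t) fun i hi => if_neg (Finset.ne_of_mem_erase hi),
        Finset.prod_const, Finset.card_erase_of_mem (Finset.mem_univ j), Finset.card_univ,
        Fintype.card_fin, ← mul_pow, inv_mul_cancel₀ ht, one_pow]
    have key := hf ⟨g0 * D, by rw [Matrix.det_mul, hdet, hDdet, one_mul]⟩
    rw [hP, ← key]
    congr 2
    funext p
    rw [← Matrix.mul_assoc, ← hB, hD, Matrix.mul_diagonal]
    by_cases hp : p.2 = j
    · simp [hp, hBj]
    · simp [hp]
  have hP0 : P = 0 := Polynomial.eq_zero_of_infinite_isRoot P <|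
    Set.Infinite.mono (fun t ht => hroot t ht) ((Set.finite_singleton (0 : K)).infinite_compl)
  have := hP 0
  simpa [hP0] using this.symm

end Groth.Agent.Grass54
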