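import Mathlib
import Groth.Agent.EGA4Alg4.Depth
import Groth.Agent.EGA4Alg4.DepthChange

/-!
Serre's condition (S₂) for a domain through associated primes of principal ideals.
-/

set_option autoImplicit false
universe u

open IsLocalRing Groth.Agent.EGA4Alg4
open scoped Pointwise

namespace Groth.Agent.Grass54

variable {R : Type u} [CommRing R]

theorem localized_span_singleton (p : Ideal R) [p.IsPrime] (a : R) :
    Submodule.localized' (Localization.AtPrime p) p.primeCompl (Algebra.linearMap R (Localization.AtPrime p))
        (Ideal.span {a}) =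
      algebraMap R (Localization.AtPrime p) a • (⊤ : Submodule (Localization.AtPrime p) (Localization.AtPrime p)) := by
  rw [Submodule.localized'_eq_span]
  refine le_antisymm (Submodule.span_le.2 ?_) ?_
  · rintro _ ⟨x, hx, rfl⟩
    obtain ⟨c, rfl⟩ := Ideal.mem_span_singleton'.1 hx
    refine (Submodule.mem_smul_pointwise_iff_exists _ _ _).2 ⟨algebraMap R _ c, trivial, ?_⟩
    rw [smul_eq_mul, Algebra.linearMap_apply, map_mul, mul_comm]
  · intro y hy
    obtain ⟨z, -, rfl⟩ := (Submodule.mem_smul_pointwise_iff_exists _ _ _).1 hy
    rw [smul_eq_mul, mul_comm, ← smul_eq_mul]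
    exact Submodule.smul_mem _ z (Submodule.subset_span ⟨a, Ideal.mem_span_singleton_self a, rfl⟩)

variable [IsNoetherianRing R] [IsDomain R]

theorem maximalIdeal_mem_assoc_iff_mem (p : Ideal R) [p.IsPrime] (a : R) :
    maximalIdeal (Localization.AtPrime p) ∈ associatedPrimes (Localization.AtPrime p)
        (QuotSMulTop (algebraMap R (Localization.AtPrime p) a) (Localization.AtPrime p)) ↔
      p ∈ associatedPrimes R (R ⧸ Ideal.span {a}) := by
  have key := Module.associatedPrimes.preimage_comap_associatedPrimes_eq_associatedPrimes_of_isLocalizedModule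
    p.primeCompl (Localization.AtPrime p)
    ((Ideal.span {a} : Submodule R R).toLocalizedQuotient' (Localization.AtPrime p) p.primeCompl
      (Algebra.linearMap R (Localization.AtPrime p)))
  rw [localized_span_singleton] at key
  rw [show associatedPrimes (Localization.AtPrime p)
      (QuotSMulTop (algebraMap R (Localization.AtPrime p) a) (Localization.AtPrime p)) = _ from key.symm,
    Set.mem_preimage]
  rw [show Ideal.comap (algebraMap R (Localization.AtPrime p)) (maximalIdeal (Localization.AtPrime p)) = p from
    Localization.AtPrime.under_maximalIdeal]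

theorem depth_eq_one_iff (p : Ideal R) [p.IsPrime] {a : R} (ha : a ≠ 0) (hap : a ∈ p) :
    LocCoh.depth (Localization.AtPrime p) (Localization.AtPrime p) = 1 ↔
      p ∈ associatedPrimes R (R ⧸ Ideal.span {a}) := by
  have hx : algebraMap R (Localization.AtPrime p) a ∈ maximalIdeal (Localization.AtPrime p) :=
    (IsLocalization.AtPrime.to_map_mem_maximal_iff _ p a).2 hap
  have hne : algebraMap R (Localization.AtPrime p) a ≠ 0 := fun h =>
    ha (IsLocalization.injective (Localization.AtPrime p) p.primeCompl_le_nonZeroDivisors (by rw [h, map_zero]))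
  have hreg : IsSMulRegular (Localization.AtPrime p) (algebraMap R (Localization.AtPrime p) a) :=
    IsSMulRegular.of_right_eq_zero_of_smul fun y hy =>
      (mul_eq_zero.1 hy).resolve_left hne
  rw [← maximalIdeal_mem_assoc_iff_mem, ← depth_eq_zero_iff, ← depth_quotSMulTop_add_one hx hreg]
  constructor
  · intro h
    exact ENat.add_left_injective_of_ne_top ENat.one_ne_top (by simpa using h)
  · intro h; rw [h, zero_add]

/-- localising a ring as a module -/
noncomputable def selfLoc (p : Ideal R) [p.IsPrime] :
    LocalizedModule p.primeCompl R ≃ₗ[Localization.AtPrime p] Localization.AtPrime p :=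
  (IsLocalizedModule.linearEquiv p.primeCompl (LocalizedModule.mkLinearMap p.primeCompl R)
    (Algebra.linearMap R (Localization.AtPrime p))).extendScalarsOfIsLocalization p.primeCompl _

theorem hasS2_iff :
    LocCoh.HasSk 2 R R ↔
      ∀ a : R, a ≠ 0 → ∀ P : Ideal R, P ∈ associatedPrimes R (R ⧸ Ideal.span {a}) → P.height = 1 := by
  have hdim : ∀ (p : Ideal R) [p.IsPrime],
      Module.supportDim (Localization.AtPrime p) (LocalizedModule p.primeCompl R) = (p.height : WithBot ℕ∞) := by
    intro p _
    rw [Module.supportDim_eq_of_equiv (selfLoc p), Module.supportDim_self_eq_ringKrullDim,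
      IsLocalization.AtPrime.ringKrullDim_eq_height p]
  have hdepth : ∀ (p : Ideal R) [p.IsPrime],
      LocCoh.depth (Localization.AtPrime p) (LocalizedModule p.primeCompl R) =
        LocCoh.depth (Localization.AtPrime p) (Localization.AtPrime p) :=
    fun p _ => depth_eq_of_equiv (selfLoc p)
  constructor
  · intro h a ha P hP
    have hPp : P.IsPrime := IsAssociatedPrime.isPrime hP
    have haP : a ∈ P := (IsAssociatedPrime.annihilator_le hP) (by
      rw [Submodule.annihilator_top, Ideal.annihilator_quotient]; exact Ideal.mem_span_singleton_self a)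
    have h1 := h P
    rw [hdim, hdepth, (depth_eq_one_iff P ha haP).2 hP] at h1
    have hpos : P.height ≠ 0 := fun h0 => by
      rw [Ideal.height_eq_zero_iff_eq_bot] at h0
      exact ha (by simpa [h0] using haP)
    obtain ⟨n, hn⟩ := ENat.ne_top_iff_exists.mp (Ideal.height_ne_top_of_isPrime (I := P))
    rw [← hn] at h1 hpos ⊢
    norm_cast at h1 hpos ⊢
    have hle : min 2 n ≤ 1 := by
      have : ((min 2 n : ℕ) : WithBot ℕ∞) ≤ ((1 : ℕ∞) : WithBot ℕ∞) := by
        refine le_trans ?_ h1
        rw [Nat.mono_cast.map_min]
        rfl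
      exact_mod_cast this
    omega
  · intro h p _
    rw [hdim, hdepth]
    rcases eq_or_ne p ⊥ with rfl | hp
    · rw [Ideal.height_bot]
      exact (min_le_right _ _).trans (WithBot.coe_le_coe.2 zero_le)
    obtain ⟨a, hap, ha⟩ := Submodule.exists_mem_ne_zero_of_ne_bot hp
    obtain ⟨n, hn⟩ := exists_depth_eq (A := Localization.AtPrime p) (M := Localization.AtPrime p)
    rw [hn]
    have h0 : LocCoh.depth (Localization.AtPrime p) (Localization.AtPrime p) ≠ 0 := by
      have hx : algebraMap R (Localization.AtPrime p) a ∈ maximalIdeal (Localization.AtPrime p) :=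
        (IsLocalization.AtPrime.to_map_mem_maximal_iff _ p a).2 hap
      have hne : algebraMap R (Localization.AtPrime p) a ≠ 0 := fun h =>
        ha (IsLocalization.injective (Localization.AtPrime p) p.primeCompl_le_nonZeroDivisors (by rw [h, map_zero]))
      have hreg : IsSMulRegular (Localization.AtPrime p) (algebraMap R (Localization.AtPrime p) a) :=
        IsSMulRegular.of_right_eq_zero_of_smul fun y hy => (mul_eq_zero.1 hy).resolve_left hne
      rw [← depth_quotSMulTop_add_one hx hreg]
      simp
    rcases lt_trichotomy n 1 with hlt | rfl | hgt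
    · exact absurd (by rw [hn, show n = 0 by omega]; rfl) h0
    · refine (min_le_right _ _).trans ?_
      rw [h a ha p ((depth_eq_one_iff p ha hap).1 (by rw [hn]; rfl))]
      rfl
    · refine (min_le_left _ _).trans ?_
      exact WithBot.coe_le_coe.2 (Nat.cast_le.2 (show 2 ≤ n by omega))

end Groth.Agent.Grass54
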