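import Mathlib

/-!
Hilbert function of the Stanley–Reisner ring of the chains of a finite order.
-/

set_option autoImplicit false
universe u v

open MvPolynomial

namespace Groth.Agent.Grass54

variable (K : Type u) [Field K] (L : Type v) [PartialOrder L]

/-- the ideal of incomparable pairs -/
noncomputable def srI : Ideal (MvPolynomial L K) :=
  Ideal.span {f : MvPolynomial L K | ∃ a b : L, ¬ a ≤ b ∧ ¬ b ≤ a ∧ f = X a * X b}

theorem mem_srI {f : MvPolynomial L K} :
    f ∈ srI K L ↔ ∀ d ∈ f.support, ¬ IsChain (fun a b : L => a ≤ b) (↑d.support : Set L) := by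
  classical
  have hgen : {f : MvPolynomial L K | ∃ a b : L, ¬ a ≤ b ∧ ¬ b ≤ a ∧ f = X a * X b} =
      (fun s => monomial s (1 : K)) ''
        {s | ∃ a b : L, ¬ a ≤ b ∧ ¬ b ≤ a ∧ s = Finsupp.single a 1 + Finsupp.single b 1} := by
    ext g
    constructor
    · rintro ⟨a, b, h1, h2, rfl⟩
      exact ⟨_, ⟨a, b, h1, h2, rfl⟩, by simp [X, monomial_mul]⟩
    · rintro ⟨s, ⟨a, b, h1, h2, rfl⟩, rfl⟩
      exact ⟨a, b, h1, h2, by simp [X, monomial_mul]⟩
  rw [srI, hgen, mem_ideal_span_monomial_image]
  refine forall₂_congr fun d _ => ⟨?_, ?_⟩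
  · rintro ⟨s, ⟨a, b, h1, h2, rfl⟩, hle⟩ hch
    have hab : a ≠ b := fun e => h1 (e ▸ le_rfl)
    have ha : a ∈ d.support := by
      have := hle a
      simp [Finsupp.single_eq_of_ne hab] at this
      simp; omega
    have hb : b ∈ d.support := by
      have := hle b
      simp [Finsupp.single_eq_of_ne hab.symm] at this
      simp; omega
    exact (hch (Finset.mem_coe.2 ha) (Finset.mem_coe.2 hb) hab).elim h1 h2
  · intro hch
    rw [IsChain, Set.Pairwise] at hch
    push Not at hch
    obtain ⟨a, ha, b, hb, hne, h1, h2⟩ := hch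
    refine ⟨_, ⟨a, b, h1, h2, rfl⟩, fun x => ?_⟩
    simp only [Finset.mem_coe, Finsupp.mem_support_iff] at ha hb
    rw [Finsupp.add_apply, Finsupp.single_apply, Finsupp.single_apply]
    split_ifs with e1 e2 e2
    · exact absurd (e1.trans e2.symm) hne
    · subst e1; omega
    · subst e2; omega
    · omega

variable [Fintype L]

theorem finrank_chain_monomials (m : ℕ) :
    Module.finrank K ((MvPolynomial.homogeneousSubmodule L K m).map
        (Ideal.Quotient.mkₐ K (srI K L)).toLinearMap) =
      Nat.card {d : L →₀ ℕ | d.degree = m ∧ IsChain (fun a b : L => a ≤ b) (↑d.support : Set L)} := by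
  classical
  set G : Set (L →₀ ℕ) := {d | d.degree = m ∧ IsChain (fun a b : L => a ≤ b) (↑d.support : Set L)}
  let φ : restrictSupport K G →ₗ[K] (MvPolynomial L K ⧸ srI K L) :=
    (Ideal.Quotient.mkₐ K (srI K L)).toLinearMap ∘ₗ (restrictSupport K G).subtype
  have hinj : Function.Injective φ := by
    rw [injective_iff_map_eq_zero]
    rintro ⟨f, hf⟩ h
    have hI := (mem_srI K L).1 (Ideal.Quotient.eq_zero_iff_mem.1 h)
    refine Subtype.ext (MvPolynomial.support_eq_empty.1 (Finset.eq_empty_of_forall_notMem fun d hd => ?_))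
    exact hI d hd ((mem_restrictSupport_iff K).1 hf hd).2
  have hrange : LinearMap.range φ = (MvPolynomial.homogeneousSubmodule L K m).map
      (Ideal.Quotient.mkₐ K (srI K L)).toLinearMap := by
    ext y
    constructor
    · rintro ⟨⟨f, hf⟩, rfl⟩
      refine ⟨f, fun d hd => ?_, rfl⟩
      have := ((mem_restrictSupport_iff K).1 hf (mem_support_iff.2 hd)).1
      rw [← this, Finsupp.degree_eq_weight_one]
      rfl
    · rintro ⟨f, hf, rfl⟩
      let g : MvPolynomial L K := ∑ d ∈ f.support.filter (· ∈ G), monomial d (coeff d f)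
      have hg : g ∈ restrictSupport K G := sum_mem fun d hd =>
        (mem_restrictSupport_iff K).2 fun e he => by
          have := Finset.mem_singleton.1 (support_monomial_subset he)
          rw [this]; exact (Finset.mem_filter.1 hd).2
      refine ⟨⟨g, hg⟩, ?_⟩
      change Ideal.Quotient.mk _ g = Ideal.Quotient.mk _ f
      rw [Ideal.Quotient.eq, ← neg_mem_iff, neg_sub]
      have hsplit : f - g = ∑ d ∈ f.support.filter (fun d => ¬ d ∈ G), monomial d (coeff d f) := by
        rw [sub_eq_iff_eq_add']
        conv_lhs => rw [f.as_sum, ← Finset.sum_filter_add_sum_filter_not f.support (· ∈ G)]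
      rw [hsplit]
      refine sum_mem fun d hd => (mem_srI K L).2 fun e he hch => ?_
      have := Finset.mem_singleton.1 (support_monomial_subset he)
      subst this
      refine (Finset.mem_filter.1 hd).2 ⟨?_, hch⟩
      rw [Finsupp.degree_eq_weight_one]
      exact hf (mem_support_iff.1 (Finset.mem_filter.1 hd).1)
  rw [← hrange, ← (LinearEquiv.ofInjective φ hinj).finrank_eq,
    Module.finrank_eq_nat_card_basis (basisRestrictSupport K G)]

theorem card_fibre (m : ℕ) (hm : 1 ≤ m) [DecidableEq L] (C : Finset L) (hC : C.Nonempty) :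
    (((Finset.univ : Finset L).finsuppAntidiag m).filter fun d => d.support = C).card =
      Nat.choose (m - 1) (C.card - 1) := by
  classical
  have hsum : ∀ d : L →₀ ℕ, d ∈ (Finset.univ : Finset L).finsuppAntidiag m ↔ ∑ a, d a = m := by
    intro d
    simp [Finset.mem_finsuppAntidiag]
  by_cases hle : C.card ≤ m
  swap
  · rw [Nat.choose_eq_zero_of_lt (by omega), Finset.card_eq_zero, Finset.filter_eq_empty_iff]
    intro d hd he
    have h1 : ∑ a ∈ C, (1 : ℕ) ≤ ∑ a ∈ C, d a :=
      Finset.sum_le_sum fun a ha => by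
        rw [← he, Finsupp.mem_support_iff] at ha; omega
    have h2 : ∑ a ∈ C, d a ≤ m := by
      rw [← (hsum d).1 hd]
      exact Finset.sum_le_sum_of_subset (Finset.subset_univ C)
    simp at h1
    omega
  let ind : L →₀ ℕ := Finsupp.indicator C (fun _ _ => 1)
  have hind : ∀ a, ind a = if a ∈ C then 1 else 0 := fun a => by
    simp [ind, Finsupp.indicator_apply]
  have hindsum : ∑ a, ind a = C.card := by simp [hind]
  have hcard : (((Finset.univ : Finset L).finsuppAntidiag m).filter fun d => d.support = C).card =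
      (C.finsuppAntidiag (m - C.card)).card := by
    refine Finset.card_bij (fun d _ => d - ind) ?_ ?_ ?_
    · intro d hd
      obtain ⟨hd1, hd2⟩ := Finset.mem_filter.1 hd
      rw [Finset.mem_finsuppAntidiag]
      refine ⟨?_, fun a ha => ?_⟩
      · have hs : ∑ a ∈ C, d a = m := by
          rw [← (hsum d).1 hd1]
          exact Finset.sum_subset (Finset.subset_univ C) fun a _ ha => by
            rwa [← hd2, Finsupp.notMem_support_iff] at ha
        calc ∑ a ∈ C, (d - ind) a = ∑ a ∈ C, (d a - 1) :=
              Finset.sum_congr rfl fun a ha => by rw [Finsupp.tsub_apply, hind, if_pos ha]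
          _ = m - C.card := by
              rw [Finset.sum_tsub_distrib _ (fun a ha => ?_), hs]
              · simp
              · rw [← hd2, Finsupp.mem_support_iff] at ha; omega
      · rw [← hd2]
        exact Finsupp.support_tsub ha
    · intro d hd d' hd' he
      ext a
      have h := DFunLike.congr_fun he a
      rw [Finsupp.tsub_apply, Finsupp.tsub_apply, hind] at h
      have h1 : a ∈ C ↔ d a ≠ 0 := by rw [← (Finset.mem_filter.1 hd).2, Finsupp.mem_support_iff]
      have h2 : a ∈ C ↔ d' a ≠ 0 := by rw [← (Finset.mem_filter.1 hd').2, Finsupp.mem_support_iff]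
      split_ifs at h with ha
      · have := h1.1 ha; have := h2.1 ha; omega
      · omega
    · intro e he
      obtain ⟨he1, he2⟩ := Finset.mem_finsuppAntidiag.1 he
      refine ⟨e + ind, Finset.mem_filter.2 ⟨(hsum _).2 ?_, ?_⟩, ?_⟩
      · simp only [Finsupp.add_apply, Finset.sum_add_distrib, hindsum]
        have : ∑ a, e a = ∑ a ∈ C, e a := (Finset.sum_subset (Finset.subset_univ C) fun a _ ha =>
          Finsupp.notMem_support_iff.1 fun h => ha (he2 h)).symm
        rw [this, he1]; omega
      · ext a
        rw [Finsupp.mem_support_iff, Finsupp.add_apply, hind]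
        constructor
        · intro h
          by_contra ha
          rw [if_neg ha, Finsupp.notMem_support_iff.1 fun h => ha (he2 h)] at h
          exact h rfl
        · intro ha; rw [if_pos ha]; omega
      · ext a
        simp
  rw [hcard, Finset.card_finsuppAntidiag_nat_eq_choose]
  have := hC.card_pos
  rw [show C.card + (m - C.card) - 1 = m - 1 by omega]
  exact Nat.choose_symm_of_eq_add (by omega)

theorem hilbert_sr (m : ℕ) (hm : 1 ≤ m) :
    Module.finrank K ((MvPolynomial.homogeneousSubmodule L K m).map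
        (Ideal.Quotient.mkₐ K (srI K L)).toLinearMap) =
      ∑ᶠ C : {C : Finset L // C.Nonempty ∧ IsChain (fun a b : L => a ≤ b) (↑C : Set L)},
        Nat.choose (m - 1) (C.1.card - 1) := by
  classical
  rw [finrank_chain_monomials K L m, finsum_eq_sum_of_fintype]
  set T := ((Finset.univ : Finset L).finsuppAntidiag m).filter
    fun d => IsChain (fun a b : L => a ≤ b) (↑d.support : Set L) with hT
  have hset : {d : L →₀ ℕ | d.degree = m ∧ IsChain (fun a b : L => a ≤ b) (↑d.support : Set L)} = ↑T := by
    ext d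
    simp [hT, Finset.mem_finsuppAntidiag, Finsupp.degree_eq_sum]
  rw [hset, Nat.card_coe_set_eq, Set.ncard_coe_finset]
  have hP : ∀ C : Finset L, C ∈ (Finset.univ : Finset (Finset L)).filter (fun C : Finset L => C.Nonempty ∧ IsChain (fun a b : L => a ≤ b) (↑C : Set L)) ↔
      (C.Nonempty ∧ IsChain (fun a b : L => a ≤ b) (↑C : Set L)) := fun C => by simp
  rw [← Finset.sum_subtype _ hP (fun C => Nat.choose (m - 1) (C.card - 1)),
    Finset.card_eq_sum_card_fiberwise (f := Finsupp.support)
      (t := (Finset.univ : Finset (Finset L)).filter fun C : Finset L => C.Nonempty ∧ IsChain (fun a b : L => a ≤ b) (↑C : Set L))]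
  · refine Finset.sum_congr rfl fun C hC => ?_
    obtain ⟨hne, hch⟩ := (hP C).1 hC
    rw [← card_fibre L m hm C hne]
    congr 1
    ext d
    simp only [hT, Finset.mem_filter]
    exact ⟨fun ⟨⟨h1, _⟩, h3⟩ => ⟨h1, h3⟩, fun ⟨h1, h3⟩ => ⟨⟨h1, h3 ▸ hch⟩, h3⟩⟩
  · intro d hd
    rw [Finset.mem_coe, Finset.mem_filter] at hd
    refine (hP _).2 ⟨Finsupp.support_nonempty_iff.2 ?_, hd.2⟩
    rintro rfl
    simp [Finset.mem_finsuppAntidiag] at hd
    omega

end Groth.Agent.Grass54
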