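import Mathlib
import Groth.Agent.Grass54.Schubert

/-!
Factoriality of Schubert cones.
-/

set_option autoImplicit false
universe u

open MvPolynomial W4bk4grassmannian Finset Matrix

namespace Groth.Agent.Grass54

variable {d n : ℕ}

theorem det_eq_zero_of_support {R : Type u} [CommRing R] (M : Matrix (Fin n) (Fin d) R) (τ : Idx d n)
    (hM : ∀ s t, τ.1 t < s → M s t = 0) {θ : Idx d n} (h : ¬ θ ≤ τ) : (M.submatrix θ.1 id).det = 0 := by
  classical
  rw [Matrix.det_apply]
  obtain ⟨t, ht⟩ : ∃ t, τ.1 t < θ.1 t := by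
    by_contra hc; push Not at hc; exact h hc
  refine Finset.sum_eq_zero fun σ _ => ?_
  obtain ⟨k, hk, hσk⟩ : ∃ k, k ≤ t ∧ t ≤ σ k := by
    by_contra hc
    push Not at hc
    have h1 : ((Finset.Iic t).image σ).card ≤ (Finset.Iio t).card :=
      Finset.card_le_card fun x hx => by
        obtain ⟨k, hk, rfl⟩ := Finset.mem_image.1 hx
        exact Finset.mem_Iio.2 (hc k (Finset.mem_Iic.1 hk))
    rw [Finset.card_image_of_injective _ σ.injective, Fin.card_Iic, Fin.card_Iio] at h1
    omega
  rw [Finset.prod_eq_zero (Finset.mem_univ k), smul_zero]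
  exact hM _ _ (lt_of_le_of_lt (τ.2.monotone hk) (lt_of_lt_of_le ht (θ.2.monotone hσk)))

variable (F : Type u) [Field F]

/-- The free entries of the cell of `τ`. -/
abbrev CellVar (τ : Idx d n) : Type := {p : Fin n × Fin d // p.1 < τ.1 p.2 ∧ p.1 ∉ Set.range τ.1}

/-- The coordinate ring of the cone over the cell of `τ`. -/
abbrev CellCone (τ : Idx d n) : Type u := MvPolynomial (Option (CellVar τ)) F

open scoped Classical in
/-- The normal form of a matrix in the cell of `τ`. -/
noncomputable def cellNormal (τ : Idx d n) : Matrix (Fin n) (Fin d) (CellCone F τ) :=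
  Matrix.of fun s t => if s = τ.1 t then 1 else
    if h : s < τ.1 t ∧ s ∉ Set.range τ.1 then X (some ⟨(s, t), h⟩) else 0

/-- The scaled normal form. -/
noncomputable def cellScaled (τ : Idx d n) : Matrix (Fin n) (Fin d) (CellCone F τ) :=
  Matrix.of fun s t => (if t.val = 0 then X none else 1) * cellNormal F τ s t

/-- The chart. -/
noncomputable def chart (τ : Idx d n) : PlRing F d n →ₐ[F] CellCone F τ :=
  MvPolynomial.aeval fun θ : Idx d n => ((cellScaled F τ).submatrix θ.1 id).det

theorem chart_X (hd : 0 < d) (τ θ : Idx d n) :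
    chart F τ (X θ) = X none * ((cellNormal F τ).submatrix θ.1 id).det := by
  classical
  rw [chart, aeval_X]
  have h := Matrix.det_mul_row (fun t : Fin d => if t.val = 0 then (X none : CellCone F τ) else 1)
    ((cellNormal F τ).submatrix θ.1 id)
  rw [Finset.prod_eq_single (⟨0, hd⟩ : Fin d) (fun t _ ht => if_neg fun h0 => ht (Fin.ext h0))
    (fun h => absurd (Finset.mem_univ _) h), if_pos rfl] at h
  exact h

theorem cellNormal_support (τ : Idx d n) (s : Fin n) (t : Fin d) (h : τ.1 t < s) : cellNormal F τ s t = 0 := by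
  classical
  simp only [cellNormal, Matrix.of_apply]
  rw [if_neg h.ne', dif_neg fun h' => absurd h'.1 (not_lt.2 h.le)]

theorem cellNormal_submatrix_self (τ : Idx d n) : (cellNormal F τ).submatrix τ.1 id = 1 := by
  classical
  ext a t
  simp only [cellNormal, Matrix.submatrix_apply, Matrix.of_apply, id, Matrix.one_apply, τ.2.injective.eq_iff]
  split_ifs with h1 h2
  · rfl
  · exact absurd ⟨a, rfl⟩ h2.2
  · rfl

theorem chart_self (hd : 0 < d) (τ : Idx d n) : chart F τ (X τ) = X none := by
  rw [chart_X F hd, cellNormal_submatrix_self, Matrix.det_one, mul_one]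

variable [Infinite F]

theorem chart_eq_zero (hd : 0 < d) (hdn : d < n) (τ : Idx d n) {f : PlRing F d n}
    (hf : f ∈ schubertVanishing F d n τ) : chart F τ f = 0 := by
  classical
  rw [← plIdeal_eq F hd hdn τ] at hf
  have hle : plIdeal F τ ≤ RingHom.ker (chart F τ).toRingHom := by
    rw [plIdeal, Ideal.span_le]
    rintro g (⟨i, j, r, -, rfl⟩ | ⟨φ, hφ, rfl⟩)
    · exact aeval_shuffleRel (cellScaled F τ) i j r
    · change chart F τ (X φ) = 0
      rw [chart_X F hd, det_eq_zero_of_support _ τ (cellNormal_support F τ) hφ, mul_zero]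
  exact hle hf

theorem mem_of_chart_eq_zero (hd : 0 < d) (hdn : d < n) (τ : Idx d n) {f : PlRing F d n}
    (hf : chart F τ f = 0) : f ∈ schubertVanishing F d n τ := by
  classical
  set L := FractionRing (MatRing F d n)
  set P : Matrix (Fin n) (Fin d) L := (pat F (botIdx hdn) τ).map (algebraMap (MatRing F d n) L)
  set U := P.submatrix τ.1 id
  have hinj : Function.Injective (algebraMap (MatRing F d n) L) := IsFractionRing.injective _ _
  have hminor : ∀ θ : Idx d n, (P.submatrix θ.1 id).det = algebraMap (MatRing F d n) L (patMap F (botIdx hdn) τ (X θ)) :=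
    fun θ => by rw [patMap_X, RingHom.map_det]; rfl
  have hΔ : U.det ≠ 0 := by
    rw [hminor, ← map_zero (algebraMap (MatRing F d n) L)]
    refine hinj.ne fun h => ?_
    have h1 := (lead_patMap F (botIdx_le hdn τ) (le_refl τ)).1
    rw [h, coeff_zero] at h1
    exact zero_ne_one h1
  set P' : Matrix (Fin n) (Fin d) L := P * U⁻¹
  have hrow : ∀ (s : Fin n) (t : Fin d),
      P' s t = U.det⁻¹ * (P.submatrix (Function.update τ.1 t s) id).det := by
    intro s t
    have h1 : (P.submatrix (Function.update τ.1 t s) id) = U.updateRow t (P s) := by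
      ext a b
      rcases eq_or_ne a t with rfl | ha
      · simp
      · simp [U, Function.update_of_ne ha, Matrix.updateRow_ne ha]
    rw [h1, ← Matrix.cramer_transpose_apply, Matrix.cramer_eq_adjugate_mulVec, ← Matrix.adjugate_transpose,
      Matrix.mulVec_transpose]
    simp only [P', Matrix.inv_def, Matrix.mul_smul, Matrix.smul_apply, smul_eq_mul]
    rw [Ring.inverse_eq_inv']
    rfl
  have hzero : ∀ (s : Fin n) (t : Fin d), τ.1 t < s → P' s t = 0 := by
    intro s t hs
    rw [hrow]
    have hc : MvPolynomial.aeval (fun θ : Idx d n => (P.submatrix θ.1 id).det)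
        (coord F d n (Function.update τ.1 t s)) = (P.submatrix (Function.update τ.1 t s) id).det := aeval_coord P _
    rw [← hc]
    unfold coord
    split_ifs with h
    · rw [map_mul, aeval_X, hminor (sortIdx d n _ h), patMap_eq_zero_of_not_le F (θ := sortIdx d n _ h), map_zero, mul_zero, mul_zero]
      intro hle
      have hw : wsum (sortIdx d n _ h) ≤ wsum τ := Finset.sum_le_sum fun a _ => hle a
      rw [wsum_sortIdx, wsum, ← Finset.add_sum_erase _ _ (Finset.mem_univ t),
        ← Finset.add_sum_erase _ _ (Finset.mem_univ t), Function.update_self,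
        Finset.sum_congr rfl fun a ha => by rw [Function.update_of_ne (Finset.mem_erase.1 ha).1]] at hw
      have := Fin.lt_def.1 hs
      omega
    · rw [map_zero, mul_zero]
  have hτ : P'.submatrix τ.1 id = 1 := by
    change (P.submatrix τ.1 id) * U⁻¹ = 1
    exact Matrix.mul_nonsing_inv _ (Ne.isUnit hΔ)
  let ρ : CellCone F τ →ₐ[F] L :=
    MvPolynomial.aeval fun o => o.elim U.det fun p => P' p.1.1 p.1.2
  have hρ : ∀ s t, ρ (cellNormal F τ s t) = P' s t := by
    intro s t
    simp only [cellNormal, Matrix.of_apply]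
    split_ifs with h1 h2
    · rw [map_one, h1]
      have := congrFun (congrFun hτ t) t
      simp only [Matrix.submatrix_apply, id, Matrix.one_apply_eq] at this
      exact this.symm
    · simp [ρ]
    · rw [map_zero]
      by_cases hr : s ∈ Set.range τ.1
      · obtain ⟨a, rfl⟩ := hr
        have := congrFun (congrFun hτ a) t
        simp only [Matrix.submatrix_apply, id] at this
        rw [Matrix.one_apply_ne (fun e : a = t => h1 (congrArg τ.1 e))] at this
        exact this.symm
      · exact (hzero s t (lt_of_le_of_ne (not_lt.1 fun hlt => h2 ⟨hlt, hr⟩) (Ne.symm h1))).symm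
  have hcomp : ρ.comp (chart F τ) = (IsScalarTower.toAlgHom F (MatRing F d n) L).comp (patMap F (botIdx hdn) τ) := by
    refine MvPolynomial.algHom_ext fun θ => ?_
    rw [AlgHom.comp_apply, AlgHom.comp_apply, chart_X F hd, map_mul, AlgHom.map_det]
    have hmat : ρ.mapMatrix ((cellNormal F τ).submatrix θ.1 id) = (P.submatrix θ.1 id) * U⁻¹ := by
      ext a t
      exact hρ _ _
    rw [hmat, Matrix.det_mul, Matrix.det_nonsing_inv, Ring.inverse_eq_inv']
    have hy : ρ (X none) = U.det := aeval_X _ none
    rw [hy, IsScalarTower.toAlgHom_apply, ← hminor θ, mul_left_comm, mul_inv_cancel₀ hΔ, mul_one]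
  have h0 := DFunLike.congr_fun hcomp f
  rw [AlgHom.comp_apply, AlgHom.comp_apply, hf, map_zero, IsScalarTower.toAlgHom_apply] at h0
  rw [schubertVanishing_eq_ker F hd hdn τ]
  exact hinj (h0.symm.trans (map_zero _).symm)

theorem exists_mul_pow_mem_range (hd : 0 < d) (τ : Idx d n) (b : CellCone F τ) :
    ∃ (N : ℕ) (f : PlRing F d n), chart F τ f = b * X none ^ N := by
  classical
  induction b using MvPolynomial.induction_on with
  | C a => exact ⟨0, C a, by rw [pow_zero, mul_one]; exact (chart F τ).commutes a⟩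
  | add p q hp hq =>
    obtain ⟨N, f, hf⟩ := hp
    obtain ⟨M, g, hg⟩ := hq
    refine ⟨N + M, f * X τ ^ M + g * X τ ^ N, ?_⟩
    rw [map_add, map_mul, map_mul, map_pow, map_pow, chart_self F hd, hf, hg]
    ring
  | mul_X p o hp =>
    obtain ⟨N, f, hf⟩ := hp
    cases o with
    | none => exact ⟨N, f * X τ, by rw [map_mul, chart_self F hd, hf]; ring⟩
    | some c =>
      obtain ⟨⟨s, t⟩, hs⟩ := c
      refine ⟨N + 1, f * coord F d n (Function.update τ.1 t s), ?_⟩
      have hc : chart F τ (coord F d n (Function.update τ.1 t s)) =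
          ((cellScaled F τ).submatrix (Function.update τ.1 t s) id).det := aeval_coord _ _
      have hscale := Matrix.det_mul_row (fun t : Fin d => if t.val = 0 then (X none : CellCone F τ) else 1)
        ((cellNormal F τ).submatrix (Function.update τ.1 t s) id)
      rw [Finset.prod_eq_single (⟨0, hd⟩ : Fin d) (fun t _ ht => if_neg fun h0 => ht (Fin.ext h0))
        (fun h => absurd (Finset.mem_univ _) h), if_pos rfl] at hscale
      have hdet : ((cellNormal F τ).submatrix (Function.update τ.1 t s) id).det = X (some ⟨(s, t), hs⟩) := by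
        have h1 : (cellNormal F τ).submatrix (Function.update τ.1 t s) id =
            (1 : Matrix (Fin d) (Fin d) (CellCone F τ)).updateRow t (cellNormal F τ s) := by
          ext a b
          rcases eq_or_ne a t with rfl | ha
          · simp
          · rw [Matrix.updateRow_ne ha, ← cellNormal_submatrix_self F τ]
            simp [Function.update_of_ne ha]
        rw [h1, ← Matrix.cramer_transpose_apply, Matrix.transpose_one, Matrix.cramer_one]
        simp only [Module.End.one_apply, cellNormal, Matrix.of_apply]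
        rw [if_neg hs.1.ne, dif_pos hs]
      rw [map_mul, hf, hc]
      change p * X none ^ N * (Matrix.of fun i j => (if j.val = 0 then (X none : CellCone F τ) else 1) *
        ((cellNormal F τ).submatrix (Function.update τ.1 t s) id) i j).det = _
      rw [hscale, hdet]
      ring

theorem ufd_of_prime_X (hd : 0 < d) (hdn : d < n) (τ : Idx d n)
    (hp : Prime (Ideal.Quotient.mk (schubertVanishing F d n τ) (X τ))) :
    UniqueFactorizationMonoid (PlRing F d n ⧸ schubertVanishing F d n τ) := by
  classical
  haveI := schubertVanishing_isPrime F hd hdn τ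
  set A := PlRing F d n ⧸ schubertVanishing F d n τ
  set x : A := Ideal.Quotient.mk _ (X τ)
  set By := Localization.Away (X none : CellCone F τ)
  let ψ : A →+* CellCone F τ :=
    Ideal.Quotient.lift _ (chart F τ).toRingHom fun f hf => chart_eq_zero F hd hdn τ hf
  have hψ : ∀ f, ψ (Ideal.Quotient.mk _ f) = chart F τ f := fun _ => rfl
  have hψinj : Function.Injective ψ := by
    rw [injective_iff_map_eq_zero]
    intro a ha
    obtain ⟨f, rfl⟩ := Ideal.Quotient.mk_surjective a
    exact Ideal.Quotient.eq_zero_iff_mem.2 (mem_of_chart_eq_zero F hd hdn τ ha)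
  have hψx : ψ x = X none := chart_self F hd τ
  have hle : Submonoid.powers (X none : CellCone F τ) ≤ nonZeroDivisors _ :=
    powers_le_nonZeroDivisors_of_noZeroDivisors (X_ne_zero _)
  haveI : IsDomain By := IsLocalization.isDomain_localization hle
  have hByinj : Function.Injective (algebraMap (CellCone F τ) By) := IsLocalization.injective By hle
  letI : Algebra A By := ((algebraMap (CellCone F τ) By).comp ψ).toAlgebra
  haveI : IsLocalization.Away x By := by
    refine ⟨⟨?_, ?_, ?_⟩⟩
    · rintro ⟨_, k, rfl⟩
      change IsUnit (algebraMap (CellCone F τ) By (ψ (x ^ k)))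
      rw [map_pow, hψx]
      exact IsLocalization.map_units By (⟨_, k, rfl⟩ : Submonoid.powers (X none : CellCone F τ))
    · intro z
      obtain ⟨⟨b, ⟨_, k, rfl⟩⟩, hb⟩ := IsLocalization.surj (Submonoid.powers (X none : CellCone F τ)) z
      obtain ⟨N, f, hf⟩ := exists_mul_pow_mem_range F hd τ b
      refine ⟨⟨Ideal.Quotient.mk _ f, ⟨x ^ (k + N), k + N, rfl⟩⟩, ?_⟩
      change z * algebraMap _ By (ψ (x ^ (k + N))) = algebraMap _ By (ψ (Ideal.Quotient.mk _ f))
      simp only at hb
      rw [hψ, hf, map_pow, hψx, pow_add, map_mul, ← mul_assoc, hb, ← map_mul]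
    · intro a b h
      exact ⟨1, by rw [hψinj (hByinj h)]⟩
  have hB : UniqueFactorizationMonoid By :=
    UniqueFactorizationMonoid.of_isLocalization (Submonoid.powers (X none : CellCone F τ)) By
  exact (UniqueFactorizationMonoid.iff_localizationAway_of_prime hp).2
    ((IsLocalization.algEquiv (Submonoid.powers x) By (Localization.Away x)).toMulEquiv.uniqueFactorizationMonoid hB)

theorem degree_dvd (hd : 0 < d) (hdn : d < n) (τ : Idx d n) (f : PlRing F d n) {e : (Fin n × Fin d) →₀ ℕ}
    (he : (patMap F (botIdx hdn) τ f).coeff e ≠ 0) : d ∣ e.degree := by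
  classical
  by_contra hdvd
  refine he ?_
  induction f using MvPolynomial.induction_on' with
  | monomial m a =>
    have hhom : (patMap F (botIdx hdn) τ (monomial m a)).IsHomogeneous (d * m.degree) := by
      rw [patMap, aeval_monomial]
      have hdet : ∀ θ : Idx d n, (((pat F (botIdx hdn) τ).submatrix θ.1 id).det).IsHomogeneous d := by
        intro θ
        rw [Matrix.det_apply]
        refine IsHomogeneous.sum _ _ _ fun σ _ => ?_
        rw [Units.smul_def, zsmul_eq_mul, ← map_intCast (C : F →+* MatRing F d n)]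
        refine IsHomogeneous.C_mul ?_ _
        have := IsHomogeneous.prod (Finset.univ : Finset (Fin d))
          (fun t => (pat F (botIdx hdn) τ).submatrix θ.1 id (σ t) t) (fun _ => 1) fun t _ => by
            simp only [pat, Matrix.submatrix_apply, Matrix.of_apply, id]
            split_ifs
            · exact isHomogeneous_X _ _
            · exact isHomogeneous_zero _ _ _
        simpa using this
      refine IsHomogeneous.C_mul ?_ a
      have := IsHomogeneous.prod m.support (fun θ => ((pat F (botIdx hdn) τ).submatrix θ.1 id).det ^ m θ)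
        (fun θ => d * m θ) fun θ _ => (hdet θ).pow _
      rw [Finsupp.degree_apply, Finset.mul_sum]
      exact this
    exact hhom.coeff_eq_zero fun h => hdvd ⟨_, h⟩
  | add p q hp hq =>
    rw [map_add, coeff_add]
    by_cases hp0 : (patMap F (botIdx hdn) τ p).coeff e = 0
    · by_cases hq0 : (patMap F (botIdx hdn) τ q).coeff e = 0
      · rw [hp0, hq0, add_zero]
      · exact absurd (hq hq0) hq0
    · exact absurd (hp hp0) hp0

theorem irreducible_X (hd : 0 < d) (hdn : d < n) (τ : Idx d n) :
    Irreducible (Ideal.Quotient.mk (schubertVanishing F d n τ) (X τ)) := by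
  classical
  haveI := schubertVanishing_isPrime F hd hdn τ
  set J := schubertVanishing F d n τ
  set φ := patMap F (botIdx hdn) τ
  have hlead := lead_patMap F (botIdx_le hdn τ) (le_refl τ)
  have hφhom : (φ (X τ)).IsHomogeneous d := by
    intro e he
    have := degree_dvd F hd hdn τ (X τ) he
    rw [Finsupp.degree_eq_weight_one] at this
    simp only [φ, patMap_X, Matrix.det_apply, coeff_sum] at he
    obtain ⟨σ, -, hσ⟩ := Finset.exists_ne_zero_of_sum_ne_zero he
    rw [Units.smul_def, coeff_smul] at hσ
    have h2 : (∏ t, ((pat F (botIdx hdn) τ).submatrix τ.1 id) (σ t) t).IsHomogeneous d := by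
      have := IsHomogeneous.prod (Finset.univ : Finset (Fin d))
        (fun t => (pat F (botIdx hdn) τ).submatrix τ.1 id (σ t) t) (fun _ => 1) fun t _ => by
          simp only [pat, Matrix.submatrix_apply, Matrix.of_apply, id]
          split_ifs
          · exact isHomogeneous_X _ _
          · exact isHomogeneous_zero _ _ _
      simpa using this
    exact h2 (right_ne_zero_of_smul hσ)
  have hφ0 : φ (X τ) ≠ 0 := fun h => by
    have h1 := hlead.1
    rw [show patMap F (botIdx hdn) τ (X τ) = 0 from h, coeff_zero] at h1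
    exact zero_ne_one h1
  have key : ∀ f : PlRing F d n, (φ f).totalDegree = 0 → φ f ≠ 0 → IsUnit (Ideal.Quotient.mk J f) := by
    intro f h h0
    have hC := totalDegree_eq_zero_iff_eq_C.1 h
    set c := coeff 0 (φ f)
    have hc : c ≠ 0 := fun hc => h0 (by rw [hC, hc, map_zero])
    have hmem : f - C c ∈ J := by
      change f - C c ∈ schubertVanishing F d n τ
      rw [schubertVanishing_eq_ker F hd hdn τ, RingHom.mem_ker, AlgHom.toRingHom_eq_coe, RingHom.coe_coe, map_sub,
        sub_eq_zero]
      exact hC.trans (φ.commutes c).symm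
    rw [Ideal.Quotient.eq.2 hmem]
    exact ((Ne.isUnit hc).map C).map _
  refine irreducible_iff.2 ⟨fun hu => ?_, fun a b hab => ?_⟩
  · obtain ⟨y, hy⟩ := hu.exists_right_inv
    obtain ⟨y, rfl⟩ := Ideal.Quotient.mk_surjective y
    rw [← map_mul, ← map_one (Ideal.Quotient.mk J), Ideal.Quotient.eq] at hy
    have h := schubertVanishing_le_ker F (botIdx hdn) τ hy
    rw [map_sub, map_mul, map_one, sub_eq_zero] at h
    have hyne : φ y ≠ 0 := fun h' => by rw [h', mul_zero] at h; exact zero_ne_one h
    have hdeg := congrArg MvPolynomial.totalDegree h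
    rw [totalDegree_mul_of_isDomain hφ0 hyne, hφhom.totalDegree hφ0, totalDegree_one] at hdeg
    omega
  · obtain ⟨f, rfl⟩ := Ideal.Quotient.mk_surjective a
    obtain ⟨g, rfl⟩ := Ideal.Quotient.mk_surjective b
    rw [← map_mul, Ideal.Quotient.eq] at hab
    have h := schubertVanishing_le_ker F (botIdx hdn) τ hab
    rw [map_sub, map_mul, sub_eq_zero] at h
    have hf0 : φ f ≠ 0 := fun h' => hφ0 (by rw [h, h', zero_mul])
    have hg0 : φ g ≠ 0 := fun h' => hφ0 (by rw [h, h', mul_zero])
    have hdeg := congrArg MvPolynomial.totalDegree h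
    rw [hφhom.totalDegree hφ0, totalDegree_mul_of_isDomain hf0 hg0] at hdeg
    have hdvd : ∀ f : PlRing F d n, φ f ≠ 0 → d ∣ (φ f).totalDegree := fun f h0 => by
      obtain ⟨e, he, hmax⟩ := Finset.exists_max_image (φ f).support (fun e => e.degree) (support_nonempty.2 h0)
      have : (φ f).totalDegree = e.degree := le_antisymm (Finset.sup_le fun e' he' => hmax e' he') (le_totalDegree he)
      rw [this]
      exact degree_dvd F hd hdn τ f (mem_support_iff.1 he)
    obtain ⟨i, hi⟩ := hdvd f hf0
    obtain ⟨j, hj⟩ := hdvd g hg0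
    rcases Nat.eq_zero_or_pos i with rfl | hi0
    · exact Or.inl (key f (by rw [hi, mul_zero]) hf0)
    · rcases Nat.eq_zero_or_pos j with rfl | hj0
      · exact Or.inr (key g (by rw [hj, mul_zero]) hg0)
      · have : d ≤ d * i := Nat.le_mul_of_pos_right d hi0
        have : d ≤ d * j := Nat.le_mul_of_pos_right d hj0
        omega

theorem prime_X_iff (hd : 0 < d) (hdn : d < n) (τ : Idx d n) :
    Prime (Ideal.Quotient.mk (schubertVanishing F d n τ) (X τ)) ↔ (divisors τ).Subsingleton := by
  classical
  by_cases hex : ∃ φ : Idx d n, φ < τ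
  swap
  · have hdiv : divisors τ = ∅ := Set.eq_empty_of_forall_notMem fun φ hφ => hex ⟨φ, hφ.1⟩
    have hbot : τ = botIdx hdn :=
      ((botIdx_le hdn τ).eq_or_lt.resolve_right fun h => hex ⟨_, h⟩).symm
    rw [hdiv]
    refine iff_of_true ?_ Set.subsingleton_empty
    subst hbot
    exact prime_X_botIdx F hd hdn _
  haveI := schubertVanishing_isPrime F hd hdn τ
  have hne : Ideal.Quotient.mk (schubertVanishing F d n τ) (X τ) ≠ 0 := fun h =>
    X_notMem_schubertVanishing F hdn le_rfl (Ideal.Quotient.eq_zero_iff_mem.1 h)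
  rw [← Ideal.span_singleton_prime hne]
  have hmap : Ideal.span {Ideal.Quotient.mk (schubertVanishing F d n τ) (X τ)} =
      Ideal.map (Ideal.Quotient.mk (schubertVanishing F d n τ))
        (schubertVanishing F d n τ ⊔ Ideal.span {X τ}) := by
    rw [Ideal.map_sup, Ideal.map_quotient_self, bot_sup_eq, Ideal.map_span, Set.image_singleton]
  rw [hmap]
  obtain ⟨φ₀, hφ₀⟩ := hex
  obtain ⟨φ, hφ, -⟩ := Groth.Agent.S11268.result d n φ₀ τ hφ₀
  constructor
  · intro hP
    have hI := Ideal.comap_isPrime (Ideal.Quotient.mk (schubertVanishing F d n τ))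
      (Ideal.map (Ideal.Quotient.mk (schubertVanishing F d n τ)) (schubertVanishing F d n τ ⊔ Ideal.span {X τ}))
    rw [Ideal.comap_map_of_surjective _ Ideal.Quotient.mk_surjective, ← RingHom.ker_eq_comap_bot,
      Ideal.mk_ker, sup_eq_left.2 le_sup_left, sup_span_top_eq_iInf F hd hdn τ ⟨φ₀, hφ₀⟩] at hI
    set T := Finset.univ.filter (fun φ : Idx d n => φ ∈ divisors τ)
    have hT : (⨅ φ ∈ divisors τ, schubertVanishing F d n φ) = T.inf (schubertVanishing F d n) := by
      rw [Finset.inf_eq_iInf]; simp [T]
    obtain ⟨χ, hχ, hle⟩ := hI.inf_le'.1 hT.ge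
    have hχ' : χ ∈ divisors τ := (Finset.mem_filter.1 hχ).2
    intro α hα β hβ
    have key : ∀ ψ ∈ divisors τ, ψ = χ := by
      intro ψ hψ
      have h2 : schubertVanishing F d n χ ≤ schubertVanishing F d n ψ := hle.trans (iInf₂_le ψ hψ)
      have hψle : ψ ≤ χ := by
        by_contra hn
        exact X_notMem_schubertVanishing F hdn le_rfl (h2 (X_mem_schubertVanishing F hn))
      refine eq_of_le_of_wsum_le hψle ?_
      have h3 := hψ.2
      have h4 := hχ'.2
      have h5 : ∀ θ : Idx d n, codeg θ + ∑ t : Fin d, t.val = wsum θ := fun θ => by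
        rw [codeg, wsum, ← Finset.sum_add_distrib]
        exact Finset.sum_congr rfl fun t _ => Nat.sub_add_cancel (val_le_idx θ t)
      rw [← h5, ← h5]; omega
    rw [key α hα, key β hβ]
  · intro hsub
    have hI : (schubertVanishing F d n τ ⊔ Ideal.span {X τ}).IsPrime := by
      rw [sup_span_top_eq_iInf F hd hdn τ ⟨φ₀, hφ₀⟩, hsub.eq_singleton_of_mem hφ, _root_.iInf_singleton]
      exact schubertVanishing_isPrime F hd hdn φ
    exact Ideal.map_isPrime_of_surjective Ideal.Quotient.mk_surjective (by rw [Ideal.mk_ker]; exact le_sup_left)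

/-- The coordinate `t` of `τ` can be lowered. -/
def CanLower (τ : Idx d n) (t : Fin d) : Prop :=
  0 < (τ.1 t).val ∧ ∀ t' : Fin d, t'.val + 1 = t.val → (τ.1 t').val + 1 < (τ.1 t).val

theorem divisor_lower {τ φ : Idx d n} (hφ : φ ∈ divisors τ) :
    ∃ t, CanLower τ t ∧ (φ.1 t).val + 1 = (τ.1 t).val ∧ ∀ s, s ≠ t → φ.1 s = τ.1 s := by
  classical
  obtain ⟨hlt, hc⟩ := hφ
  have hcod : ∀ θ : Idx d n, codeg θ + ∑ t : Fin d, t.val = wsum θ := fun θ => by
    rw [codeg, wsum, ← Finset.sum_add_distrib]
    exact Finset.sum_congr rfl fun t _ => Nat.sub_add_cancel (val_le_idx θ t)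
  obtain ⟨t, ht⟩ : ∃ t, φ.1 t < τ.1 t := by
    by_contra hc'
    push Not at hc'
    exact hlt.not_ge hc'
  have hle : ∀ s, (φ.1 s).val ≤ (τ.1 s).val := fun s => hlt.le s
  have hsum := hcod φ
  have hsum' := hcod τ
  rw [wsum, ← Finset.add_sum_erase Finset.univ (fun s => (φ.1 s).val) (Finset.mem_univ t)] at hsum
  rw [wsum, ← Finset.add_sum_erase Finset.univ (fun s => (τ.1 s).val) (Finset.mem_univ t)] at hsum'
  have hle' : ∑ s ∈ Finset.univ.erase t, (φ.1 s).val ≤ ∑ s ∈ Finset.univ.erase t, (τ.1 s).val :=
    Finset.sum_le_sum fun s _ => hle s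
  have ht' := Fin.lt_def.1 ht
  refine ⟨t, ⟨by omega, fun t' h => ?_⟩, by omega, fun s hs => Fin.ext ?_⟩
  · have h1 := Fin.lt_def.1 (φ.2 (show t' < t from Fin.lt_def.2 (by omega)))
    have h2 : (φ.1 t').val = (τ.1 t').val :=
      (Finset.sum_eq_sum_iff_of_le (s := Finset.univ.erase t) (fun s _ => hle s)).1 (by omega) t'
        (Finset.mem_erase.2 ⟨by intro e; subst e; omega, Finset.mem_univ _⟩)
    omega
  · exact (Finset.sum_eq_sum_iff_of_le (s := Finset.univ.erase t) (fun s _ => hle s)).1 (by omega) s (Finset.mem_erase.2 ⟨hs, Finset.mem_univ _⟩)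

theorem exists_divisor_of_canLower (τ : Idx d n) (t : Fin d) (h : CanLower τ t) :
    ∃ φ ∈ divisors τ, (φ.1 t).val + 1 = (τ.1 t).val := by
  classical
  let v : Fin n := ⟨(τ.1 t).val - 1, by omega⟩
  have hmono : StrictMono (Function.update τ.1 t v) := by
    intro a b hab
    have hab' := Fin.lt_def.1 (τ.2 hab)
    rw [Fin.lt_def]
    rcases eq_or_ne b t with rfl | hb
    · rw [Function.update_self, Function.update_of_ne hab.ne]
      rcases eq_or_lt_of_le (show a.val + 1 ≤ b.val from Fin.lt_def.1 hab) with e | e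
      · have := h.2 a e
        simp only [v]; omega
      · have h1 := Fin.lt_def.1 (τ.2 (show a < ⟨b.val - 1, by omega⟩ from Fin.lt_def.2 (by simp only; omega)))
        have h2 := h.2 ⟨b.val - 1, by omega⟩ (by simp only; omega)
        simp only [v]; omega
    · rw [Function.update_of_ne hb]
      rcases eq_or_ne a t with rfl | ha
      · rw [Function.update_self]; simp only [v]; omega
      · rw [Function.update_of_ne ha]; exact hab'
  let φ : Idx d n := ⟨Function.update τ.1 t v, hmono⟩
  have hle : φ ≤ τ := fun s => by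
    change Function.update τ.1 t v s ≤ τ.1 s
    rcases eq_or_ne s t with rfl | hs
    · rw [Function.update_self, Fin.le_def]; simp only [v]; omega
    · rw [Function.update_of_ne hs]
  refine ⟨φ, ⟨lt_of_le_of_ne hle fun e => ?_, ?_⟩, ?_⟩
  · have := congrArg (fun θ : Idx d n => (θ.1 t).val) e
    simp only [φ, Function.update_self, v] at this
    have := h.1
    omega
  · unfold codeg
    rw [← Finset.add_sum_erase _ _ (Finset.mem_univ t), ← Finset.add_sum_erase _ _ (Finset.mem_univ t)]
    have e : ∀ s ∈ Finset.univ.erase t, (φ.1 s).val - s.val = (τ.1 s).val - s.val := fun s hs => by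
      simp only [φ, Function.update_of_ne (Finset.mem_erase.1 hs).1]
    rw [Finset.sum_congr rfl e]
    simp only [φ, Function.update_self, v]
    have h1 := val_le_idx φ t
    simp only [φ, Function.update_self, v] at h1
    have := h.1
    omega
  · simp only [φ, Function.update_self, v]
    have := h.1
    omega

theorem subsingleton_divisors_iff (τ : Idx d n) :
    (divisors τ).Subsingleton ↔
      ∃ s : ℕ, (∀ t : Fin d, t.val < s → (τ.1 t).val = t.val) ∧
        ∀ t t' : Fin d, s ≤ t.val → t.val + 1 = t'.val → (τ.1 t).val + 1 = (τ.1 t').val := by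
  classical
  constructor
  · intro hsub
    by_cases hall : ∀ t : Fin d, (τ.1 t).val = t.val
    · exact ⟨0, fun t _ => hall t, fun t t' _ h => by rw [hall, hall, h]⟩
    push Not at hall
    set S := Finset.univ.filter fun t : Fin d => (τ.1 t).val ≠ t.val
    have hS : S.Nonempty := by
      obtain ⟨t, ht⟩ := hall
      exact ⟨t, Finset.mem_filter.2 ⟨Finset.mem_univ _, ht⟩⟩
    set s₀ := S.min' hS
    have hs₀ : (τ.1 s₀).val ≠ s₀.val := (Finset.mem_filter.1 (S.min'_mem hS)).2
    have hbefore : ∀ t : Fin d, t.val < s₀.val → (τ.1 t).val = t.val := fun t ht => by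
      by_contra hne
      exact absurd (Fin.le_def.1 (S.min'_le t (Finset.mem_filter.2 ⟨Finset.mem_univ _, hne⟩))) (not_le.2 ht)
    have h₀ : CanLower τ s₀ := by
      have h1 := val_le_idx τ s₀
      exact ⟨by omega, fun t' ht' => by have := hbefore t' (by omega); omega⟩
    refine ⟨s₀.val, hbefore, fun t t' hst htt => ?_⟩
    by_contra hne
    have h1 := Fin.lt_def.1 (τ.2 (show t < t' from Fin.lt_def.2 (by omega)))
    have h' : CanLower τ t' := ⟨by omega, fun u hu => by
      obtain rfl : u = t := Fin.ext (by omega)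
      omega⟩
    obtain ⟨φ, hφ, hφt⟩ := exists_divisor_of_canLower τ s₀ h₀
    obtain ⟨ψ, hψ, hψt⟩ := exists_divisor_of_canLower τ t' h'
    obtain ⟨u, -, hu, huo⟩ := divisor_lower hφ
    have e := hsub hφ hψ
    subst e
    have e1 : s₀ = u := by
      by_contra hne'
      have := congrArg Fin.val (huo s₀ hne'); omega
    have e2 : t' = u := by
      by_contra hne'
      have := congrArg Fin.val (huo t' hne'); omega
    have := congrArg Fin.val (e1.trans e2.symm)
    omega
  · rintro ⟨s, hs1, hs2⟩ φ hφ ψ hψ
    have key : ∀ t, CanLower τ t → t.val = s := by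
      intro t ht
      rcases lt_trichotomy t.val s with h | h | h
      · exfalso
        have h1 := hs1 t h
        rcases Nat.eq_zero_or_pos t.val with h0 | h0
        · have := ht.1; omega
        · have h2 := hs1 ⟨t.val - 1, by omega⟩ (by simp only; omega)
          have h3 := ht.2 ⟨t.val - 1, by omega⟩ (by simp only; omega)
          simp only at h2
          omega
      · exact h
      · exfalso
        have h2 := hs2 ⟨t.val - 1, by omega⟩ t (by simp only; omega) (by simp only; omega)
        have h3 := ht.2 ⟨t.val - 1, by omega⟩ (by simp only; omega)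
        omega
    obtain ⟨t, ht, hta, hto⟩ := divisor_lower hφ
    obtain ⟨t', ht', hta', hto'⟩ := divisor_lower hψ
    obtain rfl : t = t' := Fin.ext ((key t ht).trans (key t' ht').symm)
    refine Subtype.ext (funext fun u => ?_)
    rcases eq_or_ne u t with rfl | hu
    · exact Fin.ext (by omega)
    · rw [hto u hu, hto' u hu]

end Groth.Agent.Grass54
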