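import Mathlib
import Groth.Agent.Grass54.CMFree
import Groth.Agent.GrCI54.Sop
import Groth.Agent.EGA4Alg4.CMMod

/-!
A cone is Cohen–Macaulay as soon as it is so at its vertex.
-/

set_option autoImplicit false
universe u

open MvPolynomial Pointwise RingTheory.Sequence IsLocalRing
open Groth.Agent.EGA4Alg4

attribute [local instance] MvPolynomial.weightedGradedAlgebra

namespace Groth.Agent.Grass54

variable {K : Type u} [Field K] [Infinite K] {N : ℕ}

/-- The linear form of a coefficient vector. -/
noncomputable def linForm : (Fin N → K) →ₗ[K] MvPolynomial (Fin N) K :=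
  Fintype.linearCombination K fun i => X i

omit [Infinite K] in
theorem isHomogeneous_linForm (v : Fin N → K) : (linForm v).IsHomogeneous 1 := by
  rw [linForm, Fintype.linearCombination_apply]
  exact IsHomogeneous.sum _ _ _ fun i _ => by rw [smul_eq_C_mul]; exact (isHomogeneous_X K i).C_mul _

theorem exists_linForms {L : Type u} [CommRing L] [IsLocalRing L] [IsNoetherianRing L]
    (π : MvPolynomial (Fin N) K →+* L) (hspanX : maximalIdeal L = Ideal.span (Set.range fun i => π (X i)))
    (j : ℕ) (hj : (j : ℕ∞) ≤ LocCoh.depth L L) :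
    ∃ f : Fin j → (Fin N → K), IsWeaklyRegular L (List.ofFn fun i => π (linForm (f i))) := by
  induction j with
  | zero => exact ⟨Fin.elim0, by rw [List.ofFn_zero]; exact IsWeaklyRegular.nil _ _⟩
  | succ j ih =>
    obtain ⟨f, hf⟩ := ih (le_trans (by exact_mod_cast Nat.le_succ j) hj)
    set xs := List.ofFn fun i => π (linForm (f i)) with hxs
    have hxm : ∀ x ∈ xs, x ∈ maximalIdeal L := by
      intro x hx
      obtain ⟨i, rfl⟩ := List.mem_ofFn.1 hx
      rw [hspanX, linForm, Fintype.linearCombination_apply, map_sum]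
      refine Ideal.sum_mem _ fun k _ => ?_
      rw [smul_eq_C_mul, map_mul]
      exact Ideal.mul_mem_left _ _ (Ideal.subset_span ⟨k, rfl⟩)
    set M := L ⧸ (Ideal.ofList xs • (⊤ : Submodule L L))
    haveI : Nontrivial M := nontrivial_quotient_ofList hxm
    have hdep : LocCoh.depth L M ≠ 0 := by
      intro h0
      have h := depth_quotient_add_length (M := L) hf hxm
      rw [h0, zero_add, List.length_ofFn] at h
      rw [← h] at hj
      exact absurd (show j + 1 ≤ j by exact_mod_cast hj) (by omega)
    obtain ⟨v, hv⟩ : ∃ v : Fin N → K, IsSMulRegular M (π (linForm v)) := by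
      by_contra hcon
      push Not at hcon
      let π' : MvPolynomial (Fin N) K →+* L := π
      let W : associatedPrimes L M → Submodule K (Fin N → K) := fun p =>
        { carrier := {v | π' (linForm v) ∈ p.1}
          add_mem' := fun {a b} ha hb => by
            simp only [Set.mem_ofPred_eq, map_add] at ha hb ⊢
            exact p.1.add_mem ha hb
          zero_mem' := by simp
          smul_mem' := fun c v hv => by
            simp only [Set.mem_ofPred_eq, map_smul, smul_eq_C_mul, map_mul] at hv ⊢
            exact p.1.mul_mem_left _ hv }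
      haveI : Finite (associatedPrimes L M) := (associatedPrimes.finite L M).to_subtype
      obtain ⟨⟨p, hp⟩, htop⟩ := Subspace.exists_eq_top_of_iUnion_eq_univ (p := W) (by
        rw [Set.eq_univ_iff_forall]
        intro v
        have : π (linForm v) ∈ ⋃ q ∈ associatedPrimes L M, (q : Set L) := by
          rw [biUnion_associatedPrimes_eq_compl_regular L]; exact hcon v
        obtain ⟨q, hq, hvq⟩ := Set.mem_iUnion₂.1 this
        exact Set.mem_iUnion.2 ⟨⟨q, hq⟩, hvq⟩)
      apply hdep
      rw [depth_eq_zero_iff]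
      have hle : maximalIdeal L ≤ p := by
        rw [hspanX, Ideal.span_le]
        rintro _ ⟨i, rfl⟩
        classical
        have h1 : Pi.single i (1 : K) ∈ W ⟨p, hp⟩ := by rw [htop]; trivial
        have h2 : linForm (Pi.single i (1 : K)) = (X i : MvPolynomial (Fin N) K) := by
          rw [linForm, Fintype.linearCombination_apply_single, one_smul]
        change π' (linForm (Pi.single i (1 : K))) ∈ p at h1
        rw [h2] at h1
        exact h1
      rwa [(maximalIdeal.isMaximal L).eq_of_le hp.isPrime.ne_top hle]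
    refine ⟨Fin.snoc f v, ?_⟩
    rw [List.ofFn_succ', List.concat_eq_append, isWeaklyRegular_append_iff, isWeaklyRegular_singleton_iff]
    have e : (fun i : Fin j => π (linForm ((Fin.snoc f v : Fin (j + 1) → Fin N → K) i.castSucc))) =
        fun i => π (linForm (f i)) := funext fun i => by rw [Fin.snoc_castSucc]
    rw [e, Fin.snoc_last]
    exact ⟨hf, hv⟩

theorem cm_of_vertex_aux {L : Type u} [CommRing L] [IsLocalRing L] [IsNoetherianRing L]
    (π : MvPolynomial (Fin N) K →+* L) (hspanX : maximalIdeal L = Ideal.span (Set.range fun i => π (X i)))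
    (T : Set (MvPolynomial (Fin N) K)) (hT : ∀ f ∈ T, ∃ k : ℕ, f.IsHomogeneous k)
    (hreflect : ∀ (G : Set (MvPolynomial (Fin N) K)), (∀ g ∈ G, ∃ k : ℕ, g.IsHomogeneous k) →
      ∀ x, π x ∈ Ideal.span (π '' G) → x ∈ Ideal.span T ⊔ Ideal.span G)
    (hT0 : ∀ f ∈ Ideal.span T, π f = 0)
    (hCM : LocCoh.IsCohenMacaulayModule L L) :
    LocCoh.IsCohenMacaulayRing (MvPolynomial (Fin N) K ⧸ Ideal.span T) := by
  classical
  obtain ⟨e, he⟩ := exists_depth_eq (A := L) (M := L)
  obtain ⟨f, hf⟩ := exists_linForms π hspanX e he.ge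
  set P : Fin e → MvPolynomial (Fin N) K := fun i => linForm (f i)
  have hmem : ∀ v : Fin N → K, π (linForm v) ∈ maximalIdeal L := fun v => by
    rw [hspanX, linForm, Fintype.linearCombination_apply, map_sum]
    refine Ideal.sum_mem _ fun k _ => ?_
    rw [smul_eq_C_mul, map_mul]
    exact Ideal.mul_mem_left _ _ (Ideal.subset_span ⟨k, rfl⟩)
  have hreg : IsWeaklyRegular (MvPolynomial (Fin N) K ⧸ Ideal.span T) (List.ofFn P) := by
    refine (isWeaklyRegular_map_algebraMap_iff (MvPolynomial (Fin N) K ⧸ Ideal.span T)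
      (MvPolynomial (Fin N) K ⧸ Ideal.span T) _).1 ?_
    rw [List.map_ofFn]
    refine GrCI54.isWeaklyRegular_of_cancel fun i x hx => ?_
    obtain ⟨x, rfl⟩ := Ideal.Quotient.mk_surjective x
    have hL := Ideal.mem_map_of_mem (Ideal.Quotient.lift (Ideal.span T) π hT0) hx
    rw [map_mul, Ideal.map_span, Set.image_image] at hL
    have h1 := GrCI54.reg_of_isWeaklyRegular hf i (π x) (by exact hL)
    have h2 := hreflect (P '' {j | j < i}) (by rintro _ ⟨j, -, rfl⟩; exact ⟨1, isHomogeneous_linForm _⟩) x
      (by rw [Set.image_image]; exact h1)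
    have h3 := Ideal.mem_map_of_mem (Ideal.Quotient.mk (Ideal.span T)) h2
    rw [Ideal.map_sup, Ideal.map_quotient_self, bot_sup_eq, Ideal.map_span, Set.image_image] at h3
    exact h3
  set J := Ideal.span T ⊔ Ideal.span (Set.range P)
  have hxm : ∀ x ∈ List.ofFn (fun i => π (P i)), x ∈ maximalIdeal L := by
    intro x hx
    obtain ⟨i, rfl⟩ := List.mem_ofFn.1 hx
    exact hmem _
  have hrad : ∀ k : Fin N, ∃ r : ℕ, (X k : MvPolynomial (Fin N) K) ^ r ∈ J := by
    intro k
    have h1 := isCohenMacaulayModule_quotient hCM hf hxm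
    have h2 := depth_quotient_add_length (M := L) hf hxm
    rw [List.length_ofFn, he] at h2
    set M := L ⧸ (Ideal.ofList (List.ofFn fun i => π (P i)) • (⊤ : Submodule L L))
    haveI : Nontrivial M := nontrivial_quotient_ofList hxm
    obtain ⟨a, ha⟩ := exists_depth_eq (A := L) (M := M)
    rw [ha] at h2
    have ha0 : a = 0 := by
      have : a + e = e := by exact_mod_cast h2
      omega
    rw [LocCoh.IsCohenMacaulayModule, ha, ha0] at h1
    have hid : (Ideal.ofList (List.ofFn fun i => π (P i)) • (⊤ : Submodule L L)) =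
        Ideal.span (π '' Set.range P) := by
      rw [smul_eq_mul, Ideal.mul_top, Ideal.ofList, ← Set.range_comp]
      congr 1
      ext y
      simp [List.mem_ofFn]
    have hdim : ringKrullDim (L ⧸ Ideal.span (π '' Set.range P)) ≤ 0 := by
      rw [← Module.supportDim_quotient_eq_ringKrullDim, ← hid]
      exact h1.le
    have hrad' : maximalIdeal L ≤ (Ideal.span (π '' Set.range P)).radical := by
      rw [Ideal.radical_eq_sInf]
      refine le_sInf fun q hq => ?_
      haveI := hq.2
      haveI : Ring.KrullDimLE 0 (L ⧸ Ideal.span (π '' Set.range P)) := Ring.krullDimLE_iff.2 (by exact_mod_cast hdim)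
      haveI : (q.map (Ideal.Quotient.mk (Ideal.span (π '' Set.range P)))).IsPrime :=
        Ideal.map_isPrime_of_surjective Ideal.Quotient.mk_surjective (by rw [Ideal.mk_ker]; exact hq.1)
      have hmax := Ideal.isMaximal_of_isPrime (q.map (Ideal.Quotient.mk (Ideal.span (π '' Set.range P))))
      have hq' : q.IsMaximal := by
        have hh := Ideal.comap_isMaximal_of_surjective (Ideal.Quotient.mk (Ideal.span (π '' Set.range P)))
          Ideal.Quotient.mk_surjective (K := q.map (Ideal.Quotient.mk (Ideal.span (π '' Set.range P))))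
        rwa [Ideal.comap_map_of_surjective _ Ideal.Quotient.mk_surjective, ← RingHom.ker_eq_comap_bot,
          Ideal.mk_ker, sup_eq_left.2 hq.1] at hh
      rw [IsLocalRing.eq_maximalIdeal hq']
    have hXm : π (X k) ∈ maximalIdeal L := by rw [hspanX]; exact Ideal.subset_span ⟨k, rfl⟩
    obtain ⟨r, hr⟩ := hrad' hXm
    rw [← map_pow] at hr
    exact ⟨r, hreflect _ (by rintro _ ⟨j, rfl⟩; exact ⟨1, isHomogeneous_linForm _⟩) _ hr⟩
  haveI : Module.Finite K (MvPolynomial (Fin N) K ⧸ J) := by
    haveI : Algebra.IsIntegral K (MvPolynomial (Fin N) K ⧸ J) := by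
      refine ⟨fun y => ?_⟩
      obtain ⟨p, rfl⟩ := Ideal.Quotient.mk_surjective y
      induction p using MvPolynomial.induction_on with
      | C a => exact (isIntegral_algebraMap : IsIntegral K (algebraMap K (MvPolynomial (Fin N) K ⧸ J) a))
      | add p q hp hq => rw [map_add]; exact hp.add hq
      | mul_X p k hp =>
        rw [map_mul]
        refine hp.mul ?_
        obtain ⟨r, hr⟩ := hrad k
        refine IsIntegral.of_pow (n := r + 1) (Nat.succ_pos _) ?_
        rw [← map_pow, Ideal.Quotient.eq_zero_iff_mem.2 (by rw [pow_succ]; exact J.mul_mem_right _ hr)]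
        exact isIntegral_zero
    exact Algebra.IsIntegral.finite
  exact cm_of_parameters (isHomog_span hT) (fun i => isHomogeneous_linForm _) hreg
    (finite_parMap (isHomog_span hT) (fun i => isHomogeneous_linForm _) hreg)

theorem ker_constantCoeff :
    RingHom.ker (constantCoeff : MvPolynomial (Fin N) K →+* K) =
      Ideal.span (Set.range (X : Fin N → MvPolynomial (Fin N) K)) := by
  refine le_antisymm (fun f hf => ?_) (Ideal.span_le.2 ?_)
  · rw [← Set.image_univ, mem_ideal_span_X_image]
    intro e he
    by_contra hall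
    push Not at hall
    obtain rfl : e = 0 := Finsupp.ext fun i => hall i trivial
    exact mem_support_iff.1 he hf
  · rintro _ ⟨i, rfl⟩
    exact constantCoeff_X K i

theorem cm_of_vertex (I : Ideal (MvPolynomial (Fin N) K))
    (hI : ∃ T : Set (MvPolynomial (Fin N) K), (∀ f ∈ T, ∃ k : ℕ, f.IsHomogeneous k) ∧ I = Ideal.span T)
    (m : Ideal (MvPolynomial (Fin N) K ⧸ I)) [m.IsPrime]
    (hm : m = (RingHom.ker (constantCoeff : MvPolynomial (Fin N) K →+* K)).map (Ideal.Quotient.mk I))
    (hcm : LocCoh.IsCohenMacaulayLocalRing (Localization.AtPrime m)) :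
    LocCoh.IsCohenMacaulayRing (MvPolynomial (Fin N) K ⧸ I) := by
  classical
  obtain ⟨T, hT, rfl⟩ := hI
  haveI : IsNoetherianRing (Localization.AtPrime m) := IsLocalization.isNoetherianRing m.primeCompl _ inferInstance
  refine cm_of_vertex_aux ((algebraMap (MvPolynomial (Fin N) K ⧸ Ideal.span T) (Localization.AtPrime m)).comp
    (Ideal.Quotient.mk (Ideal.span T))) ?_ T hT ?_
    (fun f hf => by rw [RingHom.comp_apply, Ideal.Quotient.eq_zero_iff_mem.2 hf, map_zero]) hcm.supportDim_eq_depth
  · rw [← IsLocalization.AtPrime.map_eq_maximalIdeal m (Localization.AtPrime m)]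
    refine (congrArg (Ideal.map (algebraMap _ (Localization.AtPrime m))) hm).trans ?_
    rw [Ideal.map_map, ker_constantCoeff, Ideal.map_span, ← Set.range_comp]
    rfl
  · intro G hG x hx
    rw [← Ideal.map_span, ← Ideal.map_map, RingHom.comp_apply,
      IsLocalization.algebraMap_mem_map_algebraMap_iff m.primeCompl] at hx
    obtain ⟨s, hs, hsx⟩ := hx
    obtain ⟨s, rfl⟩ := Ideal.Quotient.mk_surjective s
    rw [← map_mul, ← Ideal.mem_comap, Ideal.comap_map_of_surjective _ Ideal.Quotient.mk_surjective,
      ← RingHom.ker_eq_comap_bot, Ideal.mk_ker, sup_comm] at hsx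
    rw [← Ideal.span_union] at hsx ⊢
    refine GrCI54.mem_of_mul_mem (1 : Fin N → ℕ) (fun _ => Nat.one_pos) ?_
      (fun h0 => hs (hm ▸ Ideal.mem_map_of_mem _ h0)) hsx
    refine Ideal.homogeneous_span _ _ fun g hg => ?_
    rcases hg with hg | hg
    · exact hT g hg
    · exact hG g hg

end Groth.Agent.Grass54
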